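import Cfsg.Agent.BlockPairing.RegularInner
import Cfsg.Agent.BlocksLocal.Support
import Cfsg.Agent.PRational.Basic

/-!
# Contributions of the trivial subsection

For a block `B` of defect `d` the numbers `contrib p B χ ψ = p ^ d * [χ, ψ]°` are integers forming a
symmetric matrix with square `p ^ d` times itself; `p ^ ht χ` divides the row at `χ`, exactly so in
the columns of height zero.
-/

set_option autoImplicit false
set_option linter.unusedSectionVars false
set_option linter.style.haveILetI false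

namespace CfsgLib.Contributions

open Cfsg
open CfsgLib.Blocks CfsgLib.BlockPairing
open scoped ComplexConjugate

universe u

variable {G : Type u} [Group G] [Fintype G] {M : Ideal AlgInt} [M.IsPrime]
variable {p : ℕ} [hp : Fact p.Prime]

open Classical in
/-- The integer `p ^ d * [χ, ψ]°`. -/
noncomputable def contrib (p : ℕ) (B : Set (IrrCharacter G)) (χ ψ : IrrCharacter G) : ℤ :=
  if h : ∃ z : ℤ, ((p ^ Cfsg.blockDefect p B : ℕ) : ℂ) * regInner p (χ : G → ℂ) ψ = z then h.choose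
  else 0

variable {B : Set (IrrCharacter G)} {χ ψ : IrrCharacter G}

theorem cast_contrib (hχ : χ ∈ B) (ψ : IrrCharacter G) :
    (contrib p B χ ψ : ℂ) = ((p ^ Cfsg.blockDefect p B : ℕ) : ℂ) * regInner p (χ : G → ℂ) ψ := by
  have h := exists_int_pow_defect (p := p) hχ ψ
  rw [contrib, dif_pos h]
  exact h.choose_spec.symm

theorem contrib_symm (hχ : χ ∈ B) (hψ : ψ ∈ B) : contrib p B χ ψ = contrib p B ψ χ := by
  refine Int.cast_injective (α := ℂ) ?_
  rw [cast_contrib hχ, cast_contrib hψ, regInner_symm p χ ψ]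

theorem regInner_eq_classInner (p : ℕ) (χ ψ : G → ℂ) :
    regInner p χ ψ = Cfsg.classInner (BlocksLocal.regPart p χ) ψ := by
  rw [regInner, Cfsg.classInner]
  congr 1
  refine Finset.sum_congr rfl fun g _ => ?_
  simp only [BlocksLocal.regPart]
  split_ifs <;> simp

theorem regInner_eq_zero (hM : Cfsg.IsPModular p M) (hB : Cfsg.IsPBlock M B) (hχ : χ ∈ B)
    (hψ : ψ ∉ B) : regInner p (χ : G → ℂ) ψ = 0 := by
  rw [regInner_eq_classInner]
  refine BlocksLocal.classInner_regPart_eq_zero hM fun h => hψ ?_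
  rw [eq_blockOf_of_mem hB hχ]
  exact h

open Classical in
theorem sum_sq (hM : Cfsg.IsPModular p M) (hB : Cfsg.IsPBlock M B) (hχ : χ ∈ B) :
    ∑ ψ ∈ B.toFinset, contrib p B χ ψ ^ 2 =
      (p : ℤ) ^ Cfsg.blockDefect p B * contrib p B χ χ := by
  refine Int.cast_injective (α := ℂ) ?_
  push_cast
  rw [cast_contrib hχ χ, ← sum_regInner_sq (p := p) χ, Nat.cast_pow, Finset.mul_sum, Finset.mul_sum]
  refine (Finset.sum_congr rfl fun ψ _ => ?_).trans
    (Finset.sum_subset (Finset.subset_univ B.toFinset) fun ψ _ h => ?_)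
  · have h := congrArg conj (cast_contrib (p := p) hχ ψ)
    rw [map_intCast, map_mul, map_natCast] at h
    rw [sq]
    nth_rw 2 [h]
    rw [cast_contrib hχ ψ, Nat.cast_pow]
    ring
  · rw [regInner_eq_zero hM hB hχ (fun hh => h (Set.mem_toFinset.2 hh))]
    simp

theorem height_add (χ : IrrCharacter G) (hχ : χ ∈ B) :
    (Cfsg.charDegree (χ : G → ℂ)).factorization p + Cfsg.blockDefect p B =
      Cfsg.blockHeight p B (χ : G → ℂ) + (Nat.card G).factorization p := by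
  set f : IrrCharacter G → ℕ := fun φ => (Cfsg.charDegree (φ : G → ℂ)).factorization p
  have h1 : sInf (f '' B) ≤ f χ := Nat.sInf_le ⟨χ, hχ, rfl⟩
  obtain ⟨φ, -, hφ⟩ := Nat.sInf_mem (Set.image_nonempty.2 ⟨χ, hχ⟩ : (f '' B).Nonempty)
  have h2 : f φ ≤ (Nat.card G).factorization p :=
    (Nat.factorization_le_iff_dvd (charDegree_ne_zero φ) Nat.card_pos.ne').2 (charDegree_dvd_card φ) p
  rw [Cfsg.blockDefect, Cfsg.blockHeight]
  simp only [f] at h1 hφ h2
  omega

/-- The row at `χ` is divisible by `p ^ ht χ`, and exactly when the form is a unit. -/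
theorem height_spec (hM : Cfsg.IsPModular p M) (hχ : χ ∈ B) (ψ : IrrCharacter G) :
    (p : ℤ) ^ Cfsg.blockHeight p B (χ : G → ℂ) ∣ contrib p B χ ψ ∧
      (Cfsg.MemLocalIdeal M (regSum p (χ : G → ℂ) ψ) ↔
        (p : ℤ) ^ (Cfsg.blockHeight p B (χ : G → ℂ) + 1) ∣ contrib p B χ ψ) := by
  set h := Cfsg.blockHeight p B (χ : G → ℂ)
  set d := Cfsg.blockDefect p B
  set a := (Nat.card G).factorization p
  set v := (Cfsg.charDegree (χ : G → ℂ)).factorization p
  set m := Nat.card G / p ^ a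
  set n := Cfsg.charDegree (χ : G → ℂ) / p ^ v
  set z := contrib p B χ ψ
  have hm : p ^ a * m = Nat.card G := Nat.ordProj_mul_ordCompl_eq_self _ p
  have hn : p ^ v * n = Cfsg.charDegree (χ : G → ℂ) := Nat.ordProj_mul_ordCompl_eq_self _ p
  have hmp : ¬ p ∣ m := Nat.not_dvd_ordCompl hp.out Nat.card_pos.ne'
  have hnp : ¬ p ∣ n := Nat.not_dvd_ordCompl hp.out (charDegree_ne_zero χ)
  have hva : v + d = h + a := height_add χ hχ
  have hp0 : (p : ℂ) ≠ 0 := Nat.cast_ne_zero.2 hp.out.ne_zero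
  have key : ((p ^ h : ℕ) : ℂ) * (regSum p (χ : G → ℂ) ψ * n) = ((m : ℤ) * z : ℤ) := by
    have hz : (z : ℂ) = ((p ^ d : ℕ) : ℂ) * regInner p (χ : G → ℂ) ψ := cast_contrib hχ ψ
    have hχ1 : (χ : G → ℂ) 1 = ((p ^ v * n : ℕ) : ℂ) := by rw [hn, charDegree_cast]
    have hn0 : (n : ℂ) ≠ 0 := Nat.cast_ne_zero.2 fun h0 => hnp (h0 ▸ dvd_zero p)
    rw [regSum_eq, hχ1, ← hm]
    push_cast at hz ⊢
    rw [hz]
    field_simp
    calc (p : ℂ) ^ h * (p : ℂ) ^ a * m * regInner p (χ : G → ℂ) ψ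
        = (p : ℂ) ^ (h + a) * m * regInner p (χ : G → ℂ) ψ := by rw [pow_add]
      _ = _ := by rw [← hva, pow_add]; ring
  obtain ⟨w, hw⟩ := PRational.exists_int_of_isIntegral_of_mul
    ((isIntegral_regSum p χ ψ).mul (isIntegral_natCast n)) (pow_ne_zero h hp.out.ne_zero) key
  have hzw : (p : ℤ) ^ h * w = (m : ℤ) * z := by
    refine Int.cast_injective (α := ℂ) ?_
    rw [← key, hw]
    push_cast
    ring
  have hcop : ∀ j, IsCoprime ((p : ℤ) ^ j) (m : ℤ) := fun j => by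
    refine IsCoprime.pow_left ?_
    exact Int.isCoprime_iff_gcd_eq_one.2 (by
      simpa [Int.gcd] using (hp.out.coprime_iff_not_dvd.2 hmp).gcd_eq_one)
  refine ⟨(hcop h).dvd_of_dvd_mul_left ⟨w, hzw.symm⟩, ?_⟩
  have hI : Cfsg.MemLocalIdeal M (regSum p (χ : G → ℂ) ψ) ↔ (p : ℤ) ∣ w := by
    have h1 : Cfsg.MemLocalIdeal M (regSum p (χ : G → ℂ) ψ) ↔ Cfsg.MemLocalIdeal M (w : ℂ) := by
      rw [← hw]
      refine ⟨fun hh => memLocalIdeal_mul_right hh (memLocalRing_natCast n), fun hh => ?_⟩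
      have := memLocalIdeal_mul_right hh (memLocalRing_natCast_inv hM hnp)
      rwa [mul_assoc, mul_inv_cancel₀ (Nat.cast_ne_zero.2 (show n ≠ 0 from fun h0 => hnp (h0 ▸ dvd_zero p))),
        mul_one] at this
    rw [h1, Int.natCast_dvd]
    obtain ⟨k, e | e⟩ := w.eq_nat_or_neg <;> rw [e]
    · simpa using memLocalIdeal_natCast_iff hM k
    · simp only [Int.cast_neg, Int.cast_natCast, Int.natAbs_neg, Int.natAbs_natCast]
      exact ⟨fun hh => (memLocalIdeal_natCast_iff hM _).1 (by simpa using memLocalIdeal_neg hh),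
        fun hh => memLocalIdeal_neg ((memLocalIdeal_natCast_iff hM _).2 hh)⟩
  rw [hI]
  constructor
  · rintro ⟨w', rfl⟩
    refine (hcop (h + 1)).dvd_of_dvd_mul_left ⟨w', ?_⟩
    rw [← hzw, pow_succ]
    ring
  · intro hd'
    obtain ⟨z', hz'⟩ := hd'
    rw [hz', pow_succ] at hzw
    refine ⟨(m : ℤ) * z', mul_left_cancel₀ (pow_ne_zero h (Int.natCast_ne_zero.2 hp.out.ne_zero)) ?_⟩
    rw [hzw]
    ring

variable (hM : Cfsg.IsPModular p M) (hB : Cfsg.IsPBlock M B)
include hM hB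

theorem degree_le_of_height_zero (hχ : χ ∈ B) (h0 : Cfsg.blockHeight p B (χ : G → ℂ) = 0) :
    ∀ φ ∈ B, (Cfsg.charDegree (χ : G → ℂ)).factorization p ≤
      (Cfsg.charDegree (φ : G → ℂ)).factorization p := fun φ hφ => by
  have h1 := height_add (p := p) χ hχ
  have h2 := height_add (p := p) φ hφ
  omega

/-- Exact divisibility in the columns of height zero. -/
theorem not_dvd_of_height_zero (hχ : χ ∈ B) (hψ : ψ ∈ B)
    (h0 : Cfsg.blockHeight p B (ψ : G → ℂ) = 0) :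
    ¬ (p : ℤ) ^ (Cfsg.blockHeight p B (χ : G → ℂ) + 1) ∣ contrib p B χ ψ := fun hd =>
  regSum_not_mem_of_minimal hM hB hψ (degree_le_of_height_zero hM hB hψ h0) hχ
    ((height_spec hM hχ ψ).2.2 hd)

theorem dvd_of_height_pos (hχ : χ ∈ B) (hψ : ψ ∈ B)
    (h0 : Cfsg.blockHeight p B (ψ : G → ℂ) ≠ 0) :
    (p : ℤ) ^ (Cfsg.blockHeight p B (χ : G → ℂ) + 1) ∣ contrib p B χ ψ := by
  obtain ⟨φ, hφ, hmin, -⟩ := exists_minimal (p := p) hB
  have hφ0 : Cfsg.blockHeight p B (φ : G → ℂ) = 0 := by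
    have hle := le_csInf (Set.image_nonempty.2 ⟨φ, hφ⟩)
      (s := (fun φ : IrrCharacter G => (Cfsg.charDegree (φ : G → ℂ)).factorization p) '' B)
      (by rintro _ ⟨η, hη, rfl⟩; exact hmin η hη)
    rw [Cfsg.blockHeight]
    omega
  refine (height_spec hM hχ ψ).2.1 ?_
  have h1 : Cfsg.MemLocalIdeal M (regSum p (φ : G → ℂ) ψ) := by
    rw [(height_spec hM hφ ψ).2, contrib_symm hφ hψ, hφ0, zero_add]
    exact (pow_dvd_pow _ (Nat.one_le_iff_ne_zero.2 h0)).trans (height_spec hM hψ φ).1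
  have hsame : Cfsg.SameBlock M (φ : G → ℂ) (χ : G → ℂ) := by
    rw [eq_blockOf_of_mem hB hφ] at hχ
    exact hχ
  have := memLocalIdeal_sub h1 (memLocalIdeal_regSum_sub p hsame ψ)
  simpa using this

theorem contrib_ne_zero_of_height_zero (hχ : χ ∈ B) (hψ : ψ ∈ B)
    (h0 : Cfsg.blockHeight p B (ψ : G → ℂ) = 0) : contrib p B χ ψ ≠ 0 := fun h =>
  not_dvd_of_height_zero hM hB hχ hψ h0 (h ▸ dvd_zero _)

/-- In a row of height zero the entries are exactly divisible by the heights of the columns. -/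
theorem pow_height_le (hχ : χ ∈ B) (h0 : Cfsg.blockHeight p B (χ : G → ℂ) = 0) (hψ : ψ ∈ B) :
    (p : ℤ) ^ (2 * Cfsg.blockHeight p B (ψ : G → ℂ)) ≤ contrib p B χ ψ ^ 2 := by
  rw [contrib_symm hχ hψ, mul_comm 2, pow_mul]
  refine Int.le_of_dvd ?_ (pow_dvd_pow_of_dvd (height_spec hM hψ χ).1 2)
  exact sq_pos_iff.2 (contrib_ne_zero_of_height_zero hM hB hψ hχ h0)

open Classical in
theorem four_mul_sum_erase_le (hχ : χ ∈ B) :
    4 * ∑ ψ ∈ B.toFinset.erase χ, contrib p B χ ψ ^ 2 ≤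
      (p : ℤ) ^ (2 * Cfsg.blockDefect p B) := by
  have h := sum_sq hM hB hχ
  rw [← Finset.sum_erase_add _ _ (Set.mem_toFinset.2 hχ)] at h
  have h4 := sq_nonneg (2 * contrib p B χ χ - (p : ℤ) ^ Cfsg.blockDefect p B)
  rw [show (p : ℤ) ^ (2 * Cfsg.blockDefect p B) = ((p : ℤ) ^ Cfsg.blockDefect p B) ^ 2 by
    rw [← pow_mul, mul_comm]]
  nlinarith [h, h4]

open Classical in
/-- The Brauer-Feit inequality with heights. -/
theorem sum_pow_height_le :
    4 * ∑ ψ ∈ B.toFinset, p ^ (2 * Cfsg.blockHeight p B (ψ : G → ℂ)) ≤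
      p ^ (2 * Cfsg.blockDefect p B) + 4 := by
  obtain ⟨χ, hχ, hmin, -⟩ := exists_minimal (p := p) hB
  have h0 : Cfsg.blockHeight p B (χ : G → ℂ) = 0 := by
    have hle := le_csInf (Set.image_nonempty.2 ⟨χ, hχ⟩)
      (s := (fun φ : IrrCharacter G => (Cfsg.charDegree (φ : G → ℂ)).factorization p) '' B)
      (by rintro _ ⟨η, hη, rfl⟩; exact hmin η hη)
    rw [Cfsg.blockHeight]
    omega
  rw [← Finset.sum_erase_add _ _ (Set.mem_toFinset.2 hχ), h0, mul_zero, pow_zero]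
  have h1 := four_mul_sum_erase_le hM hB hχ
  have h2 : ((∑ ψ ∈ B.toFinset.erase χ, p ^ (2 * Cfsg.blockHeight p B (ψ : G → ℂ)) : ℕ) : ℤ) ≤
      ∑ ψ ∈ B.toFinset.erase χ, contrib p B χ ψ ^ 2 := by
    push_cast
    exact Finset.sum_le_sum fun ψ hψ =>
      pow_height_le hM hB hχ h0 (Set.mem_toFinset.1 (Finset.mem_of_mem_erase hψ))
  zify
  push_cast at h2
  linarith

/-- Heights are at most `d - 2`. -/
theorem height_add_two_le (hψ : ψ ∈ B) (h : Cfsg.blockHeight p B (ψ : G → ℂ) ≠ 0) :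
    Cfsg.blockHeight p B (ψ : G → ℂ) + 2 ≤ Cfsg.blockDefect p B := by
  classical
  obtain ⟨χ, hχ, hmin, -⟩ := exists_minimal (p := p) hB
  have h0 : Cfsg.blockHeight p B (χ : G → ℂ) = 0 := by
    have hle := le_csInf (Set.image_nonempty.2 ⟨χ, hχ⟩)
      (s := (fun φ : IrrCharacter G => (Cfsg.charDegree (φ : G → ℂ)).factorization p) '' B)
      (by rintro _ ⟨η, hη, rfl⟩; exact hmin η hη)
    rw [Cfsg.blockHeight]
    omega
  have hne : χ ≠ ψ := fun e => h (e ▸ h0)
  have h2 := four_mul_sum_erase_le hM hB hψ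
  have hs := sum_sq hM hB hψ
  rw [← Finset.sum_erase_add _ _ (Set.mem_toFinset.2 hψ)] at hs
  have hpos : 0 < ∑ φ ∈ B.toFinset.erase ψ, contrib p B ψ φ ^ 2 :=
    lt_of_lt_of_le (sq_pos_iff.2 (contrib_ne_zero_of_height_zero hM hB hψ hχ h0))
      (Finset.single_le_sum (f := fun φ => contrib p B ψ φ ^ 2) (fun _ _ => sq_nonneg _)
        (Finset.mem_erase.2 ⟨hne, Set.mem_toFinset.2 hχ⟩))
  set m := contrib p B ψ ψ
  set D := (p : ℤ) ^ Cfsg.blockDefect p B
  have hD : 0 < D := pow_pos (Int.natCast_pos.2 hp.out.pos) _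
  have hm : 0 < m := by nlinarith
  have hmD : m < D := by nlinarith
  have hle := (Int.le_of_dvd hm (dvd_of_height_pos hM hB hψ hψ h)).trans_lt hmD
  have := (pow_lt_pow_iff_right₀ (by exact_mod_cast hp.out.one_lt)).1 hle
  omega

open Classical in
/-- The Brauer-Feit bound for blocks with a character of positive height. -/
theorem two_mul_card_le (hψ : ψ ∈ B) (h : Cfsg.blockHeight p B (ψ : G → ℂ) ≠ 0) :
    2 * Nat.card B ≤ p ^ (2 * Cfsg.blockDefect p B - 2) := by
  set d := Cfsg.blockDefect p B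
  have hd := height_add_two_le hM hB hψ h
  have hp2 : 0 < p ^ 2 := pow_pos hp.out.pos 2
  have hp4 : 4 ≤ p ^ 2 := by nlinarith [hp.out.two_le]
  have hcard : Nat.card B = B.toFinset.card := by rw [Set.toFinset_card, Nat.card_eq_fintype_card]
  obtain ⟨χ, hχ, hmin, -⟩ := exists_minimal (p := p) hB
  set s0 := B.toFinset.filter fun φ : IrrCharacter G => Cfsg.blockHeight p B (φ : G → ℂ) = 0
  set s1 := B.toFinset.filter fun φ : IrrCharacter G => ¬ Cfsg.blockHeight p B (φ : G → ℂ) = 0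
  have hsplit : s0.card + s1.card = B.toFinset.card := Finset.card_filter_add_card_filter_not _
  -- the row at a character of positive height
  have h0 : 4 * (s0.card * p ^ 2) ≤ p ^ (2 * d) := by
    have h1 := four_mul_sum_erase_le hM hB hψ
    have h2 : ((s0.card * p ^ 2 : ℕ) : ℤ) ≤ ∑ φ ∈ B.toFinset.erase ψ, contrib p B ψ φ ^ 2 := by
      refine le_trans ?_ (Finset.sum_le_sum_of_subset_of_nonneg
        (show s0 ⊆ B.toFinset.erase ψ from fun φ hφ => Finset.mem_erase.2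
          ⟨fun e => h (e ▸ (Finset.mem_filter.1 hφ).2), (Finset.mem_filter.1 hφ).1⟩)
        fun φ _ _ => sq_nonneg _)
      push_cast
      rw [← nsmul_eq_mul]
      refine Finset.card_nsmul_le_sum _ _ _ fun φ hφ => ?_
      have hφB := Set.mem_toFinset.1 (Finset.mem_filter.1 hφ).1
      refine Int.le_of_dvd (sq_pos_iff.2 (contrib_ne_zero_of_height_zero hM hB hψ hφB
        (Finset.mem_filter.1 hφ).2)) (pow_dvd_pow_of_dvd ?_ 2)
      exact (dvd_pow_self _ h).trans (height_spec hM hψ φ).1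
    zify
    push_cast at h2
    linarith
  have h1 : 4 * (s1.card * p ^ 2) ≤ p ^ (2 * d) := by
    have h2 := sum_pow_height_le hM hB
    rw [← Finset.sum_filter_add_sum_filter_not B.toFinset
      (fun φ : IrrCharacter G => Cfsg.blockHeight p B (φ : G → ℂ) = 0)] at h2
    have h3 : s1.card * p ^ 2 ≤ ∑ φ ∈ s1, p ^ (2 * Cfsg.blockHeight p B (φ : G → ℂ)) := by
      rw [← smul_eq_mul]
      refine Finset.card_nsmul_le_sum _ _ _ fun φ hφ => Nat.pow_le_pow_right hp.out.pos ?_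
      have := Nat.one_le_iff_ne_zero.2 (Finset.mem_filter.1 hφ).2
      omega
    have h4 : 1 ≤ ∑ φ ∈ s0, p ^ (2 * Cfsg.blockHeight p B (φ : G → ℂ)) := by
      have hχ0 : χ ∈ s0 := Finset.mem_filter.2 ⟨Set.mem_toFinset.2 hχ, by
        have hle := le_csInf (Set.image_nonempty.2 ⟨χ, hχ⟩)
          (s := (fun φ : IrrCharacter G => (Cfsg.charDegree (φ : G → ℂ)).factorization p) '' B)
          (by rintro _ ⟨η, hη, rfl⟩; exact hmin η hη)
        rw [Cfsg.blockHeight]
        omega⟩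
      exact le_trans (Nat.one_le_pow _ _ hp.out.pos)
        (Finset.single_le_sum (f := fun φ : IrrCharacter G =>
          p ^ (2 * Cfsg.blockHeight p B (φ : G → ℂ))) (fun _ _ => Nat.zero_le _) hχ0)
    change 4 * (∑ φ ∈ s0, _ + ∑ φ ∈ s1, _) ≤ p ^ (2 * d) + 4 at h2
    omega
  have hpow : p ^ (2 * d) = p ^ (2 * d - 2) * p ^ 2 := by rw [← pow_add]; congr 1; omega
  rw [hcard, ← hsplit]
  rw [hpow] at h0 h1
  refine Nat.le_of_mul_le_mul_right (c := p ^ 2) ?_ hp2
  nlinarith [h0, h1]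

end CfsgLib.Contributions
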