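import Cfsg.Agent.BlockPairing.MajorBound

/-!
# The square bound for a block with all heights zero

The contributions of a major subsection form `p ^ d` times a projection of trace the rank, and
none of them vanishes, so the Galois average of each squared absolute value is at least one.
-/

set_option autoImplicit false
set_option linter.unusedSectionVars false
set_option linter.style.haveILetI false

namespace CfsgLib.MajorSubsection

open CfsgLib.Blocks CfsgLib.BlockPairing CfsgLib.CycloAverage Cfsg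
open scoped ComplexConjugate

universe u

variable {G : Type u} [Group G] [Fintype G]
variable {M : Ideal AlgInt} [M.IsPrime] {p : ℕ} [hp : Fact p.Prime] {z : G}
  {B : Set (IrrCharacter G)} {b : Set (IrrCharacter ↥(Subgroup.centralizer ({z} : Set G)))}
  [Fintype ↥(Subgroup.centralizer ({z} : Set G))] (D : Data M p z B b)

/-- The contribution of a pair of characters. -/
noncomputable def Data.contr (χ ψ : IrrCharacter G) : ℂ :=
  ∑ y : IrrCharacter ↥(Subgroup.centralizer ({z} : Set G)),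
    D.T χ y * conj ((D.n ψ y : ℂ) * D.ζ ^ D.j y)

theorem Data.contr_congr (hM : Cfsg.IsPModular p M) (χ ψ : IrrCharacter G) :
    Cfsg.MemLocalIdeal M (D.contr χ ψ - ((form D.C (D.n χ) (D.n ψ) : ℤ) : ℂ)) := by
  have e : D.contr χ ψ - ((form D.C (D.n χ) (D.n ψ) : ℤ) : ℂ) =
      ∑ y, ∑ x, (((D.n χ x * D.n ψ y * D.C x y : ℤ)) : ℂ) *
        (D.ζ ^ (D.j x + (p ^ (D.e + 1) - D.j y)) - 1) := by
    rw [form, Finset.sum_comm, Int.cast_sum, Data.contr, ← Finset.sum_sub_distrib]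
    refine Finset.sum_congr rfl fun y _ => ?_
    rw [Data.T, Finset.sum_mul, Int.cast_sum, ← Finset.sum_sub_distrib]
    refine Finset.sum_congr rfl fun x _ => ?_
    rw [map_mul, map_intCast, D.conj_zeta_pow _ (D.j_lt y).le, pow_add]
    push_cast; ring
  rw [e]
  exact memLocalIdeal_sum _ fun y _ => memLocalIdeal_sum _ fun x _ =>
    memLocalIdeal_mul_left (memLocalRing_intCast _) (D.memLocalIdeal_zeta_sub hM _)

open Classical in
theorem Data.contr_ne_zero (hM : Cfsg.IsPModular p M)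
    (hind : Cfsg.IsInducedBlock M (Subgroup.centralizer ({z} : Set G)) b B)
    (hdb : D.d = Cfsg.blockDefect p b) {χ ψ : IrrCharacter G} (hχ : χ ∈ B) (hψ : ψ ∈ B)
    (h0 : Cfsg.blockHeight p B (χ : G → ℂ) = 0) (h0' : Cfsg.blockHeight p B (ψ : G → ℂ) = 0) :
    D.contr χ ψ ≠ 0 := by
  obtain ⟨ξ, -, -, hrank, hK⟩ := D.exists_base hM hind hdb
  intro h
  have h1 := D.contr_congr hM χ ψ
  rw [h, zero_sub] at h1
  have h2 : (p : ℤ) ∣ form D.C (D.n χ) (D.n ψ) := by
    rw [← memLocalIdeal_intCast_iff hM]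
    simpa using memLocalIdeal_neg h1
  have h3 := dvd_sub (dvd_mul_of_dvd_left h2 (D.C ξ ξ)) (hrank (D.n χ) (D.n ψ))
  rw [sub_sub_cancel] at h3
  rcases (Nat.prime_iff_prime_int.1 hp.out).dvd_or_dvd h3 with h' | h'
  · exact hK χ hχ h0 h'
  · exact hK ψ hψ h0' h'

open Classical in
theorem Data.sum_sq_contr (hM : Cfsg.IsPModular p M) (hz : ∃ k, orderOf z = p ^ k)
    (hind : Cfsg.IsInducedBlock M (Subgroup.centralizer ({z} : Set G)) b B) :
    ∑ ψ ∈ B.toFinset, ∑ χ ∈ B.toFinset, D.contr χ ψ * conj (D.contr χ ψ) =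
      ((p ^ D.d : ℕ) : ℂ) ^ 2 * (Cfsg.blockRank p b : ℂ) := by
  have h1 : ∀ ψ : IrrCharacter G, ∑ χ ∈ B.toFinset, D.contr χ ψ * conj (D.contr χ ψ) =
      ((p ^ D.d : ℕ) : ℂ) * ∑ φ, conj ((D.n ψ φ : ℂ) * D.ζ ^ D.j φ) * D.T ψ φ := by
    intro ψ
    rw [Finset.sum_subset (Finset.subset_univ _) fun χ _ hχ => by
      rw [Data.contr, Finset.sum_eq_zero fun φ _ => by
        rw [D.T_eq_zero' hM hz hind (fun h => hχ (Set.mem_toFinset.2 h)), zero_mul], zero_mul]]
    simp only [Data.contr, map_sum, Finset.sum_mul]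
    rw [Finset.sum_comm, Finset.mul_sum]
    refine Finset.sum_congr rfl fun y _ => ?_
    simp only [Finset.mul_sum]
    rw [Finset.sum_comm,
      show D.T ψ y = ∑ x, (D.n ψ x : ℂ) * (D.C x y : ℂ) * D.ζ ^ D.j x from rfl, Finset.mul_sum,
      Finset.mul_sum]
    refine Finset.sum_congr rfl fun x _ => ?_
    calc ∑ χ : IrrCharacter G, D.T χ y * conj ((D.n ψ y : ℂ) * D.ζ ^ D.j y) *
          conj (D.T χ x * conj ((D.n ψ x : ℂ) * D.ζ ^ D.j x))
        = conj ((D.n ψ y : ℂ) * D.ζ ^ D.j y) * ((D.n ψ x : ℂ) * D.ζ ^ D.j x) *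
            ∑ χ : IrrCharacter G, D.T χ y * conj (D.T χ x) := by
          rw [Finset.mul_sum]
          refine Finset.sum_congr rfl fun χ _ => ?_
          rw [map_mul (starRingEnd ℂ) (D.T χ x), Complex.conj_conj]; ring
      _ = _ := by rw [D.sum_T' hM hind.1 hz, D.C_symm y x]; ring
  simp only [h1, ← Finset.mul_sum]
  rw [sq, mul_assoc, ← D.sum_diag hM hind.1 hz]
  congr 1
  refine Finset.sum_subset (Finset.subset_univ _) fun χ _ hχ => ?_
  exact Finset.sum_eq_zero fun φ _ => by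
    rw [D.T_eq_zero' hM hz hind (fun h => hχ (Set.mem_toFinset.2 h)), mul_zero]

/-- The square bound. -/
theorem card_sq_le (hM : Cfsg.IsPModular p M) (hz : ∃ k, orderOf z = p ^ k)
    (hind : Cfsg.IsInducedBlock M (Subgroup.centralizer ({z} : Set G)) b B)
    (hd : Cfsg.blockDefect p b = Cfsg.blockDefect p B)
    (hh : ∀ χ ∈ B, Cfsg.blockHeight p B (χ : G → ℂ) = 0) :
    Nat.card B ^ 2 ≤ p ^ (2 * Cfsg.blockDefect p B) * Cfsg.blockRank p b := by
  classical
  obtain ⟨D, hD⟩ := exists_data (M := M) (B := B) hz hd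
  let q := p ^ (D.e + 1)
  have hq : 0 < q := pow_pos hp.out.pos _
  let I := IrrCharacter ↥(Subgroup.centralizer ({z} : Set G)) ×
    IrrCharacter ↥(Subgroup.centralizer ({z} : Set G))
  let a : IrrCharacter G × IrrCharacter G → I → ℤ := fun c s =>
    D.n c.1 s.1 * D.C s.1 s.2 * D.n c.2 s.2
  let k : I → ℕ := fun s => shift p D.e (D.j s.1) (D.j s.2) % q
  have hkz : ∀ s : I, D.ζ ^ k s = D.ζ ^ D.j s.1 * conj (D.ζ ^ D.j s.2) := by
    intro s
    rw [← D.zeta_shift, ← Nat.mod_add_div (shift p D.e (D.j s.1) (D.j s.2)) q, pow_add, pow_mul,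
      D.isRoot.pow_eq_one, one_pow, mul_one]
  have hval : ∀ c : IrrCharacter G × IrrCharacter G,
      ∑ s : I, (a c s : ℂ) * D.ζ ^ k s = D.contr c.1 c.2 := by
    intro c
    rw [Fintype.sum_prod_type_right, Data.contr]
    refine Finset.sum_congr rfl fun y _ => ?_
    rw [Data.T, Finset.sum_mul]
    refine Finset.sum_congr rfl fun x _ => ?_
    rw [hkz, map_mul, map_intCast]
    simp only [a]; push_cast; ring
  let A : IrrCharacter G × IrrCharacter G → ℤ := fun c =>
    ∑ s : I, ∑ t : I, a c s * a c t * 1 * tau p D.e (shift p D.e (k s) (k t))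
  have hklt : ∀ s : I, k s < q := fun s => Nat.mod_lt _ hq
  have hlow : ∀ c ∈ B.toFinset ×ˢ B.toFinset, ((p : ℤ) - 1) * 1 ≤ A c := by
    intro c hc
    rw [Finset.mem_product, Set.mem_toFinset, Set.mem_toFinset] at hc
    have hform : ∀ w : I → ℤ, form (fun _ _ => (1 : ℤ)) w w = (∑ s, w s) ^ 2 := fun w => by
      simp [form, sq, Finset.sum_mul_sum]
    refine le_sum_tau_form hp.out D.isRoot (fun _ _ => (1 : ℤ)) (fun _ _ => rfl)
      (fun w => by rw [hform]; exact sq_nonneg _) 1 (fun w => ?_) (a c) k hklt ?_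
    · rw [hform]
      by_cases hw : ∑ s, w s = 0
      · exact Or.inl (by rw [hw]; rfl)
      · exact Or.inr (Int.add_one_le_iff.2 (sq_pos_iff.2 hw))
    · obtain ⟨ξ, hξ, -⟩ := D.exists_base hM hind (hD.trans hd.symm)
      refine ⟨(ξ, ξ), fun hsum => D.contr_ne_zero hM hind (hD.trans hd.symm) hc.1 hc.2
        (hh _ hc.1) (hh _ hc.2) ?_⟩
      rw [← hval]
      simpa using hsum
  have hsum : ∑ c ∈ B.toFinset ×ˢ B.toFinset, A c =
      ((p : ℤ) - 1) * (((p ^ D.d : ℕ) : ℤ) ^ 2 * (Cfsg.blockRank p b : ℤ)) := by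
    let S := (B.toFinset ×ˢ B.toFinset) ×ˢ ((Finset.univ : Finset I) ×ˢ (Finset.univ : Finset I))
    have h1 : ∑ t ∈ S, ((a t.1 t.2.1 * a t.1 t.2.2 * 1 : ℤ) : ℂ) *
        D.ζ ^ shift p D.e (k t.2.1) (k t.2.2) =
        (((((p ^ D.d : ℕ) : ℤ) ^ 2 * (Cfsg.blockRank p b : ℤ)) : ℤ) : ℂ) := by
      rw [show (((((p ^ D.d : ℕ) : ℤ) ^ 2 * (Cfsg.blockRank p b : ℤ)) : ℤ) : ℂ) =
        ((p ^ D.d : ℕ) : ℂ) ^ 2 * (Cfsg.blockRank p b : ℂ) by push_cast; ring,
        ← D.sum_sq_contr hM hz hind, ← Finset.sum_product_right', Finset.sum_product]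
      refine Finset.sum_congr rfl fun c _ => ?_
      rw [Finset.sum_product, ← hval c, map_sum, Finset.sum_mul_sum]
      refine Finset.sum_congr rfl fun s _ => Finset.sum_congr rfl fun t _ => ?_
      rw [shift, pow_add, ← D.conj_zeta_pow _ (hklt t).le, map_mul, map_intCast]
      push_cast; ring
    have h2 := sum_tau_eq hp.out D.isRoot S (fun t => a t.1 t.2.1 * a t.1 t.2.2 * 1)
      (fun t => shift p D.e (k t.2.1) (k t.2.2)) _ h1
    rw [← h2, Finset.sum_product _ _ (fun t : (IrrCharacter G × IrrCharacter G) × (I × I) =>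
      a t.1 t.2.1 * a t.1 t.2.2 * 1 * tau p D.e (shift p D.e (k t.2.1) (k t.2.2)))]
    refine Finset.sum_congr rfl fun c _ => ?_
    rw [Finset.sum_product]
  have h3 := Finset.card_nsmul_le_sum _ _ _ hlow
  rw [hsum, nsmul_eq_mul, Finset.card_product] at h3
  have hcard : Nat.card B = B.toFinset.card := by
    rw [Set.toFinset_card, Nat.card_eq_fintype_card]
  rw [hcard, ← hD]
  have hp1 : (0 : ℤ) < (p : ℤ) - 1 := by have := hp.out.two_le; omega
  have h4 : ((B.toFinset.card : ℤ) * B.toFinset.card) ≤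
      ((p ^ D.d : ℕ) : ℤ) ^ 2 * (Cfsg.blockRank p b : ℤ) := by
    push_cast at h3 ⊢
    nlinarith
  rw [pow_two, mul_comm 2 D.d, pow_mul]
  exact_mod_cast h4

end CfsgLib.MajorSubsection
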