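import Mathlib.GroupTheory.PGroup
import Mathlib.Data.ZMod.Basic
import Mathlib.Algebra.BigOperators.Group.Finset.Basic

/-!
# Sums over p-group orbits in characteristic p

An invariant function summed over a finite set with a p-group action equals, when `p • x = 0` in
the target, its sum over the fixed points.
-/

set_option autoImplicit false
set_option linter.style.haveILetI false
set_option linter.unusedSectionVars false

namespace CfsgLib.BlockPairs

theorem sum_eq_sum_fixed {p : ℕ} [hp : Fact p.Prime] {R X M : Type*} [Group R]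
    [MulAction R X] [Fintype X] [DecidableEq X] [AddCommMonoid M] (hR : IsPGroup p R)
    (hM : ∀ x : M, p • x = 0) (f : X → M) (hf : ∀ (r : R) (x : X), f (r • x) = f x)
    [DecidablePred fun x : X => ∀ r : R, r • x = x] :
    ∑ x, f x = ∑ x ∈ Finset.univ.filter (fun x : X => ∀ r : R, r • x = x), f x := by
  classical
  rw [← Finset.sum_filter_add_sum_filter_not Finset.univ (fun x : X => ∀ r : R, r • x = x) f]
  suffices h : ∑ x ∈ Finset.univ.filter (fun x : X => ¬∀ r : R, r • x = x), f x = 0 by
    rw [h, add_zero]
  rw [Finset.sum_partition (MulAction.orbitRel R X)]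
  refine Finset.sum_eq_zero fun q hq => ?_
  induction q using Quotient.inductionOn with
  | h a =>
    obtain ⟨a', ha', haq⟩ := Finset.mem_image.1 hq
    have haa : a' ∈ MulAction.orbit R a := Quotient.eq''.1 haq
    have hset : (Finset.univ.filter (fun x : X => ¬∀ r : R, r • x = x)).filter
        (fun x => Quotient.mk (MulAction.orbitRel R X) x = Quotient.mk _ a) =
        (MulAction.orbit R a).toFinset := by
      ext x
      simp only [Finset.mem_filter, Finset.mem_univ, true_and, Set.mem_toFinset]
      refine ⟨fun h => Quotient.eq''.1 h.2, fun h => ⟨?_, Quotient.eq''.2 h⟩⟩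
      intro hfix
      obtain ⟨r, rfl⟩ := h
      obtain ⟨r', rfl⟩ := haa
      have hs : ∀ s : R, s • a = a := fun s => by
        have h1 : (r * s) • a = r • a := by
          have := hfix (r * s * r⁻¹)
          simpa [smul_smul, mul_assoc] using this
        rw [mul_smul] at h1
        exact MulAction.injective r h1
      exact (Finset.mem_filter.1 ha').2 fun s => by simp [hs]
    rw [hset]
    have hconst : ∀ x ∈ (MulAction.orbit R a).toFinset, f x = f a := by
      intro x hx
      obtain ⟨r, rfl⟩ := Set.mem_toFinset.1 hx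
      exact hf r a
    rw [Finset.sum_congr rfl hconst, Finset.sum_const]
    obtain ⟨n, hn⟩ := hR.card_orbit a
    have hcard : (MulAction.orbit R a).toFinset.card = p ^ n := by
      rw [Set.toFinset_card, ← Nat.card_eq_fintype_card, hn]
    have hne : n ≠ 0 := by
      intro h0
      rw [h0, pow_zero, Finset.card_eq_one] at hcard
      obtain ⟨b, hb⟩ := hcard
      have hmem : ∀ x ∈ MulAction.orbit R a, x = b := fun x hx => by
        simpa [hb] using Set.mem_toFinset.2 hx
      refine (Finset.mem_filter.1 ha').2 fun r => ?_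
      obtain ⟨r', rfl⟩ := haa
      show r • (r' • a) = r' • a
      rw [hmem _ (MulAction.mem_orbit a r'), ← hmem a (MulAction.mem_orbit_self a)]
      exact (hmem _ (MulAction.mem_orbit a r)).trans (hmem a (MulAction.mem_orbit_self a)).symm
    rw [hcard]
    obtain ⟨m, rfl⟩ := Nat.exists_eq_succ_of_ne_zero hne
    rw [pow_succ', mul_smul, hM]

/-- A p-group of additive automorphisms of a nonzero group of exponent p fixes a nonzero vector. -/
theorem exists_fixed_ne_zero {p : ℕ} [hp : Fact p.Prime] {R V : Type*} [Group R] [Finite R]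
    [AddCommGroup V] [DistribMulAction R V] (hR : IsPGroup p R) (hV : ∀ v : V, p • v = 0)
    {v : V} (hv : v ≠ 0) :
    ∃ w : V, w ≠ 0 ∧ w ∈ AddSubgroup.closure (MulAction.orbit R v) ∧ ∀ r : R, r • w = w := by
  classical
  set W := AddSubgroup.closure (MulAction.orbit R v) with hW
  cases nonempty_fintype R
  let S : AddSubgroup V :=
    { carrier := Set.range fun c : R → ZMod p => ∑ r, (c r).val • (r • v)
      zero_mem' := ⟨0, by simp⟩
      add_mem' := by
        rintro _ _ ⟨c, rfl⟩ ⟨d, rfl⟩
        refine ⟨c + d, ?_⟩
        simp only [← Finset.sum_add_distrib, Pi.add_apply]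
        refine Finset.sum_congr rfl fun r _ => ?_
        rw [← add_smul, ZMod.val_add]
        conv_rhs => rw [← Nat.mod_add_div ((c r).val + (d r).val) p, add_smul, mul_smul, hV,
          add_zero]
      neg_mem' := by
        rintro _ ⟨c, rfl⟩
        refine ⟨-c, eq_neg_of_add_eq_zero_left ?_⟩
        simp only [← Finset.sum_add_distrib, Pi.neg_apply]
        refine Finset.sum_eq_zero fun r _ => ?_
        rw [← add_smul]
        have h : p ∣ (-c r).val + (c r).val := by
          rw [← ZMod.natCast_eq_zero_iff]
          simp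
        obtain ⟨k, hk⟩ := h
        rw [hk, mul_smul, hV] }
  have hle : W ≤ S := by
    rw [hW, AddSubgroup.closure_le]
    rintro _ ⟨r, rfl⟩
    refine ⟨Pi.single r 1, ?_⟩
    show ∑ x, ((Pi.single r 1 : R → ZMod p) x).val • (x • v) = r • v
    rw [Finset.sum_eq_single r (fun b _ hb => by simp [hb]) (by simp)]
    simp [ZMod.val_one]
  haveI : Finite S := Set.finite_range _ |>.to_subtype
  haveI : Finite W := Finite.of_injective _ (AddSubgroup.inclusion_injective hle)
  have hstab : ∀ (r : R), ∀ w ∈ W, r • w ∈ W := by
    intro r w hw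
    induction hw using AddSubgroup.closure_induction with
    | mem x hx =>
      obtain ⟨s, rfl⟩ := hx
      exact AddSubgroup.subset_closure ⟨r * s, mul_smul r s v⟩
    | zero => rw [smul_zero]; exact W.zero_mem
    | add x y _ _ hx hy => rw [smul_add]; exact W.add_mem hx hy
    | neg x _ hx => rw [smul_neg]; exact W.neg_mem hx
  letI : MulAction R W :=
    { smul := fun r w => ⟨r • w.1, hstab r _ w.2⟩
      one_smul := fun w => Subtype.ext (one_smul R w.1)
      mul_smul := fun r s w => Subtype.ext (mul_smul r s w.1) }
  have hvW : v ∈ W := AddSubgroup.subset_closure (MulAction.mem_orbit_self v)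
  have hdvd : p ∣ Nat.card W := by
    have h1 : addOrderOf (⟨v, hvW⟩ : W) ∣ p := addOrderOf_dvd_of_nsmul_eq_zero (Subtype.ext (hV v))
    rcases (Nat.dvd_prime hp.out).1 h1 with h | h
    · exact absurd (AddMonoid.addOrderOf_eq_one_iff.1 h) (by simpa [Subtype.ext_iff] using hv)
    · exact h ▸ addOrderOf_dvd_natCard _
  have h0 : (0 : W) ∈ MulAction.fixedPoints R W := fun r => Subtype.ext (smul_zero r)
  obtain ⟨b, hb, hb0⟩ := hR.exists_fixed_point_of_prime_dvd_card_of_fixed_point W hdvd h0
  exact ⟨b.1, fun h => hb0 (Subtype.ext h.symm), b.2, fun r => congrArg Subtype.val (hb r)⟩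

end CfsgLib.BlockPairs
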