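import Cfsg.Agent.BlockPairs.Model
import Mathlib.RingTheory.Artinian.Module
import Mathlib.RingTheory.Nilpotent.Basic
import Mathlib.RingTheory.Algebraic.Basic
import Mathlib.RingTheory.IntegralClosure.IsIntegral.Basic
import Mathlib.FieldTheory.IsAlgClosed.Basic
import Mathlib.RingTheory.Polynomial.Basic

/-!
# Block idempotents of the subgroups, and their central characters

`IsBlock H e`: `e` is a primitive idempotent of the centre `sub H H` of the group algebra of `H`.
Every idempotent of the centre is the sum of the blocks below it, and over an algebraically closed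
field each block `e` has a central character `omega H e : sub H H → F`.
-/

set_option autoImplicit false
set_option linter.unusedSectionVars false
set_option linter.style.haveILetI false

namespace CfsgLib.BlockPairs

variable {F : Type*} [Field F] {G : Type*} [Group G]

/-- `e` is a block idempotent of the subgroup `H`. -/
def IsBlock (H : Subgroup G) (e : GA F G) : Prop :=
  e ∈ sub H H ∧ e * e = e ∧ e ≠ 0 ∧ ∀ f ∈ sub (F := F) H H, f * f = f → f * e = 0 ∨ f * e = e

theorem IsBlock.mem {H : Subgroup G} {e : GA F G} (h : IsBlock H e) : e ∈ sub H H := h.1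

theorem IsBlock.idem {H : Subgroup G} {e : GA F G} (h : IsBlock H e) : e * e = e := h.2.1

theorem IsBlock.ne_zero {H : Subgroup G} {e : GA F G} (h : IsBlock H e) : e ≠ 0 := h.2.2.1

theorem IsBlock.fixed {H : Subgroup G} {e : GA F G} (h : IsBlock H e) : IsFixed H e := h.1.2

theorem IsBlock.supp {H : Subgroup G} {e : GA F G} (h : IsBlock H e) : IsSupp H e := h.1.1

theorem IsBlock.dichotomy {H : Subgroup G} {e f : GA F G} (h : IsBlock H e) (hf : f ∈ sub H H)
    (hff : f * f = f) : f * e = 0 ∨ f * e = e := h.2.2.2 f hf hff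

theorem IsBlock.eq_or_mul_eq_zero {H : Subgroup G} {e f : GA F G} (he : IsBlock H e)
    (hf : IsBlock H f) : e = f ∨ e * f = 0 := by
  rcases hf.dichotomy he.mem he.idem with h | h
  · exact .inr h
  rcases he.dichotomy hf.mem hf.idem with h' | h'
  · exact .inr (by rw [sub_comm he.mem hf.mem, h'])
  · exact .inl (by rw [← h', sub_comm hf.mem he.mem, h])

theorem IsBlock.eq_of_mul_ne_zero {H : Subgroup G} {e f : GA F G} (he : IsBlock H e)
    (hf : IsBlock H f) (h : e * f ≠ 0) : e = f := (he.eq_or_mul_eq_zero hf).resolve_right h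

section Finite

variable [Finite G]

instance instFiniteDimensionalGA : FiniteDimensional F (GA F G) :=
  Module.Finite.equiv (MonoidAlgebra.coeffLinearEquiv F (S := F) (M := G)).symm

theorem finite_blocks (H : Subgroup G) : {e : GA F G | IsBlock H e}.Finite := by
  refine LinearIndependent.set_finite_of_isNoetherian (R := F) ?_
  show LinearIndependent F (fun e : {e : GA F G | IsBlock H e} => (e : GA F G))
  rw [linearIndependent_iff']
  intro s c hsum i hi
  have h : (i : GA F G) * ∑ j ∈ s, c j • (j : GA F G) = 0 := by rw [hsum, mul_zero]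
  rw [Finset.mul_sum, Finset.sum_eq_single i] at h
  · rw [mul_smul_comm, i.2.idem] at h
    exact (smul_eq_zero.1 h).resolve_right i.2.ne_zero
  · intro j _ hji
    rw [mul_smul_comm, ((i.2.eq_or_mul_eq_zero j.2).resolve_left
      (fun h => hji (Subtype.ext h.symm))), smul_zero]
  · exact fun h => absurd hi h

/-- The finite set of the blocks of `H`. -/
noncomputable def blocks (F : Type*) [Field F] {G : Type*} [Group G] [Finite G] (H : Subgroup G) :
    Finset (GA F G) := (finite_blocks (F := F) H).toFinset

theorem mem_blocks {H : Subgroup G} {e : GA F G} : e ∈ blocks F H ↔ IsBlock H e :=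
  (finite_blocks H).mem_toFinset

theorem exists_isBlock_below {H : Subgroup G} {f : GA F G} (hf : f ∈ sub H H) (hff : f * f = f)
    (hf0 : f ≠ 0) : ∃ e, IsBlock H e ∧ f * e = e := by
  induction hd : Module.finrank F (LinearMap.range (LinearMap.mulLeft F f)) using
    Nat.strong_induction_on generalizing f with
  | _ d ih =>
    by_cases hb : IsBlock H f
    · exact ⟨f, hb, hff⟩
    simp only [IsBlock, not_and, not_forall, not_or] at hb
    obtain ⟨g, hg, hgg, hg0, hg1⟩ := hb hf hff hf0
    have hc : g * f = f * g := sub_comm hg hf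
    have hgf : (g * f) * (g * f) = g * f := by
      rw [mul_assoc g f, ← mul_assoc f g, ← hc, mul_assoc g f f, hff, ← mul_assoc, hgg]
    have hle : LinearMap.range (LinearMap.mulLeft F (g * f)) ≤
        LinearMap.range (LinearMap.mulLeft F f) := by
      rintro _ ⟨x, rfl⟩
      exact ⟨g * x, by simp [hc, mul_assoc]⟩
    have hlt : LinearMap.range (LinearMap.mulLeft F (g * f)) <
        LinearMap.range (LinearMap.mulLeft F f) := by
      refine lt_of_le_of_ne hle fun h => hg1 ?_
      have hfm : f ∈ LinearMap.range (LinearMap.mulLeft F (g * f)) := by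
        rw [h]; exact ⟨1, by simp⟩
      obtain ⟨x, hx⟩ := hfm
      simp only [LinearMap.mulLeft_apply] at hx
      have h2 : (g * f) * f = g * f := by rw [mul_assoc, hff]
      calc g * f = (g * f) * f := h2.symm
        _ = (g * f) * ((g * f) * x) := by rw [hx]
        _ = f := by rw [← mul_assoc, hgf, hx]
    obtain ⟨e, he, hef⟩ := ih _ (hd ▸ Submodule.finrank_lt_finrank_of_lt hlt)
      (mul_mem hg hf) hgf hg0 rfl
    exact ⟨e, he, by rw [← hef, ← mul_assoc, hc, ← mul_assoc, hff]⟩

open scoped Classical in
/-- An idempotent of the centre is the sum of the blocks below it. -/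
theorem sum_blocks_below {H : Subgroup G} {f : GA F G} (hf : f ∈ sub H H) (hff : f * f = f) :
    ∑ e ∈ (blocks F H).filter (fun e => f * e = e), e = f := by
  set s := (blocks F H).filter (fun e => f * e = e) with hs
  set t := ∑ e ∈ s, e with ht
  have htm : t ∈ sub H H :=
    Subalgebra.sum_mem _ fun e he => (mem_blocks.1 (Finset.mem_filter.1 he).1).mem
  have hft : f * t = t := by
    rw [ht, Finset.mul_sum]
    exact Finset.sum_congr rfl fun e he => (Finset.mem_filter.1 he).2
  have hte : ∀ e ∈ s, t * e = e := by
    intro e he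
    have hb := mem_blocks.1 (Finset.mem_filter.1 he).1
    rw [ht, Finset.sum_mul, Finset.sum_eq_single e]
    · exact hb.idem
    · exact fun j hj hje => ((mem_blocks.1 (Finset.mem_filter.1 hj).1).eq_or_mul_eq_zero
        hb).resolve_left hje
    · exact fun h => absurd he h
  have htt : t * t = t := by
    conv_lhs => rw [ht]; arg 2; rw [← ht]
    rw [ht]
    conv_lhs => rw [← ht]
    rw [Finset.mul_sum]
    exact Finset.sum_congr rfl hte
  by_contra hne
  have hd : (f - t) * (f - t) = f - t := by
    rw [mul_sub, sub_mul, sub_mul, hff, htt, hft, sub_comm htm hf, hft]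
    simp
  obtain ⟨e, he, hde⟩ := exists_isBlock_below (sub_mem hf htm) hd
    (fun h => hne (sub_eq_zero.1 h).symm)
  have hfe : f * e = e := by
    rw [← hde, ← mul_assoc, mul_sub, hff, hft]
  have hmem : e ∈ s := Finset.mem_filter.2 ⟨mem_blocks.2 he, hfe⟩
  apply he.ne_zero
  rw [← hde, sub_mul, hfe, hte e hmem, sub_self]

theorem sum_blocks_eq_one (H : Subgroup G) : ∑ e ∈ blocks F H, e = (1 : GA F G) := by
  classical
  have h := sum_blocks_below (one_mem (sub (F := F) H H)) (one_mul 1)
  rwa [Finset.filter_true_of_mem (fun e _ => one_mul e)] at h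

open scoped Classical in
theorem mul_sum_blocks_eq {H : Subgroup G} {s : Finset (GA F G)} (hs : ∀ e ∈ s, IsBlock H e)
    {e : GA F G} (he : IsBlock H e) : (∑ x ∈ s, x) * e = if e ∈ s then e else 0 := by
  rw [Finset.sum_mul]
  split_ifs with h
  · rw [Finset.sum_eq_single e (fun j hj hje => ((hs j hj).eq_or_mul_eq_zero he).resolve_left hje)
      (fun h' => absurd h h')]
    exact he.idem
  · exact Finset.sum_eq_zero fun j hj =>
      ((hs j hj).eq_or_mul_eq_zero he).resolve_left (fun hje => h (hje ▸ hj))

/-- An element of the centre, cut to a block, is nilpotent or invertible in the block. -/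
theorem isNilpotent_or_exists_inv {H : Subgroup G} {e z : GA F G} (he : IsBlock H e)
    (hz : z ∈ sub H H) :
    IsNilpotent (z * e) ∨ ∃ u ∈ sub (F := F) H H, (z * e) * (u * e) = e := by
  letI : CommRing (sub (F := F) H H) :=
    { (inferInstance : Ring (sub (F := F) H H)) with
      mul_comm := fun a b => Subtype.ext (sub_comm a.2 b.2) }
  haveI : IsArtinianRing (sub (F := F) H H) := IsArtinianRing.of_finite F _
  let w : sub (F := F) H H := ⟨z * e, mul_mem hz he.mem⟩
  let chain : ℕ →o (Submodule (sub (F := F) H H) (sub (F := F) H H))ᵒᵈ :=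
    ⟨fun n => OrderDual.toDual (Ideal.span {w ^ n}),
      fun m n hmn => Ideal.span_singleton_le_span_singleton.2 (pow_dvd_pow w hmn)⟩
  obtain ⟨n, hn⟩ := IsArtinian.monotone_stabilizes chain
  have hN : 0 < n + 1 := Nat.succ_pos n
  have h1 : Ideal.span {w ^ (n + 1)} ≤ Ideal.span {w ^ ((n + 1) + (n + 1))} := by
    have e1 : Ideal.span {w ^ n} = Ideal.span {w ^ (n + 1)} := hn (n + 1) (by omega)
    have e2 : Ideal.span {w ^ n} = Ideal.span {w ^ ((n + 1) + (n + 1))} := hn _ (by omega)
    exact (e1.symm.trans e2).le
  obtain ⟨u, hu⟩ := Ideal.span_singleton_le_span_singleton.1 h1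
  set v : sub (F := F) H H := w ^ (n + 1) * u with hv
  have hwv : w ^ (n + 1) = w ^ (n + 1) * v := by
    conv_lhs => rw [hu]
    rw [hv, pow_add]; ring
  have hvv : v * v = v := by
    conv_rhs => rw [hv, hwv]
    rw [hv]; ring
  have hwE : w * ⟨e, he.mem⟩ = w := Subtype.ext (by
    show z * e * e = z * e
    rw [mul_assoc, he.idem])
  have hpowE : ∀ m : ℕ, 0 < m → w ^ m * ⟨e, he.mem⟩ = w ^ m := by
    intro m hm
    obtain ⟨m, rfl⟩ := Nat.exists_eq_succ_of_ne_zero hm.ne'
    rw [pow_succ, mul_assoc, hwE]
  have hvE : (v : GA F G) * e = v := congrArg Subtype.val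
    (show v * ⟨e, he.mem⟩ = v by rw [hv, mul_right_comm, hpowE _ hN])
  rcases he.dichotomy v.2 (congrArg Subtype.val hvv) with h | h <;> rw [hvE] at h
  · refine .inl ⟨n + 1, ?_⟩
    have : w ^ (n + 1) = 0 := by rw [hwv, show v = 0 from Subtype.ext h, mul_zero]
    exact congrArg Subtype.val this
  · refine .inr ⟨((w ^ n * u : sub (F := F) H H) : GA F G), (w ^ n * u).2, ?_⟩
    have : w * (w ^ n * u * ⟨e, he.mem⟩) = ⟨e, he.mem⟩ := by
      rw [← mul_assoc, ← mul_assoc, ← pow_succ', ← hv]
      exact Subtype.ext (by show (v : GA F G) * e = e; rw [hvE, h])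
    exact congrArg Subtype.val this

theorem not_isNilpotent_block {H : Subgroup G} {e : GA F G} (he : IsBlock H e) :
    ¬ IsNilpotent e := by
  rintro ⟨n, hn⟩
  rcases Nat.eq_zero_or_pos n with rfl | hn0
  · rw [pow_zero] at hn
    exact he.ne_zero (by rw [← mul_one e, hn, mul_zero])
  · rw [IsIdempotentElem.pow_eq he.idem hn0.ne'] at hn
    exact he.ne_zero hn

theorem not_isNilpotent_smul_block {H : Subgroup G} {e : GA F G} (he : IsBlock H e) {c : F}
    (hc : c ≠ 0) : ¬ IsNilpotent (c • e) := fun h => not_isNilpotent_block he (by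
  have := IsNilpotent.smul h c⁻¹
  rwa [inv_smul_smul₀ hc] at this)

variable [IsAlgClosed F]

theorem exists_scalar {H : Subgroup G} {e z : GA F G} (he : IsBlock H e) (hz : z ∈ sub H H) :
    ∃ c : F, IsNilpotent (z * e - c • e) := by
  classical
  obtain ⟨P, hP1, hP2⟩ := IsIntegral.of_finite F z
  rw [← Polynomial.aeval_def, (IsAlgClosed.splits P).eq_prod_roots, hP1.leadingCoeff, map_one,
    one_mul] at hP2
  by_contra hall
  simp only [not_exists] at hall
  have key : ∀ l : Multiset F, ∃ u : GA F G, u ∈ sub (F := F) H H ∧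
      Polynomial.aeval z ((l.map fun a => Polynomial.X - Polynomial.C a).prod) * u * e = e := by
    intro l
    induction l using Multiset.induction_on with
    | empty => exact ⟨1, one_mem _, by simp⟩
    | cons a l ih =>
      obtain ⟨u, hu, hue⟩ := ih
      have hza : z - a • (1 : GA F G) ∈ sub H H := sub_mem hz (Subalgebra.smul_mem _ (one_mem _) a)
      have hh : (z - a • (1 : GA F G)) * e = z * e - a • e := by simp [sub_mul]
      obtain h | ⟨v, hv, hve⟩ := isNilpotent_or_exists_inv he hza
      · exact absurd (hh ▸ h) (hall a)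
      refine ⟨u * v, mul_mem hu hv, ?_⟩
      have hL : Polynomial.aeval z ((l.map fun a => Polynomial.X - Polynomial.C a).prod) ∈
          sub (F := F) H H := by
        exact Algebra.adjoin_le (S := sub (F := F) H H) (Set.singleton_subset_iff.2 hz)
          (Polynomial.aeval_mem_adjoin_singleton F z)
      rw [Multiset.map_cons, Multiset.prod_cons, map_mul, map_sub, Polynomial.aeval_X,
        Polynomial.aeval_C, Algebra.algebraMap_eq_smul_one]
      set L := Polynomial.aeval z ((l.map fun a => Polynomial.X - Polynomial.C a).prod) with hLdef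
      set y := z - a • (1 : GA F G)
      calc y * L * (u * v) * e = y * (L * u) * (v * e) := by simp only [mul_assoc]
        _ = y * (L * u * (v * e)) := by rw [mul_assoc]
        _ = y * (L * u * e * v) := by rw [sub_comm hv he.mem]; simp only [mul_assoc]
        _ = y * (e * v) := by rw [hue]
        _ = y * (e * e * v) := by rw [he.idem]
        _ = (y * e) * (e * v) := by simp only [mul_assoc]
        _ = e := by rw [sub_comm he.mem hv, hve]
  obtain ⟨u, -, hue⟩ := key P.roots
  rw [hP2, zero_mul, zero_mul] at hue
  exact he.ne_zero hue.symm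

/-- The central character of a block (zero outside the centre). -/
noncomputable def omega (H : Subgroup G) (e z : GA F G) : F :=
  by classical exact
    if h : ∃ c : F, IsNilpotent (z * e - c • e) then Classical.choose h else 0

theorem isNilpotent_omega {H : Subgroup G} {e z : GA F G} (he : IsBlock H e) (hz : z ∈ sub H H) :
    IsNilpotent (z * e - omega H e z • e) := by
  rw [omega, dif_pos (exists_scalar he hz)]
  exact Classical.choose_spec (exists_scalar he hz)

theorem omega_unique {H : Subgroup G} {e z : GA F G} (he : IsBlock H e) (hz : z ∈ sub H H) {c : F}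
    (hc : IsNilpotent (z * e - c • e)) : omega H e z = c := by
  by_contra h
  have h1 := isNilpotent_omega he hz
  have hcomm : Commute (z * e - omega H e z • e) (z * e - c • e) :=
    sub_comm (sub_mem (mul_mem hz he.mem) (Subalgebra.smul_mem _ he.mem _))
      (sub_mem (mul_mem hz he.mem) (Subalgebra.smul_mem _ he.mem _))
  have h2 := hcomm.symm.isNilpotent_sub hc h1
  refine not_isNilpotent_smul_block he (sub_ne_zero.2 h) ?_
  convert h2 using 1
  rw [sub_smul]; abel

theorem omega_add {H : Subgroup G} {e z w : GA F G} (he : IsBlock H e) (hz : z ∈ sub H H)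
    (hw : w ∈ sub H H) : omega H e (z + w) = omega H e z + omega H e w := by
  refine omega_unique he (add_mem hz hw) ?_
  have h : (z + w) * e - (omega H e z + omega H e w) • e =
      (z * e - omega H e z • e) + (w * e - omega H e w • e) := by
    rw [add_mul, add_smul]; abel
  rw [h]
  exact Commute.isNilpotent_add (sub_comm
    (sub_mem (mul_mem hz he.mem) (Subalgebra.smul_mem _ he.mem _))
    (sub_mem (mul_mem hw he.mem) (Subalgebra.smul_mem _ he.mem _)))
    (isNilpotent_omega he hz) (isNilpotent_omega he hw)

theorem omega_smul {H : Subgroup G} {e z : GA F G} (he : IsBlock H e) (hz : z ∈ sub H H) (c : F) :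
    omega H e (c • z) = c * omega H e z := by
  refine omega_unique he (Subalgebra.smul_mem _ hz c) ?_
  have h : c • z * e - (c * omega H e z) • e = c • (z * e - omega H e z • e) := by
    rw [smul_sub, smul_smul, smul_mul_assoc]
  rw [h]
  exact IsNilpotent.smul (isNilpotent_omega he hz) c

theorem omega_zero {H : Subgroup G} {e : GA F G} (he : IsBlock H e) : omega H e 0 = 0 :=
  omega_unique he (zero_mem _) (by simp)

theorem omega_one {H : Subgroup G} {e : GA F G} (he : IsBlock H e) : omega H e 1 = 1 :=
  omega_unique he (one_mem _) (by simp)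

theorem omega_self {H : Subgroup G} {e : GA F G} (he : IsBlock H e) : omega H e e = 1 :=
  omega_unique he he.mem (by simp [he.idem])

theorem omega_mul {H : Subgroup G} {e z w : GA F G} (he : IsBlock H e) (hz : z ∈ sub H H)
    (hw : w ∈ sub H H) : omega H e (z * w) = omega H e z * omega H e w := by
  refine omega_unique he (mul_mem hz hw) ?_
  set a := omega H e z; set b := omega H e w
  have h : z * w * e - (a * b) • e = (z * e - a • e) * (w * e) + a • (w * e - b • e) := by
    rw [sub_mul, smul_mul_assoc, ← mul_assoc e w e, sub_comm he.mem hw, mul_assoc w e e, he.idem,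
      smul_sub, smul_smul]
    have : z * e * (w * e) = z * w * e := by
      rw [mul_assoc z e, ← mul_assoc e w e, sub_comm he.mem hw, mul_assoc w e e, he.idem, mul_assoc]
    rw [this]; abel
  rw [h]
  have hm1 : z * e - a • e ∈ sub H H := sub_mem (mul_mem hz he.mem) (Subalgebra.smul_mem _ he.mem _)
  have hm2 : w * e - b • e ∈ sub H H := sub_mem (mul_mem hw he.mem) (Subalgebra.smul_mem _ he.mem _)
  refine Commute.isNilpotent_add (sub_comm (mul_mem hm1 (mul_mem hw he.mem))
    (Subalgebra.smul_mem _ hm2 a)) ?_ (IsNilpotent.smul (isNilpotent_omega he hw) a)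
  exact Commute.isNilpotent_mul_right (sub_comm hm1 (mul_mem hw he.mem)) (isNilpotent_omega he hz)

theorem omega_sum {H : Subgroup G} {e : GA F G} (he : IsBlock H e) {ι : Type*} (s : Finset ι)
    (f : ι → GA F G) (hf : ∀ i ∈ s, f i ∈ sub H H) :
    omega H e (∑ i ∈ s, f i) = ∑ i ∈ s, omega H e (f i) := by
  classical
  induction s using Finset.induction_on with
  | empty => simp [omega_zero he]
  | insert i s hi ih =>
    rw [Finset.sum_insert hi, Finset.sum_insert hi,
      omega_add he (hf i (by simp)) (Subalgebra.sum_mem _ fun j hj => hf j (by simp [hj])),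
      ih fun j hj => hf j (by simp [hj])]

theorem exists_inv_of_omega_ne_zero {H : Subgroup G} {e z : GA F G} (he : IsBlock H e)
    (hz : z ∈ sub H H) (h : omega H e z ≠ 0) : ∃ u ∈ sub (F := F) H H, z * u = e := by
  obtain hn | ⟨u, hu, hue⟩ := isNilpotent_or_exists_inv he hz
  · exact absurd (omega_unique he hz (c := 0) (by simpa using hn)) h
  · exact ⟨e * (u * e), mul_mem he.mem (mul_mem hu he.mem), by rw [← mul_assoc, hue]⟩

theorem omega_block {H : Subgroup G} {e f : GA F G} (he : IsBlock H e) (hf : IsBlock H f)
    (hne : f ≠ e) : omega H e f = 0 :=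
  omega_unique he hf.mem (by simp [(hf.eq_or_mul_eq_zero he).resolve_left hne])

theorem eq_of_omega_eq_one {H : Subgroup G} {e f : GA F G} (he : IsBlock H e) (hf : IsBlock H f)
    (h : omega H e f = 1) : f = e := by
  by_contra hne
  rw [omega_block he hf hne] at h
  exact zero_ne_one h

end Finite

end CfsgLib.BlockPairs
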