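import Cfsg.Agent.BlockPairs.Transport

/-!
# The Prelude's Brauer pairs in the group algebra model

`sblk M K f` (a set of characters of a subgroup) and `gblk M B` (of the group) are the idempotents
in the model.  `isBrauerPairOf_iff`, `subpairLE_iff`, `isMaximalBrauerPair_iff`,
`stabilizesBlock_iff`, `sblk_conjBlock` translate the Prelude's notions.
-/

set_option autoImplicit false
set_option linter.unusedSectionVars false
set_option linter.style.haveILetI false

namespace CfsgLib.BlockPairs

open Cfsg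
open CfsgLib.Blocks (Ctr Res localRing red idemBar omegaBar omegaO redCtr)

universe u

variable {G : Type u} [Group G] [Finite G] {M : Ideal AlgInt} [M.IsPrime]

/-- The model idempotent of a set of characters of the subgroup `K`. -/
noncomputable def sblk (M : Ideal AlgInt) [M.IsPrime] (K : Subgroup G)
    (f : Set (IrrCharacter K)) : GA (Res M) G := blkE M K.subtype f

/-- The model idempotent of a set of characters of the group. -/
noncomputable def gblk (M : Ideal AlgInt) [M.IsPrime] (B : Set (IrrCharacter G)) :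
    GA (Res M) G := blkE M (MonoidHom.id G) B

theorem range_id_eq : (MonoidHom.id G).range = (⊤ : Subgroup G) :=
  MonoidHom.range_eq_top.2 Function.surjective_id

theorem cent_top (Q : Subgroup G) : cent ⊤ Q = Subgroup.centralizer (Q : Set G) := top_inf_eq _

theorem gblk_coeff (B : Set (IrrCharacter G)) (g : G) :
    (gblk M B).coeff g = redC M (Cfsg.blockCoeff B g) := by
  have := emb_coeff_apply (k := Res M) (φ := MonoidHom.id G) Function.injective_id
    (CfsgLib.Blocks.ofFun fun x => redC M (Cfsg.blockCoeff B x)) g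
  simpa [gblk, blkE] using this

theorem sblk_coeff (K : Subgroup G) (f : Set (IrrCharacter K)) (g : G) :
    (sblk M K f).coeff g = redC M (Cfsg.subgroupBlockCoeff K f g) := by
  rw [Cfsg.subgroupBlockCoeff]
  split_ifs with h
  · have := emb_coeff_apply (k := Res M) (φ := K.subtype) K.subtype_injective
      (CfsgLib.Blocks.ofFun fun x => redC M (Cfsg.blockCoeff f x)) ⟨g, h⟩
    simpa [sblk, blkE] using this
  · rw [redC_zero]
    exact emb_coeff_not_mem _ _ (by rwa [K.range_subtype])

theorem isBlock_sblk {K : Subgroup G} {f : Set (IrrCharacter K)} (hf : Cfsg.IsPBlock M f) :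
    IsBlock K (sblk M K f) := by
  haveI := Fintype.ofFinite K
  have := isBlock_blkE (φ := K.subtype) K.subtype_injective hf
  rwa [K.range_subtype] at this

theorem isBlock_gblk {B : Set (IrrCharacter G)} (hB : Cfsg.IsPBlock M B) :
    IsBlock (⊤ : Subgroup G) (gblk M B) := by
  haveI := Fintype.ofFinite G
  have := isBlock_blkE (φ := MonoidHom.id G) Function.injective_id hB
  rwa [range_id_eq] at this

theorem exists_eq_sblk {K : Subgroup G} {e : GA (Res M) G} (he : IsBlock K e) :
    ∃ f, Cfsg.IsPBlock M f ∧ e = sblk M K f := by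
  haveI := Fintype.ofFinite K
  exact exists_eq_blkE (φ := K.subtype) K.subtype_injective (by rwa [K.range_subtype])

theorem exists_eq_gblk {e : GA (Res M) G} (he : IsBlock (⊤ : Subgroup G) e) :
    ∃ B, Cfsg.IsPBlock M B ∧ e = gblk M B := by
  haveI := Fintype.ofFinite G
  exact exists_eq_blkE (φ := MonoidHom.id G) Function.injective_id (by rwa [range_id_eq])

theorem sblk_inj {K : Subgroup G} {f f' : Set (IrrCharacter K)} (hf : Cfsg.IsPBlock M f)
    (hf' : Cfsg.IsPBlock M f') (h : sblk M K f = sblk M K f') : f = f' := by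
  haveI := Fintype.ofFinite K
  exact blkE_injOn K.subtype_injective hf hf' h

theorem gblk_inj {B B' : Set (IrrCharacter G)} (hB : Cfsg.IsPBlock M B)
    (hB' : Cfsg.IsPBlock M B') (h : gblk M B = gblk M B') : B = B' := by
  haveI := Fintype.ofFinite G
  exact blkE_injOn Function.injective_id hB hB' h

variable {p : ℕ} [hp : Fact p.Prime] [CharP (Res M) p] [IsAlgClosed (Res M)]

theorem isDefectGroup_gblk_iff {B : Set (IrrCharacter G)} (hB : Cfsg.IsPBlock M B)
    (D : Subgroup G) :
    Cfsg.IsDefectGroup p M B D ↔ IsDefectGrp p (⊤ : Subgroup G) (gblk M B) D := by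
  haveI := Fintype.ofFinite G
  rw [isDefectGroup_iff (φ := MonoidHom.id G) Function.injective_id hB, range_id_eq,
    Subgroup.map_id, gblk]

theorem isDefectGroup_sblk_iff {K : Subgroup G} {f : Set (IrrCharacter K)}
    (hf : Cfsg.IsPBlock M f) (D : Subgroup K) :
    Cfsg.IsDefectGroup p M f D ↔ IsDefectGrp p K (sblk M K f) (D.map K.subtype) := by
  haveI := Fintype.ofFinite K
  rw [isDefectGroup_iff (φ := K.subtype) K.subtype_injective hf, K.range_subtype, sblk]

theorem isDefectGroup_subgroupOf_iff {K : Subgroup G} {f : Set (IrrCharacter K)}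
    (hf : Cfsg.IsPBlock M f) {D : Subgroup G} (hD : D ≤ K) :
    Cfsg.IsDefectGroup p M f (D.subgroupOf K) ↔ IsDefectGrp p K (sblk M K f) D := by
  rw [isDefectGroup_sblk_iff hf, Subgroup.map_subgroupOf_eq_of_le hD]

/-! ### The condition through `brauerOmega` -/

theorem brauer_condition {P : Subgroup G} (hP : IsPGroup p P)
    {e : Set (IrrCharacter (Subgroup.centralizer (P : Set G)))} (he : Cfsg.IsPBlock M e)
    (β : G → ℂ) (hloc : ∀ x, Cfsg.MemLocalRing M (β x))
    (hinv : ∀ c ∈ Subgroup.centralizer (P : Set G), ∀ x ∈ Subgroup.centralizer (P : Set G),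
      β (c * x * c⁻¹) = β x)
    {b : GA (Res M) G} (hb : ∀ g, b.coeff g = redC M (β g)) (hfix : IsFixed P b)
    (hbb : b * b = b) :
    (∀ ξ ∈ e, Cfsg.MemLocalIdeal M (Cfsg.brauerOmega P β
        (ξ : Subgroup.centralizer (P : Set G) → ℂ) - 1)) ↔
      br P b * sblk M (Subgroup.centralizer (P : Set G)) e =
        sblk M (Subgroup.centralizer (P : Set G)) e := by
  haveI := Fintype.ofFinite (Subgroup.centralizer (P : Set G))
  have hinj := (Subgroup.centralizer (P : Set G)).subtype_injective
  set zO : Ctr (localRing M) (Subgroup.centralizer (P : Set G)) := ⟨CfsgLib.Blocks.ofFun fun x : (Subgroup.centralizer (P : Set G)) => ⟨β (x : G), hloc (x : G)⟩,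
    CfsgLib.Blocks.mem_ctr_iff.2 fun g h => by
      simp only [CfsgLib.Blocks.coeff_ofFun]
      exact Subtype.ext (by simpa using hinv h h.2 g g.2)⟩ with hzO
  have hbr : emb (Subgroup.centralizer (P : Set G)).subtype ((redCtr M zO : Ctr (Res M) (Subgroup.centralizer (P : Set G))) : GA (Res M) (Subgroup.centralizer (P : Set G))) = br P b := by
    refine ga_ext fun g => ?_
    by_cases hg : g ∈ (Subgroup.centralizer (P : Set G))
    · rw [br_coeff_mem P b hg, hb, redC_of_mem (hloc g)]
      have := emb_coeff_apply (k := Res M) (φ := (Subgroup.centralizer (P : Set G)).subtype) hinj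
        ((redCtr M zO : Ctr (Res M) (Subgroup.centralizer (P : Set G))) : GA (Res M) (Subgroup.centralizer (P : Set G))) ⟨g, hg⟩
      simp only [Subgroup.coe_subtype] at this
      rw [this]
      simp [redCtr, hzO]
    · rw [br_coeff_not_mem P b hg, emb_coeff_not_mem _ _ (by rwa [(Subgroup.centralizer (P : Set G)).range_subtype])]
  have hom : ∀ ξ : IrrCharacter (Subgroup.centralizer (P : Set G)), Cfsg.brauerOmega P β (ξ : (Subgroup.centralizer (P : Set G)) → ℂ) = (omegaO M ξ zO : ℂ) := by
    intro ξ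
    rw [CfsgLib.Blocks.coe_omegaO, CfsgLib.Blocks.omega_apply, Cfsg.brauerOmega,
      finsum_eq_sum_of_fintype, Finset.sum_div]
    exact Finset.sum_congr rfl fun x _ => by simp [CfsgLib.Blocks.toC, hzO]
  have hcond : ∀ ξ ∈ e, (Cfsg.MemLocalIdeal M (Cfsg.brauerOmega P β (ξ : (Subgroup.centralizer (P : Set G)) → ℂ) - 1) ↔
      omega (Subgroup.centralizer (P : Set G)) (sblk M (Subgroup.centralizer (P : Set G)) e) (br P b) = 1) := by
    intro ξ hξ
    have h1 := omega_blkE (φ := (Subgroup.centralizer (P : Set G)).subtype) hinj he hξ (redCtr M zO)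
    rw [hbr, (Subgroup.centralizer (P : Set G)).range_subtype] at h1
    rw [show sblk M (Subgroup.centralizer (P : Set G)) e = blkE M (Subgroup.centralizer (P : Set G)).subtype e from rfl, h1, CfsgLib.Blocks.omegaBar_redCtr, hom]
    constructor
    · intro h
      rw [← map_one (red M), CfsgLib.Blocks.red_eq_red_iff]
      simpa using h
    · intro h
      rw [← map_one (red M), CfsgLib.Blocks.red_eq_red_iff] at h
      simpa using h
  have hblk := isBlock_sblk (M := M) he
  have hm : br P b ∈ sub (Subgroup.centralizer (P : Set G)) (Subgroup.centralizer (P : Set G)) := by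
    rw [← hbr]
    have := emb_mem_sub (φ := (Subgroup.centralizer (P : Set G)).subtype) hinj (redCtr M zO).2
    rwa [(Subgroup.centralizer (P : Set G)).range_subtype] at this
  constructor
  · intro h
    obtain ⟨ξ, hξ⟩ := CfsgLib.Blocks.isPBlock_nonempty he
    refine (hblk.dichotomy hm (br_idem hP hfix hbb)).resolve_left fun h0 => ?_
    have h1 := (hcond ξ hξ).1 (h ξ hξ)
    rw [omega_unique hblk hm (c := 0) (by simp [h0])] at h1
    exact zero_ne_one h1
  · intro h ξ hξ
    rw [hcond ξ hξ]
    exact omega_unique hblk hm (by simp [h])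

theorem isBrauerPair_iff {Q : Subgroup G}
    {e : Set (IrrCharacter (Subgroup.centralizer (Q : Set G)))} (he : Cfsg.IsPBlock M e) :
    Cfsg.IsBrauerPair p M Q e ↔ IsPair p ⊤ Q (sblk M (Subgroup.centralizer (Q : Set G)) e) := by
  refine ⟨fun h => ⟨le_top, h.1, ?_⟩, fun h => ⟨h.2.1, he⟩⟩
  rw [cent_top]
  exact isBlock_sblk he

theorem isBrauerPairOf_iff {B : Set (IrrCharacter G)} (hB : Cfsg.IsPBlock M B) {Q : Subgroup G}
    {e : Set (IrrCharacter (Subgroup.centralizer (Q : Set G)))} (he : Cfsg.IsPBlock M e) :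
    Cfsg.IsBrauerPairOf p M B Q e ↔
      BlockHas p ⊤ (gblk M B) Q (sblk M (Subgroup.centralizer (Q : Set G)) e) := by
  haveI := Fintype.ofFinite G
  have hbl := isBlock_gblk (M := M) hB
  have key : IsPGroup p Q → ((∀ ξ ∈ e, Cfsg.MemLocalIdeal M (Cfsg.brauerOmega Q (Cfsg.blockCoeff B)
      (ξ : Subgroup.centralizer (Q : Set G) → ℂ) - 1)) ↔
      br Q (gblk M B) * sblk M (Subgroup.centralizer (Q : Set G)) e =
        sblk M (Subgroup.centralizer (Q : Set G)) e) := fun hQ =>
    brauer_condition hQ he _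
      (fun x => CfsgLib.Blocks.memLocalRing_blockCoeff
        (CfsgLib.Blocks.isBlockUnion_of_isPBlock hB) x)
      (fun c _ x _ => CfsgLib.Blocks.blockCoeff_conj B x c) (gblk_coeff B)
      (hbl.fixed.mono le_top) hbl.idem
  constructor
  · rintro ⟨h1, -, h3⟩
    exact ⟨(isBrauerPair_iff he).1 h1, (key h1.1).1 h3⟩
  · rintro ⟨h1, h3⟩
    exact ⟨(isBrauerPair_iff he).2 h1, hB, (key h1.2.1).2 h3⟩

theorem cj_centralizer (x : G) (Q : Subgroup G) :
    cj x (Subgroup.centralizer (Q : Set G)) =
      Subgroup.centralizer ((cj x Q : Subgroup G) : Set G) :=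
  Subgroup.ext fun _ => mem_cj_centralizer

theorem sblk_imageSet {K K' : Subgroup G} {x : G} (h : cj x K = K') (f : Set (IrrCharacter K)) :
    sblk M K' (imageSet (conjIso K K' x h) f) = conjA (Res M) x (sblk M K f) := by
  refine ga_ext fun g => ?_
  rw [conjA_coeff, sblk_coeff, sblk_coeff]
  congr 1
  have hiff : g ∈ K' ↔ x⁻¹ * g * x ∈ K := by rw [← h, mem_cj]
  rw [Cfsg.subgroupBlockCoeff, Cfsg.subgroupBlockCoeff]
  by_cases hg : g ∈ K'
  · rw [dif_pos hg, dif_pos (hiff.1 hg), blockCoeff_imageSet]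
    exact congrArg (Cfsg.blockCoeff f) (Subtype.ext (conjIso_symm_apply K K' x h ⟨g, hg⟩))
  · rw [dif_neg hg, dif_neg (fun h' => hg (hiff.2 h'))]

theorem mem_normalizer_iff_cj {K : Subgroup G} {x : G} :
    x ∈ Subgroup.normalizer (K : Set G) ↔ cj x K = K :=
  ⟨cj_eq_self, mem_normalizer_of_cj_eq⟩

theorem stabilizesBlock_iff {K : Subgroup G} {f : Set (IrrCharacter K)} (hf : Cfsg.IsPBlock M f)
    {x : G} : Cfsg.StabilizesBlock K f x ↔
      x ∈ Subgroup.normalizer (K : Set G) ∧ conjA (Res M) x (sblk M K f) = sblk M K f := by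
  haveI := Fintype.ofFinite K
  refine and_congr_right fun hx => ?_
  have h := cj_eq_self hx
  set e := conjIso K K x h with he
  have hrel : ∀ χ χ' : IrrCharacter K,
      Cfsg.IsConjCharOf K x (χ : K → ℂ) (χ' : K → ℂ) ↔ irrComp e χ' = χ := by
    intro χ χ'
    constructor
    · intro hc
      exact Subtype.ext (funext fun k => hc k (e k) (conjIso_apply K K x h k))
    · rintro rfl k k' hk
      rw [irrComp_apply, show e k = k' from Subtype.ext ((conjIso_apply K K x h k).trans hk.symm)]
  constructor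
  · intro hst
    obtain ⟨χ, hχ⟩ := CfsgLib.Blocks.isPBlock_nonempty hf
    obtain ⟨χ', hχ', hc⟩ := hst χ hχ
    have h1 : χ' ∈ imageSet e f := by
      show irrComp e χ' ∈ f
      rwa [(hrel χ χ').1 hc]
    rw [← sblk_imageSet h f, CfsgLib.Blocks.isPBlock_eq_of_mem (isPBlock_imageSet e hf) hf h1 hχ']
  · intro heq χ hχ
    have h1 : imageSet e f = f :=
      sblk_inj (isPBlock_imageSet e hf) hf (by rw [sblk_imageSet h f, heq])
    refine ⟨irrComp e.symm χ, ?_, (hrel _ _).2 (irrComp_symm e χ)⟩
    rw [← h1]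
    show irrComp e (irrComp e.symm χ) ∈ f
    rwa [irrComp_symm]

theorem conjBlock_eq_imageSet (Q : Subgroup G) (x : G)
    (f : Set (IrrCharacter (Subgroup.centralizer (Q : Set G)))) :
    Cfsg.conjBlock Q x f = imageSet (conjIso _ _ x (cj_centralizer x Q)) f := by
  ext ξ
  set e := conjIso _ _ x (cj_centralizer x Q) with he
  constructor
  · rintro ⟨η, hη, hrel⟩
    show irrComp e ξ ∈ f
    rwa [show irrComp e ξ = η from Subtype.ext (funext fun c =>
      hrel c (e c) (conjIso_apply _ _ x _ c))]
  · intro hξ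
    refine ⟨irrComp e ξ, hξ, fun c c' hc => ?_⟩
    rw [irrComp_apply, show e c = c' from Subtype.ext ((conjIso_apply _ _ x _ c).trans hc.symm)]

theorem isPBlock_conjBlock {Q : Subgroup G} (x : G)
    {f : Set (IrrCharacter (Subgroup.centralizer (Q : Set G)))} (hf : Cfsg.IsPBlock M f) :
    Cfsg.IsPBlock M (Cfsg.conjBlock Q x f) := by
  rw [conjBlock_eq_imageSet]
  exact isPBlock_imageSet _ hf

theorem sblk_conjBlock (Q : Subgroup G) (x : G)
    (f : Set (IrrCharacter (Subgroup.centralizer (Q : Set G)))) :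
    sblk M (Subgroup.centralizer ((cj x Q : Subgroup G) : Set G)) (Cfsg.conjBlock Q x f) =
      conjA (Res M) x (sblk M (Subgroup.centralizer (Q : Set G)) f) := by
  rw [conjBlock_eq_imageSet]
  exact sblk_imageSet (cj_centralizer x Q) f

theorem normalizer_le_normalizer_centralizer (Q : Subgroup G) :
    Subgroup.normalizer (Q : Set G) ≤
      Subgroup.normalizer ((Subgroup.centralizer (Q : Set G) : Subgroup G) : Set G) := fun x hx =>
  mem_normalizer_of_cj_eq (by rw [cj_centralizer, cj_eq_self hx])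

theorem isNormalSubpair_iff {Q P : Subgroup G}
    {f : Set (IrrCharacter (Subgroup.centralizer (Q : Set G)))}
    {e : Set (IrrCharacter (Subgroup.centralizer (P : Set G)))} (hf : Cfsg.IsPBlock M f)
    (he : Cfsg.IsPBlock M e) :
    Cfsg.IsNormalSubpair p M Q f P e ↔
      Step p ⊤ (Q, sblk M (Subgroup.centralizer (Q : Set G)) f)
        (P, sblk M (Subgroup.centralizer (P : Set G)) e) := by
  haveI := Fintype.ofFinite (Subgroup.centralizer (Q : Set G))
  have hbl := isBlock_sblk (M := M) hf
  have hfix : P ≤ Subgroup.normalizer (Q : Set G) →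
      ((∀ x ∈ P, Cfsg.StabilizesBlock (Subgroup.centralizer (Q : Set G)) f x) ↔
        IsFixed P (sblk M (Subgroup.centralizer (Q : Set G)) f)) := fun hN =>
    ⟨fun h x hx => ((stabilizesBlock_iff hf).1 (h x hx)).2,
      fun h x hx => (stabilizesBlock_iff hf).2
        ⟨normalizer_le_normalizer_centralizer Q (hN hx), h x hx⟩⟩
  have key : IsPGroup p P → Q ≤ P →
      IsFixed P (sblk M (Subgroup.centralizer (Q : Set G)) f) →
      ((∀ ξ ∈ e, Cfsg.MemLocalIdeal M (Cfsg.brauerOmega P
        (Cfsg.subgroupBlockCoeff (Subgroup.centralizer (Q : Set G)) f)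
        (ξ : Subgroup.centralizer (P : Set G) → ℂ) - 1)) ↔
      br P (sblk M (Subgroup.centralizer (Q : Set G)) f) *
        sblk M (Subgroup.centralizer (P : Set G)) e =
        sblk M (Subgroup.centralizer (P : Set G)) e) := fun hP hQP hfx => by
    refine brauer_condition hP he _ (fun x => ?_) (fun c hc x hx => ?_) (sblk_coeff _ f) hfx
      hbl.idem
    · rw [Cfsg.subgroupBlockCoeff]
      split_ifs with h
      · exact CfsgLib.Blocks.memLocalRing_blockCoeff
          (CfsgLib.Blocks.isBlockUnion_of_isPBlock hf) _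
      · exact CfsgLib.Blocks.memLocalRing_of_memLocalIdeal CfsgLib.Blocks.memLocalIdeal_zero
    · have hc' := Subgroup.centralizer_le (SetLike.coe_subset_coe.2 hQP) hc
      have hx' := Subgroup.centralizer_le (SetLike.coe_subset_coe.2 hQP) hx
      rw [Cfsg.subgroupBlockCoeff, Cfsg.subgroupBlockCoeff, dif_pos hx',
        dif_pos (mul_mem (mul_mem hc' hx') (inv_mem hc'))]
      exact CfsgLib.Blocks.blockCoeff_conj f ⟨x, hx'⟩ ⟨c, hc'⟩
  constructor
  · rintro ⟨h1, h2, h3, h4, h5, h6⟩
    have h5' := (hfix h4).1 h5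
    exact ⟨(isBrauerPair_iff hf).1 h1, (isBrauerPair_iff he).1 h2, h3, h4, h5',
      (key h2.1 h3 h5').1 h6⟩
  · rintro ⟨h1, h2, h3, h4, h5, h6⟩
    exact ⟨(isBrauerPair_iff hf).2 h1, (isBrauerPair_iff he).2 h2, h3, h4, (hfix h4).2 h5,
      (key h2.2.1 h3 h5).2 h6⟩

theorem subpairLE_isPBlock {Q P : Subgroup G}
    {f : Set (IrrCharacter (Subgroup.centralizer (Q : Set G)))}
    {e : Set (IrrCharacter (Subgroup.centralizer (P : Set G)))}
    (h : Cfsg.SubpairLE p M Q f P e) (hf : Cfsg.IsPBlock M f) : Cfsg.IsPBlock M e := by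
  suffices ∀ a b : BrauerPairIdx G, Relation.ReflTransGen (Cfsg.NormalSubpairRel p M) a b →
      Cfsg.IsPBlock M a.2 → Cfsg.IsPBlock M b.2 from this _ _ h hf
  intro a b hab ha
  induction hab with
  | refl => exact ha
  | tail _ hs _ => exact hs.2.1.2

theorem subpairLE_iff {Q P : Subgroup G}
    {f : Set (IrrCharacter (Subgroup.centralizer (Q : Set G)))}
    {e : Set (IrrCharacter (Subgroup.centralizer (P : Set G)))} (hf : Cfsg.IsPBlock M f)
    (he : Cfsg.IsPBlock M e) :
    Cfsg.SubpairLE p M Q f P e ↔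
      Le p ⊤ Q (sblk M (Subgroup.centralizer (Q : Set G)) f) P
        (sblk M (Subgroup.centralizer (P : Set G)) e) := by
  constructor
  · intro h
    refine Relation.ReflTransGen.lift (p := Step p (⊤ : Subgroup G))
      (fun a : BrauerPairIdx G => (a.1, sblk M (Subgroup.centralizer (a.1 : Set G)) a.2))
      (fun a b hab => ?_) _ _ h
    exact (isNormalSubpair_iff hab.1.2 hab.2.1.2).1 hab
  · intro h
    suffices ∀ a b : Subgroup G × GA (Res M) G, Relation.ReflTransGen (Step p ⊤) a b →
        a = (Q, sblk M (Subgroup.centralizer (Q : Set G)) f) →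
        ∀ e' : Set (IrrCharacter (Subgroup.centralizer (b.1 : Set G))), Cfsg.IsPBlock M e' →
          b.2 = sblk M (Subgroup.centralizer (b.1 : Set G)) e' →
          Cfsg.SubpairLE p M Q f b.1 e' from this _ _ h rfl e he rfl
    intro a b hab
    induction hab with
    | refl =>
      rintro rfl e' he' heq
      rw [sblk_inj hf he' heq]
      exact Relation.ReflTransGen.refl
    | @tail b c _ hs ih =>
      intro ha e' he' heq
      obtain ⟨g, hg, hgeq⟩ := exists_eq_sblk (M := M)
        (K := Subgroup.centralizer (b.1 : Set G)) (e := b.2) (by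
          have := hs.1.2.2
          rwa [cent_top] at this)
      refine Relation.ReflTransGen.tail (ih ha g hg hgeq) ?_
      show Cfsg.IsNormalSubpair p M b.1 g c.1 e'
      rw [isNormalSubpair_iff hg he', ← hgeq, ← heq]
      exact hs

theorem isMaximalBrauerPair_iff {B : Set (IrrCharacter G)} (hB : Cfsg.IsPBlock M B)
    {P : Subgroup G} {e : Set (IrrCharacter (Subgroup.centralizer (P : Set G)))}
    (he : Cfsg.IsPBlock M e) :
    Cfsg.IsMaximalBrauerPair p M B P e ↔
      IsMaxPair p ⊤ (gblk M B) P (sblk M (Subgroup.centralizer (P : Set G)) e) := by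
  refine and_congr (isBrauerPairOf_iff hB he) ⟨fun h R g hR hle => ?_, fun h R g hR hle => ?_⟩
  · obtain ⟨g', hg', rfl⟩ := exists_eq_sblk (M := M)
      (K := Subgroup.centralizer (R : Set G)) (e := g) (by
        have := hR.1.2.2
        rwa [cent_top] at this)
    exact h R g' ((isBrauerPairOf_iff hB hg').2 hR) ((subpairLE_iff he hg').2 hle)
  · exact h R _ ((isBrauerPairOf_iff hB hR.1.2).1 hR) ((subpairLE_iff he hR.1.2).1 hle)

end CfsgLib.BlockPairs
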