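import Cfsg.Agent.BlockPairs.Graded
import Cfsg.Agent.BlockPairs.PairBridge
import Cfsg.Agent.BlocksLocal.Covering
import Mathlib.RingTheory.Artinian.Ring

/-!
# Covered blocks

For `N` normal, a block `b` of the whole group and a block `g` of `N` with `b * g ≠ 0`, every
p-subgroup of `N` at which `g` survives the Brauer map is one at which `b` does
(`br_ne_zero_of_cover`); hence the covered blocks stable under a defect group `P` of `b` have
`P ⊓ N` as defect group (`exists_stable_cover`).  `cover_iff` translates covering.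
-/

set_option autoImplicit false
set_option linter.unusedSectionVars false
set_option linter.style.haveILetI false

namespace CfsgLib.BlockPairs

section Model

variable {F G : Type*} [Field F] [Group G] [Finite G] [IsAlgClosed F] {p : ℕ} [hp : Fact p.Prime]
  [CharP F p] {N : Subgroup G} [hNn : N.Normal]

theorem cj_of_normal (x : G) : cj x N = N :=
  cj_eq_self (by rw [Subgroup.normalizer_eq_top (H := N)]; exact Subgroup.mem_top x)

theorem isBlock_conjA_of_normal {g : GA F G} (hg : IsBlock N g) (x : G) :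
    IsBlock N (conjA F x g) := by
  have := hg.conjA x
  rwa [cj_of_normal] at this

open Classical in
/-- The part of an element in one coset of `N`. -/
noncomputable def part (q : G ⧸ N) (a : GA F G) : GA F G :=
  MonoidAlgebra.ofCoeff (Finsupp.equivFunOnFinite.symm
    fun u => if (u : G ⧸ N) = q then a.coeff u else 0)

open Classical in
theorem part_coeff (q : G ⧸ N) (a : GA F G) (u : G) :
    (part q a).coeff u = if (u : G ⧸ N) = q then a.coeff u else 0 := rfl

/-- The homogeneous elements of the kernel of the Brauer map in `g (F G)^N g`. -/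
def KerHom (R : Subgroup G) (g a : GA F G) (q : G ⧸ N) : Prop :=
  (∀ u : G, a.coeff u ≠ 0 → (u : G ⧸ N) = q) ∧ IsFixed N a ∧ g * a = a ∧ br R a = 0

theorem isNilpotent_of_br_eq_zero {R : Subgroup G} (hR : R ≤ N) (hRp : IsPGroup p R) {g z : GA F G}
    (hg : IsBlock N g) (hRg : br R g ≠ 0) (hz : z ∈ sub N N) (hzg : g * z = z) (hbr : br R z = 0) :
    IsNilpotent z := by
  have h0 : omega N g z = 0 := by
    by_contra hne
    obtain ⟨u, hu, hue⟩ := exists_inv_of_omega_ne_zero hg hz hne
    apply hRg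
    rw [← hue, br_mul hRp (hz.2.mono hR) (hu.2.mono hR), hbr, zero_mul]
  have h := isNilpotent_omega hg hz
  rwa [h0, zero_smul, sub_zero, sub_comm hz hg.mem, hzg] at h

theorem exists_bound (S : Subalgebra F (GA F G)) (hS : ∀ a ∈ S, ∀ b ∈ S, a * b = b * a) :
    ∃ d : ℕ, ∀ z : List (GA F G), z.length = d → (∀ a ∈ z, a ∈ S ∧ IsNilpotent a) →
      z.prod = 0 := by
  letI : CommRing S :=
    { (inferInstance : Ring S) with mul_comm := fun a b => Subtype.ext (hS a a.2 b b.2) }
  haveI : IsArtinianRing S := IsArtinianRing.of_finite F _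
  obtain ⟨d, hd⟩ := IsArtinianRing.isNilpotent_nilradical (R := S)
  refine ⟨d, fun z hz hzS => ?_⟩
  set z' : List S := z.attach.map fun a => ⟨a.1, (hzS a.1 a.2).1⟩ with hz'
  have hmem : ∀ l : List S, (∀ a ∈ l, a ∈ nilradical S) → l.prod ∈ (nilradical S) ^ l.length := by
    intro l
    induction l with
    | nil => intro; simp
    | cons a l ih =>
      intro h
      rw [List.prod_cons, List.length_cons, pow_succ']
      exact Ideal.mul_mem_mul (h a (by simp)) (ih fun b hb => h b (by simp [hb]))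
  have h1 := hmem z' fun a ha => by
    obtain ⟨x, -, rfl⟩ := List.mem_map.1 ha
    obtain ⟨n, hn⟩ := (hzS x.1 x.2).2
    exact ⟨n, Subtype.ext (by rw [SubmonoidClass.coe_pow]; exact hn)⟩
  rw [show z'.length = d by simp [hz', hz], hd] at h1
  have h2 := congrArg S.val (show z'.prod = 0 from h1)
  rw [map_list_prod, map_zero] at h2
  have e : z'.map S.val = z := by
    rw [hz', List.map_map]
    exact z.attach_map_subtype_val
  rwa [e] at h2

theorem br_cover_ne_zero {b g : GA F G} (hb : IsBlock (⊤ : Subgroup G) b) (hg : IsBlock N g)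
    (hbg : b * g ≠ 0) {R : Subgroup G} (hR : R ≤ N) (hRp : IsPGroup p R) (hRg : br R g ≠ 0) :
    br R (b * g) ≠ 0 := by
  classical
  intro hb0
  rw [mul_comm_of_fixed_supp (hb.fixed.mono le_top) hg.supp] at hb0
  haveI := Fintype.ofFinite (G ⧸ N)
  obtain ⟨d, hd⟩ := exists_bound (sub (F := F) N N) fun a ha c hc => sub_comm ha hc
  have hmul : ∀ a c q r, KerHom R g a q → KerHom R g c r → KerHom (N := N) R g (a * c) (q * r) := by
    rintro a c q r ⟨ha, haf, hag, habr⟩ ⟨hc, hcf, -, -⟩
    refine ⟨fun u hu => ?_, fun n hn => by rw [conjA_mul, haf n hn, hcf n hn],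
      by rw [← mul_assoc, hag], by
        rw [br_mul hRp (haf.mono hR) (hcf.mono hR), habr, zero_mul]⟩
    haveI := Fintype.ofFinite G
    by_contra hne
    apply hu
    rw [coeff_mul_sum]
    refine Finset.sum_eq_zero fun h _ => ?_
    by_contra h0
    obtain ⟨h1, h2⟩ := mul_ne_zero_iff.1 h0
    apply hne
    rw [← ha h h1, ← hc _ h2, ← QuotientGroup.mk_mul, mul_inv_cancel_left]
  have hdz : ∀ z : List (GA F G), z.length = d → (∀ a ∈ z, KerHom (N := N) R g a 1) → z.prod = 0 :=
    fun z hz hzP => hd z hz fun a ha => by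
      obtain ⟨h1, h2, h3, h4⟩ := hzP a ha
      have hm : a ∈ sub N N := ⟨fun u hu => (QuotientGroup.eq_one_iff u).1 (h1 u hu), h2⟩
      exact ⟨hm, isNilpotent_of_br_eq_zero hR hRp hg hRg hm h3 h4⟩
  set e := g * b with he
  have hcomm : b * g = g * b := mul_comm_of_fixed_supp (hb.fixed.mono le_top) hg.supp
  have heP : ∀ q : G ⧸ N, KerHom R g (g * part q b) q := by
    intro q
    refine ⟨fun u hu => ?_, fun n hn => ?_, by rw [← mul_assoc, hg.idem], ?_⟩
    · haveI := Fintype.ofFinite G
      by_contra hne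
      apply hu
      rw [coeff_mul_sum]
      refine Finset.sum_eq_zero fun h _ => ?_
      by_cases hh : h ∈ N
      · rw [part_coeff, if_neg, mul_zero]
        intro h1
        apply hne
        rwa [QuotientGroup.mk_mul, (QuotientGroup.eq_one_iff h⁻¹).2 (N.inv_mem hh), one_mul] at h1
      · rw [hg.supp.coeff_eq_zero hh, zero_mul]
    · rw [conjA_mul, hg.fixed n hn]
      congr 1
      refine ga_ext fun u => ?_
      rw [conjA_coeff, part_coeff, part_coeff]
      have hu : ((n⁻¹ * u * n : G) : G ⧸ N) = u := by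
        rw [QuotientGroup.mk_mul, QuotientGroup.mk_mul, (QuotientGroup.eq_one_iff n⁻¹).2
          (N.inv_mem hn), (QuotientGroup.eq_one_iff n).2 hn, one_mul, mul_one]
      have hbu : b.coeff (n⁻¹ * u * n) = b.coeff u := by
        simpa using hb.fixed.coeff' (Subgroup.mem_top n⁻¹) u
      rw [hu, hbu]
    · have hpc : g * part q b = part q (g * b) := by
        haveI := Fintype.ofFinite G
        refine ga_ext fun u => ?_
        rw [part_coeff, coeff_mul_sum, coeff_mul_sum]
        by_cases hu : (u : G ⧸ N) = q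
        · rw [if_pos hu]
          refine Finset.sum_congr rfl fun h _ => ?_
          by_cases hh : h ∈ N
          · rw [part_coeff, if_pos]
            rwa [QuotientGroup.mk_mul, (QuotientGroup.eq_one_iff h⁻¹).2 (N.inv_mem hh), one_mul]
          · rw [hg.supp.coeff_eq_zero hh, zero_mul, zero_mul]
        · rw [if_neg hu]
          refine Finset.sum_eq_zero fun h _ => ?_
          by_cases hh : h ∈ N
          · rw [part_coeff, if_neg, mul_zero]
            rwa [QuotientGroup.mk_mul, (QuotientGroup.eq_one_iff h⁻¹).2 (N.inv_mem hh), one_mul]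
          · rw [hg.supp.coeff_eq_zero hh, zero_mul]
      rw [hpc]
      refine ga_ext fun u => ?_
      by_cases hu : u ∈ Subgroup.centralizer (R : Set G)
      · have h1 := congrArg (fun a : GA F G => a.coeff u) hb0
        simp only [br_coeff_mem R _ hu] at h1
        rw [br_coeff_mem R _ hu, part_coeff, h1]
        simp
      · rw [br_coeff_not_mem R _ hu]; simp
  have hsum : ∑ q : G ⧸ N, g * part q b = e := by
    rw [← Finset.mul_sum, he]
    congr 1
    refine ga_ext fun u => ?_
    rw [MonoidAlgebra.coeff_sum, Finsupp.finsetSum_apply,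
      Finset.sum_eq_single (u : G ⧸ N) (fun q _ hq => by rw [part_coeff, if_neg (Ne.symm hq)])
        (fun h => absurd (Finset.mem_univ _) h), part_coeff, if_pos rfl]
  have key : ∀ (m : ℕ) (l : List (GA F G × (G ⧸ N))), (∀ x ∈ l, KerHom R g x.1 x.2) →
      l.length + m = Fintype.card (G ⧸ N) * d → (l.map Prod.fst).prod * e ^ m = 0 := by
    intro m
    induction m with
    | zero =>
      intro l hl hlen
      rw [prod_eq_zero_of_graded hmul hdz l hl (by omega), zero_mul]
    | succ m ih =>
      intro l hl hlen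
      rw [pow_succ', ← hsum, Finset.sum_mul, Finset.mul_sum, hsum]
      refine Finset.sum_eq_zero fun q _ => ?_
      have := ih (l ++ [(g * part q b, q)]) (fun x hx => by
        rcases List.mem_append.1 hx with hx | hx
        · exact hl x hx
        · rw [List.mem_singleton.1 hx]; exact heP q) (by simp; omega)
      simpa [mul_assoc] using this
  have hee : e * e = e := by
    rw [he, ← mul_assoc, mul_assoc g b g, hcomm, ← mul_assoc, hg.idem, mul_assoc, hb.idem]
  have hpow : ∀ m : ℕ, e ^ (m + 1) = e := fun m => by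
    induction m with
    | zero => rw [zero_add, pow_one]
    | succ m ih => rw [pow_succ, ih, hee]
  have h0 := key (Fintype.card (G ⧸ N) * d) [] (by simp) (by simp)
  simp only [List.map_nil, List.prod_nil, one_mul] at h0
  rcases Nat.eq_zero_or_pos (Fintype.card (G ⧸ N) * d) with h1 | h1
  · rw [h1, pow_zero] at h0
    exact hbg (by rw [← mul_one (b * g), h0, mul_zero])
  · rw [← Nat.sub_add_cancel h1, hpow] at h0
    exact hbg (hcomm.trans h0)

theorem br_ne_zero_of_cover {b g : GA F G} (hb : IsBlock (⊤ : Subgroup G) b) (hg : IsBlock N g)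
    (hbg : b * g ≠ 0) {R : Subgroup G} (hR : R ≤ N) (hRp : IsPGroup p R) (hRg : br R g ≠ 0) :
    br R b ≠ 0 := fun h0 => br_cover_ne_zero hb hg hbg hR hRp hRg (by
  rw [br_mul hRp (hb.fixed.mono le_top) (hg.fixed.mono hR), h0, zero_mul])

open Classical in
/-- Some block covered by `b` is stable under a defect group and has its intersection with `N` as
a defect group. -/
theorem exists_stable_cover {b : GA F G} (hb : IsBlock (⊤ : Subgroup G) b) {P : Subgroup G}
    (hP : IsDefectGrp p ⊤ b P) :
    ∃ g, IsBlock N g ∧ b * g ≠ 0 ∧ (∀ x ∈ P, conjA F x g = g) ∧ IsDefectGrp p N g (P ⊓ N) := by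
  set S := (blocks F N).filter fun g => b * g ≠ 0
  have hbsum : ∑ g ∈ S, b * g = b := by
    rw [Finset.sum_filter_ne_zero, ← Finset.mul_sum, sum_blocks_eq_one, mul_one]
  have hSmem : ∀ g ∈ S, IsBlock N g ∧ b * g ≠ 0 := fun g hg =>
    ⟨mem_blocks.1 (Finset.mem_filter.1 hg).1, (Finset.mem_filter.1 hg).2⟩
  letI act : MulAction P (GA F G) :=
    { smul := fun x a => conjA F (x : G) a
      one_smul := fun a => conjA_one_left a
      mul_smul := fun x y a => (conjA_conjA (x : G) y a).symm }
  obtain ⟨g, hgS, hgP, hgne⟩ : ∃ g ∈ S, (∀ x ∈ P, conjA F x g = g) ∧ br P (b * g) ≠ 0 := by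
    by_contra hno
    push Not at hno
    apply hP.2.2.1
    rw [← hbsum]
    refine ga_ext fun u => ?_
    by_cases hu : u ∈ Subgroup.centralizer (P : Set G)
    · rw [br_coeff_mem P _ hu, MonoidAlgebra.coeff_sum, Finsupp.finsetSum_apply]
      have hcl : ∀ x : P, ∀ g ∈ S, conjA F (x : G) g ∈ S := fun x g hg => by
        refine Finset.mem_filter.2 ⟨mem_blocks.2 (isBlock_conjA_of_normal (hSmem g hg).1 x),
          fun h0 => (hSmem g hg).2 ?_⟩
        apply conjA_injective (x : G)
        rw [conjA_mul, hb.fixed x (Subgroup.mem_top _), h0, conjA_zero]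
      letI : MulAction P {x // x ∈ S} :=
        { smul := fun x g => ⟨conjA F (x : G) g.1, hcl x _ g.2⟩
          one_smul := fun g => Subtype.ext (conjA_one_left g.1)
          mul_smul := fun x y g => Subtype.ext (conjA_conjA (x : G) y g.1).symm }
      rw [← Finset.sum_coe_sort, sum_eq_sum_fixed (p := p) (R := P) hP.2.1
        (fun m : F => by rw [nsmul_eq_mul, CharP.cast_eq_zero, zero_mul]) (fun g : {x // x ∈ S} =>
        (b * g.1).coeff u) fun x g => ?_]
      · rw [show (0 : GA F G).coeff u = 0 by simp]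
        refine Finset.sum_eq_zero fun g hg => ?_
        have h1 := hno g.1 g.2 fun x hx => congrArg Subtype.val
          ((Finset.mem_filter.1 hg).2 ⟨x, hx⟩)
        have h2 := congrArg (fun a : GA F G => a.coeff u) h1
        simpa [br_coeff_mem P _ hu] using h2
      · show (b * conjA F (x : G) g.1).coeff u = _
        conv_lhs => rw [← hb.fixed x (Subgroup.mem_top _), ← conjA_mul, conjA_coeff]
        congr 1
        have h3 := Subgroup.mem_centralizer_iff.1 hu _ x.2
        rw [mul_assoc, ← h3, inv_mul_cancel_left]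
    · rw [br_coeff_not_mem P _ hu]; simp
  obtain ⟨hgB, hbg⟩ := hSmem g hgS
  refine ⟨g, hgB, hbg, hgP, ?_⟩
  have hPN : br (P ⊓ N) g ≠ 0 := fun h0 => hgne (by
    rw [br_mul hP.2.1 (hb.fixed.mono le_top) hgP, br_eq_zero_of_le inf_le_left h0, mul_zero])
  obtain ⟨D, hD⟩ := exists_defectGrp (p := p) hgB
  obtain ⟨n, hn, hle⟩ := hD.2.2.2 _ inf_le_right (hP.2.1.to_le inf_le_left) hPN
  obtain ⟨x, -, hx⟩ := hP.2.2.2 D le_top hD.2.1
    (br_ne_zero_of_cover hb hgB hbg hD.1 hD.2.1 hD.2.2.1)
  have hcard : Nat.card D ≤ Nat.card (P ⊓ N : Subgroup G) := by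
    rw [← card_cj x D]
    refine Subgroup.card_le_of_le (le_inf hx ?_)
    rw [← cj_of_normal (N := N) x]
    exact cj_mono x hD.1
  have heq : cj n (P ⊓ N) = D := Subgroup.eq_of_le_of_card_ge hle (by rwa [card_cj])
  have h := hD.cj hgB.fixed (N.inv_mem hn)
  rwa [← heq, cj_inv_cj] at h

open Classical in
theorem sum_orbit_props {g : GA F G} (hg : IsBlock N g) :
    orbitSum ⊤ g ∈ sub N N ∧ orbitSum ⊤ g * g = g ∧
      orbitSum ⊤ g * orbitSum ⊤ g = orbitSum ⊤ g ∧
      ∀ h, IsBlock N h → orbitSum ⊤ g * h ≠ 0 → ∃ x, conjA F x g = h := by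
  set T := (Set.toFinite (Set.range fun y : (⊤ : Subgroup G) => conjA F (y : G) g)).toFinset
  have hs : ∀ a ∈ T, IsBlock N a := by
    intro a ha
    obtain ⟨y, rfl⟩ := (Set.Finite.mem_toFinset _).1 ha
    exact isBlock_conjA_of_normal hg y
  refine ⟨Subalgebra.sum_mem _ fun a ha => (hs a ha).mem, ?_, ?_, fun h hh hne => ?_⟩
  · rw [orbitSum, mul_sum_blocks_eq hs hg, if_pos]
    exact (Set.Finite.mem_toFinset _).2 ⟨⟨1, trivial⟩, conjA_one_left g⟩
  · conv_lhs => arg 2; rw [orbitSum]
    rw [Finset.mul_sum, orbitSum]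
    exact Finset.sum_congr rfl fun a ha => by rw [mul_sum_blocks_eq hs (hs a ha), if_pos ha]
  · rw [orbitSum, mul_sum_blocks_eq hs hh] at hne
    split_ifs at hne with h'
    · obtain ⟨y, hy⟩ := (Set.Finite.mem_toFinset _).1 h'
      exact ⟨y, hy⟩
    · exact absurd rfl hne

theorem cover_orbit {b g : GA F G} (hb : IsBlock (⊤ : Subgroup G) b) (hg : IsBlock N g)
    (hbg : b * g ≠ 0) : b * orbitSum ⊤ g = b := by
  obtain ⟨hm, hsg, hss, -⟩ := sum_orbit_props hg
  have hm' : orbitSum ⊤ g ∈ sub (⊤ : Subgroup G) ⊤ := ⟨isSupp_top _, isFixed_orbitSum ⊤ g⟩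
  rw [sub_comm hb.mem hm']
  refine (hb.dichotomy hm' hss).resolve_left fun h0 => hbg ?_
  rw [← hsg, ← mul_assoc, sub_comm hb.mem hm', h0, zero_mul]

end Model

/-! ### Covering -/

open Cfsg
open CfsgLib.Blocks (Res Ctr)

universe u

variable {G : Type u} [Group G] [Fintype G] {M : Ideal AlgInt} [M.IsPrime] [IsAlgClosed (Res M)]
  {p : ℕ} [hp : Fact p.Prime] [CharP (Res M) p]
  (N : Subgroup G) [hNn : N.Normal] [Fintype N]

theorem mul_ne_zero_of_cover {B : Set (IrrCharacter G)} (hB : Cfsg.IsPBlock M B)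
    {c : Set (IrrCharacter N)} (hc : Cfsg.IsPBlock M c) {χ : IrrCharacter G} (hχ : χ ∈ B)
    {θ : IrrCharacter N} (hθ : θ ∈ c)
    (hcov : Cfsg.classInner (fun n : N => (χ : G → ℂ) n) (θ : N → ℂ) ≠ 0) :
    gblk M B * sblk M N c ≠ 0 := by
  classical
  intro h0
  have hb := isBlock_gblk (M := M) hB
  have hg := isBlock_sblk (M := M) hc
  obtain ⟨hm, hsg, hss, -⟩ := sum_orbit_props hg
  set o := orbitSum (⊤ : Subgroup G) (sblk M N c) with ho
  have hm' : o ∈ sub (MonoidHom.id G).range (MonoidHom.id G).range := by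
    rw [range_id_eq]; exact ⟨isSupp_top _, isFixed_orbitSum ⊤ _⟩
  have hm'' : o ∈ sub N.subtype.range N.subtype.range := by rw [N.range_subtype]; exact hm
  obtain ⟨z, hz⟩ := exists_emb (φ := MonoidHom.id G) Function.injective_id hm'
  have hcoeff : ∀ u, (z : GA (Res M) G).coeff u = o.coeff u := fun u => by
    rw [← hz]
    exact (emb_coeff_apply (φ := MonoidHom.id G) Function.injective_id _ u).symm
  have hz' : emb N.subtype ((CfsgLib.Blocks.resCtr N z : Ctr (Res M) N) : GA (Res M) N) = o :=
    ga_ext fun u => by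
      by_cases hu : u ∈ N
      · rw [show u = N.subtype ⟨u, hu⟩ from rfl, emb_coeff_apply N.subtype_injective,
          CfsgLib.Blocks.coeff_resCtr, hcoeff]
        rfl
      · rw [emb_coeff_not_mem _ _ (by rwa [N.range_subtype]), hm.1.coeff_eq_zero hu]
  have h1 : omega N.subtype.range (blkE M N.subtype c) o = 1 := by
    refine omega_unique (isBlock_blkE N.subtype_injective hc) hm'' ⟨1, ?_⟩
    rw [pow_one, one_smul, ← sblk, ho, hsg, sub_self]
  rw [← hz', omega_blkE N.subtype_injective hc hθ, ← CfsgLib.BlocksLocal.omegaBar_eq_of_covers N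
    hcov z (fun u hu => by rw [hcoeff, hm.1.coeff_eq_zero hu]),
    ← omega_blkE (φ := MonoidHom.id G) Function.injective_id hB hχ z, hz] at h1
  have h2 : omega (MonoidHom.id G).range (blkE M (MonoidHom.id G) B) o = 0 := by
    refine omega_unique (isBlock_blkE Function.injective_id hB) hm' ⟨1, ?_⟩
    have h3 : ∀ x : G, gblk M B * conjA (Res M) x (sblk M N c) = 0 := fun x => by
      rw [← hb.fixed x (Subgroup.mem_top x), ← conjA_mul, h0, conjA_zero]
    rw [pow_one, zero_smul, sub_zero, ← gblk,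
      sub_comm (H := (⊤ : Subgroup G)) ⟨isSupp_top _, isFixed_orbitSum ⊤ _⟩ hb.mem, orbitSum,
      Finset.mul_sum]
    refine Finset.sum_eq_zero fun a ha => ?_
    obtain ⟨y, rfl⟩ := (Set.Finite.mem_toFinset _).1 ha
    exact h3 y
  exact zero_ne_one (h2.symm.trans h1)

/-- Covering is non-vanishing of the product of the idempotents. -/
theorem cover_iff {B : Set (IrrCharacter G)} (hB : Cfsg.IsPBlock M B)
    {c : Set (IrrCharacter N)} (hc : Cfsg.IsPBlock M c) :
    (∃ χ ∈ B, ∃ θ ∈ c, Cfsg.classInner (fun n : N => (χ : G → ℂ) n) (θ : N → ℂ) ≠ 0) ↔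
      gblk M B * sblk M N c ≠ 0 := by
  refine ⟨fun ⟨χ, hχ, θ, hθ, hcov⟩ => mul_ne_zero_of_cover N hB hc hχ hθ hcov, fun h => ?_⟩
  have hb := isBlock_gblk (M := M) hB
  have hg := isBlock_sblk (M := M) hc
  obtain ⟨χ, hχ⟩ := CfsgLib.Blocks.isPBlock_nonempty hB
  obtain ⟨ψ, hψ⟩ := CfsgLib.BlocksLocal.exists_constituent N χ
  have hc' := CfsgLib.Blocks.isPBlock_blockOf (M := M) ψ
  have h' := mul_ne_zero_of_cover N hB hc' hχ (CfsgLib.Blocks.mem_blockOf_self ψ) hψ
  have ho := cover_orbit hb hg h
  obtain ⟨x, hx⟩ := (sum_orbit_props hg).2.2.2 _ (isBlock_sblk hc') fun h0 => h' (by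
    rw [← ho, mul_assoc, h0, mul_zero])
  have hcj : cj x N = N := cj_of_normal x
  have himg : imageSet (conjIso N N x hcj) c = Cfsg.blockOf M (ψ : N → ℂ) :=
    sblk_inj (isPBlock_imageSet _ hc) hc' (by rw [sblk_imageSet hcj c, hx])
  have hmem : irrComp (conjIso N N x hcj) ψ ∈ c := by
    show ψ ∈ imageSet (conjIso N N x hcj) c
    rw [himg]
    exact CfsgLib.Blocks.mem_blockOf_self ψ
  refine ⟨χ, hχ, _, hmem, ?_⟩
  have heq : Cfsg.classInner (fun n : N => (χ : G → ℂ) n)
      (irrComp (conjIso N N x hcj) ψ : N → ℂ) =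
      Cfsg.classInner (fun n : N => (χ : G → ℂ) n) (ψ : N → ℂ) := by
    simp only [Cfsg.classInner]
    congr 1
    refine Fintype.sum_equiv (conjIso N N x hcj).toEquiv _ _ fun n => ?_
    rw [irrComp_apply]
    congr 1
    show (χ : G → ℂ) n = (χ : G → ℂ) (conjIso N N x hcj n : G)
    rw [conjIso_apply, CfsgLib.Characters.isClassFunction_of_isIrr χ.2]
  rwa [heq]

end CfsgLib.BlockPairs
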