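import Cfsg.Agent.BlockPairs.Pairs

/-!
# Maximal pairs, defect groups and Brauer's first main theorem

`block_stabilizer`: a pair's block is a block of its stabilizer; `firstMain`: blocks of `N_H(Q)`
with defect group `Q` correspond to blocks of `H` with defect group `Q`;
`IsMaxPair.isDefectGrp`, `exists_le_maxPair`, `maxPairs_conj`, `exists_conj_le`.
-/

set_option autoImplicit false
set_option linter.unusedSectionVars false
set_option linter.style.haveILetI false

namespace CfsgLib.BlockPairs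

variable {F : Type*} [Field F] {G : Type*} [Group G]

/-- The stabilizer of the pair `(Q, f)` in `H`. -/
def stab (H Q : Subgroup G) (f : GA F G) : Subgroup G where
  carrier := {x | x ∈ H ⊓ Subgroup.normalizer (Q : Set G) ∧ conjA F x f = f}
  one_mem' := ⟨one_mem _, conjA_one_left f⟩
  mul_mem' := fun {x y} hx hy => ⟨mul_mem hx.1 hy.1, by rw [← conjA_conjA, hy.2, hx.2]⟩
  inv_mem' := fun {x} hx => ⟨inv_mem hx.1, by conv_lhs => rw [← hx.2, conjA_inv]⟩

theorem mem_stab {H Q : Subgroup G} {f : GA F G} {x : G} :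
    x ∈ stab H Q f ↔ (x ∈ H ∧ x ∈ Subgroup.normalizer (Q : Set G)) ∧ conjA F x f = f := Iff.rfl

theorem stab_le {H Q : Subgroup G} {f : GA F G} : stab H Q f ≤ H := fun _ hx => hx.1.1

theorem stab_le_normalizer {H Q : Subgroup G} {f : GA F G} :
    stab H Q f ≤ Subgroup.normalizer (Q : Set G) := fun _ hx => hx.1.2

variable [Finite G] {p : ℕ} [hp : Fact p.Prime] [CharP F p]

theorem IsPair.cent_le_stab {H Q : Subgroup G} {f : GA F G} (h : IsPair p H Q f) :
    cent H Q ≤ stab H Q f := fun _ hx =>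
  ⟨⟨hx.1, cent_le_normalizer hx⟩, h.2.2.fixed _ hx⟩

theorem IsPair.fixed_self {H Q : Subgroup G} {f : GA F G} (h : IsPair p H Q f) : IsFixed Q f := by
  intro u hu
  refine ga_ext fun g => ?_
  rw [conjA_coeff]
  by_cases hg : g ∈ Subgroup.centralizer (Q : Set G)
  · congr 1
    rw [mul_assoc, ← Subgroup.mem_centralizer_iff.1 hg u hu]
    group
  · rw [h.2.2.supp.coeff_eq_zero (fun hh => hg hh.2),
      h.2.2.supp.coeff_eq_zero (fun hh => hg ?_)]
    have hu' : u ∈ Subgroup.normalizer ((Subgroup.centralizer (Q : Set G) : Subgroup G) : Set G) := by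
      refine mem_normalizer_of_cj_eq ?_
      ext z
      rw [mem_cj_centralizer, cj_eq_self (Subgroup.le_normalizer hu)]
    exact ((Subgroup.mem_normalizer_iff).1 (Subgroup.inv_mem _ hu') g).2 (by simpa using hh.2)

theorem IsPair.le_stab {H Q : Subgroup G} {f : GA F G} (h : IsPair p H Q f) : Q ≤ stab H Q f :=
  fun _ hx => ⟨⟨h.1 hx, Subgroup.le_normalizer hx⟩, h.fixed_self _ hx⟩

/-- The block of a pair is a block of the pair's stabilizer. -/
theorem block_stabilizer {H Q : Subgroup G} {f : GA F G} (h : IsPair p H Q f) :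
    IsBlock (stab H Q f) f := by
  refine ⟨⟨h.2.2.supp.mono h.cent_le_stab, fun u hu => hu.2⟩, h.2.2.idem, h.2.2.ne_zero,
    fun u hu huu => h.2.2.dichotomy ?_ huu⟩
  refine ⟨?_, hu.2.mono h.cent_le_stab⟩
  exact (isSupp_centralizer_of_normal h.2.1 h.le_stab stab_le_normalizer hu huu).mono
    (inf_le_inf_right _ stab_le)

/-- `(P, e)` is a maximal pair of the block `b`. -/
def IsMaxPair (p : ℕ) (H : Subgroup G) (b : GA F G) (P : Subgroup G) (e : GA F G) : Prop :=
  BlockHas p H b P e ∧ ∀ R g, BlockHas p H b R g → Le p H P e R g → R = P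

/-- Step from a pair to a defect group of its block in the stabilizer. -/
theorem exists_step_of_br_ne_zero {H Q R : Subgroup G} {f : GA F G} (h : IsPair p H Q f)
    (hQR : Q ≤ R) (hR : R ≤ stab H Q f) (hRp : IsPGroup p R) (hbr : br R f ≠ 0) :
    ∃ g, Step p H (Q, f) (R, g) := by
  obtain ⟨g, hg, hgg⟩ := exists_isBlock_below (br_mem_cent h.2.2.mem hQR)
    (br_idem hRp (fun u hu => (hR hu).2) h.2.2.idem) hbr
  exact ⟨g, h, ⟨hR.trans stab_le, hRp, hg⟩, hQR, hR.trans stab_le_normalizer,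
    fun u hu => (hR hu).2, hgg⟩

variable [IsAlgClosed F]

theorem IsMaxPair.defect_stab {H Q : Subgroup G} {b f : GA F G} (hb : IsBlock H b)
    (h : IsMaxPair p H b Q f) : IsDefectGrp p (stab H Q f) f Q := by
  have hblk := block_stabilizer h.1.1
  obtain ⟨D, hD⟩ := exists_defectGrp (p := p) hblk
  have hQD : Q ≤ D := hD.le_of_normal hblk.mem hblk.idem hblk.ne_zero h.1.1.2.1 h.1.1.le_stab
    stab_le_normalizer
  obtain ⟨g, hg⟩ := exists_step_of_br_ne_zero h.1.1 hQD hD.1 hD.2.1 hD.2.2.1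
  have hle := Le.of_step hg
  rwa [h.2 D g ((blockHas_iff_of_le hb hle h.1.1).1 h.1) hle] at hD

open scoped Classical in
/-- The sum of the distinct `N`-conjugates of `f`. -/
noncomputable def orbitSum (N : Subgroup G) (f : GA F G) : GA F G :=
  ∑ x ∈ (Set.toFinite (Set.range fun n : N => conjA F (n : G) f)).toFinset, x

theorem isFixed_orbitSum (N : Subgroup G) (f : GA F G) : IsFixed N (orbitSum N f) := by
  classical
  intro u hu
  rw [orbitSum, conjA_sum]
  refine Finset.sum_bij (fun a _ => conjA F u a) ?_ (fun _ _ _ _ h => conjA_injective u h) ?_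
    (fun _ _ => rfl)
  · intro a ha
    obtain ⟨n, rfl⟩ := (Set.Finite.mem_toFinset _).1 ha
    exact (Set.Finite.mem_toFinset _).2 ⟨⟨u * n, N.mul_mem hu n.2⟩, (conjA_conjA u n f).symm⟩
  · intro a ha
    obtain ⟨n, rfl⟩ := (Set.Finite.mem_toFinset _).1 ha
    refine ⟨conjA F (u⁻¹ * n) f, (Set.Finite.mem_toFinset _).2
      ⟨⟨u⁻¹ * n, N.mul_mem (N.inv_mem hu) n.2⟩, rfl⟩, ?_⟩
    simp [conjA_conjA]

section Orbit

variable {H Q : Subgroup G} {f : GA F G}

theorem isBlock_orbit_mem (h : IsPair p H Q f) (n : (H ⊓ Subgroup.normalizer (Q : Set G) : Subgroup G)) :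
    IsBlock (cent H Q) (conjA F (n : G) f) := by
  have := h.2.2.conjA (n : G)
  rwa [cj_cent n.2.1, cj_eq_self n.2.2] at this

theorem orbitSum_mul (h : IsPair p H Q f) {g : GA F G} (hg : IsBlock (cent H Q) g) :
    orbitSum (H ⊓ Subgroup.normalizer (Q : Set G)) f * g = g ∨
      orbitSum (H ⊓ Subgroup.normalizer (Q : Set G)) f * g = 0 := by
  classical
  rw [orbitSum, mul_sum_blocks_eq ?_ hg]
  · split_ifs <;> simp
  · intro e he
    obtain ⟨n, rfl⟩ := (Set.Finite.mem_toFinset _).1 he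
    exact isBlock_orbit_mem h n

theorem orbitSum_mul_self (h : IsPair p H Q f) :
    orbitSum (H ⊓ Subgroup.normalizer (Q : Set G)) f * f = f := by
  classical
  rw [orbitSum, mul_sum_blocks_eq ?_ h.2.2, if_pos]
  · exact (Set.Finite.mem_toFinset _).2 ⟨1, conjA_one_left f⟩
  · intro e he
    obtain ⟨n, rfl⟩ := (Set.Finite.mem_toFinset _).1 he
    exact isBlock_orbit_mem h n

/-- The sum of the conjugates of a pair's block is a block of the normalizer. -/
theorem isBlock_orbitSum (h : IsPair p H Q f) :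
    IsBlock (H ⊓ Subgroup.normalizer (Q : Set G))
      (orbitSum (H ⊓ Subgroup.normalizer (Q : Set G)) f) := by
  classical
  set N := H ⊓ Subgroup.normalizer (Q : Set G) with hN
  have hmem : ∀ x ∈ (Set.toFinite (Set.range fun n : N => conjA F (n : G) f)).toFinset,
      IsBlock (cent H Q) x := fun x hx => by
    obtain ⟨n, rfl⟩ := (Set.Finite.mem_toFinset _).1 hx
    exact isBlock_orbit_mem h n
  have hcN : cent H Q ≤ N := le_inf inf_le_left cent_le_normalizer
  refine ⟨⟨?_, isFixed_orbitSum N f⟩, ?_, ?_, fun u hu huu => ?_⟩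
  · have hs : orbitSum N f ∈ sub (cent H Q) (cent H Q) :=
      Subalgebra.sum_mem _ fun x hx => (hmem x hx).mem
    exact hs.1.mono hcN
  · conv_lhs => arg 2; rw [orbitSum]
    rw [Finset.mul_sum, orbitSum]
    refine Finset.sum_congr rfl fun x hx => ?_
    rw [mul_sum_blocks_eq hmem (hmem x hx), if_pos hx]
  · intro h0
    apply h.2.2.ne_zero
    rw [← orbitSum_mul_self h, ← hN, h0, zero_mul]
  · have huc : u ∈ sub (cent H Q) (cent H Q) := ⟨(isSupp_centralizer_of_normal h.2.1
      (le_inf h.1 Subgroup.le_normalizer) inf_le_right hu huu).mono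
        (inf_le_inf_right _ inf_le_left), hu.2.mono hcN⟩
    rw [orbitSum, Finset.mul_sum]
    rcases h.2.2.dichotomy huc huu with h1 | h1
    · left
      refine Finset.sum_eq_zero fun x hx => ?_
      obtain ⟨n, rfl⟩ := (Set.Finite.mem_toFinset _).1 hx
      rw [← hu.2 n n.2, ← conjA_mul, h1, conjA_zero]
    · right
      refine Finset.sum_congr rfl fun x hx => ?_
      obtain ⟨n, rfl⟩ := (Set.Finite.mem_toFinset _).1 hx
      rw [← hu.2 n n.2, ← conjA_mul, h1]

theorem br_orbitSum_ne_zero (h : IsPair p H Q f) :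
    br Q (orbitSum (H ⊓ Subgroup.normalizer (Q : Set G)) f) ≠ 0 := by
  rw [br_eq_self_of_normal h.2.1 (le_inf h.1 Subgroup.le_normalizer) inf_le_right
    (isBlock_orbitSum h).mem (isBlock_orbitSum h).idem]
  exact (isBlock_orbitSum h).ne_zero

theorem dominated_orbitSum (h : IsPair p H Q f) (hd : Dominated p (stab H Q f) Q f) :
    Dominated p (H ⊓ Subgroup.normalizer (Q : Set G)) Q
      (orbitSum (H ⊓ Subgroup.normalizer (Q : Set G)) f) := by
  classical
  set N := H ⊓ Subgroup.normalizer (Q : Set G) with hN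
  intro R hRN hR hne
  set s := (Set.toFinite (Set.range fun n : N => conjA F (n : G) f)).toFinset with hs
  have hmem : ∀ (r : R), ∀ x ∈ s, conjA F (r : G) x ∈ s := fun r x hx => by
    obtain ⟨n, rfl⟩ := (Set.Finite.mem_toFinset _).1 hx
    exact (Set.Finite.mem_toFinset _).2 ⟨⟨r * n, N.mul_mem (hRN r.2) n.2⟩,
      (conjA_conjA (r : G) n f).symm⟩
  letI : MulAction R s :=
    { smul := fun r x => ⟨conjA F (r : G) x.1, hmem r _ x.2⟩
      one_smul := fun x => Subtype.ext (conjA_one_left x.1)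
      mul_smul := fun r t x => Subtype.ext (conjA_conjA (r : G) t x.1).symm }
  have hinv : ∀ (r : R) (x : s), br R (r • x : s).1 = br R x.1 := fun r x => by
    show br R (conjA F (r : G) x.1) = _
    refine ga_ext fun g => ?_
    by_cases hg : g ∈ Subgroup.centralizer (R : Set G)
    · rw [br_coeff_mem R _ hg, br_coeff_mem R _ hg, conjA_coeff]
      congr 1
      rw [mul_assoc, ← Subgroup.mem_centralizer_iff.1 hg r r.2]
      group
    · rw [br_coeff_not_mem R _ hg, br_coeff_not_mem R _ hg]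
  have hsum : br R (orbitSum N f) = ∑ x : s, br R x.1 := by
    rw [orbitSum, br_sum, Finset.sum_coe_sort s (fun x => br R x), hs]
  rw [hsum, sum_eq_sum_fixed hR (nsmul_eq_zero_ga (F := F) (G := G)) _ hinv] at hne
  obtain ⟨x, hx, hxne⟩ := Finset.exists_ne_zero_of_sum_ne_zero hne
  obtain ⟨n, hn⟩ := (Set.Finite.mem_toFinset _).1 x.2
  simp only at hn
  have hRs : cj (n : G)⁻¹ R ≤ stab H Q f := fun u hu => by
    rw [mem_cj, inv_inv] at hu
    have h1 := (Finset.mem_filter.1 hx).2 ⟨_, hu⟩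
    refine ⟨?_, ?_⟩
    · show u ∈ N
      have := N.mul_mem (N.mul_mem (N.inv_mem n.2) (hRN hu)) n.2
      simpa [mul_assoc] using this
    · have h2 : conjA F ((n : G) * u * (n : G)⁻¹) x.1 = x.1 := congrArg Subtype.val h1
      rw [← hn, conjA_conjA] at h2
      apply conjA_injective (n : G)
      rw [conjA_conjA]
      simpa [mul_assoc] using h2
  obtain ⟨t, ht, hle⟩ := hd _ hRs (isPGroup_cj _ hR) (fun h0 => hxne (by
    rw [← hn]
    have := congrArg (conjA F (n : G)) h0
    rw [conjA_br, conjA_zero] at this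
    change br (cj (n : G) (cj (n : G)⁻¹ R)) _ = 0 at this
    rwa [cj_cj_inv] at this))
  have htN : t ∈ N := ht.1
  exact ⟨t * (n : G)⁻¹, N.mul_mem htN (N.inv_mem n.2), by rwa [← cj_cj]⟩

theorem isDefectGrp_orbitSum (h : IsPair p H Q f) (hd : Dominated p (stab H Q f) Q f) :
    IsDefectGrp p (H ⊓ Subgroup.normalizer (Q : Set G))
      (orbitSum (H ⊓ Subgroup.normalizer (Q : Set G)) f) Q :=
  ⟨le_inf h.1 Subgroup.le_normalizer, h.2.1, br_orbitSum_ne_zero h, dominated_orbitSum h hd⟩

end Orbit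

section FirstMain

variable {H Q : Subgroup G}

/-- Classes of `H` with defect group `Q` correspond to classes of `N_H(Q)` in the centralizer. -/
theorem br_classSum {g : G} (hg : g ∈ cent H Q) (hQH : Q ≤ H) (hQ : IsPGroup p Q)
    (hmax : ∀ R : Subgroup G, Q ≤ R → R ≤ (H ⊓ Subgroup.normalizer (Q : Set G)) ⊓
      Subgroup.centralizer ({g} : Set G) → IsPGroup p R → R = Q) :
    br Q (classSum F H g) = classSum F (H ⊓ Subgroup.normalizer (Q : Set G)) g := by
  classical
  have hQC : Q ≤ H ⊓ Subgroup.centralizer ({g} : Set G) := le_inf hQH fun u hu =>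
    Subgroup.mem_centralizer_singleton_iff.2 (Subgroup.mem_centralizer_iff.1 hg.2 u hu)
  refine ga_ext fun x => ?_
  rw [classSum_coeff (H ⊓ Subgroup.normalizer (Q : Set G))]
  by_cases hx : x ∈ Subgroup.centralizer (Q : Set G)
  · rw [br_coeff_mem Q _ hx, classSum_coeff]
    refine if_congr ⟨?_, fun ⟨a, ha, he⟩ => ⟨a, ha.1, he⟩⟩ rfl rfl
    rintro ⟨a, ha, rfl⟩
    obtain ⟨S, hS, hSp, hSmax⟩ :=
      exists_sylow_le (p := p) (H ⊓ Subgroup.centralizer ({g} : Set G))
    have heq : ∀ R : Subgroup G, R ≤ H ⊓ Subgroup.centralizer ({g} : Set G) → IsPGroup p R →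
        Q ≤ R → R = Q := by
      intro R hR hRp hQR
      by_contra hne
      have hlt : Q < R := lt_of_le_of_ne hQR (Ne.symm hne)
      have h1 := lt_normalizer_inf hRp hlt
      have h2 := hmax _ h1.le (le_inf (le_inf ((inf_le_right.trans hR).trans inf_le_left)
        inf_le_left) ((inf_le_right.trans hR).trans inf_le_right)) (hRp.to_le inf_le_right)
      exact h1.ne h2.symm
    obtain ⟨c, hc, hcle⟩ := hSmax Q hQC hQ
    have hSQ : cj c Q = S := by
      refine Subgroup.eq_of_le_of_card_ge hcle ?_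
      rw [card_cj]
      have : cj c⁻¹ S = Q := heq _ (cj_le_of_mem (inv_mem hc) hS) (isPGroup_cj _ hSp)
        (by rw [← cj_inv_cj c Q]; exact cj_mono _ hcle)
      rw [← this, card_cj]
    have hQ' : cj a⁻¹ Q ≤ H ⊓ Subgroup.centralizer ({g} : Set G) :=
      le_inf (cj_le_of_mem (H.inv_mem ha) hQH) fun u hu => by
        rw [mem_cj, inv_inv] at hu
        rw [Subgroup.mem_centralizer_singleton_iff]
        have := Subgroup.mem_centralizer_iff.1 hx _ hu
        calc u * g = a⁻¹ * ((a * u * a⁻¹) * (a * g * a⁻¹)) * a := by group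
          _ = a⁻¹ * ((a * g * a⁻¹) * (a * u * a⁻¹)) * a := by rw [this]
          _ = g * u := by group
    obtain ⟨d, hd, hdle⟩ := hSmax _ hQ' (isPGroup_cj _ hQ)
    have hSd : cj d (cj a⁻¹ Q) = S := Subgroup.eq_of_le_of_card_ge hdle (by
      rw [card_cj, card_cj, ← hSQ, card_cj])
    have hk : cj (a * d⁻¹ * c) Q = Q := by
      rw [← cj_cj, hSQ, ← cj_cj, ← hSd, cj_inv_cj, cj_cj_inv]
    refine ⟨a * d⁻¹ * c, ⟨H.mul_mem (H.mul_mem ha (H.inv_mem hd.1)) hc.1,
      mem_normalizer_of_cj_eq hk⟩, ?_⟩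
    have h1 := Subgroup.mem_centralizer_singleton_iff.1 hd.2
    have h2 := Subgroup.mem_centralizer_singleton_iff.1 hc.2
    calc a * d⁻¹ * c * g * (a * d⁻¹ * c)⁻¹ = a * (d⁻¹ * ((c * g) * c⁻¹) * d) * a⁻¹ := by group
      _ = a * (d⁻¹ * (g * d)) * a⁻¹ := by rw [h2]; group
      _ = a * g * a⁻¹ := by rw [← h1]; group
  · rw [br_coeff_not_mem Q _ hx, if_neg]
    rintro ⟨a, ⟨haH, haN⟩, rfl⟩
    apply hx
    have := (mem_centralizer_map_conj (P := Q) (x := a) (g := a * g * a⁻¹)).2
      (by simpa [mul_assoc] using hg.2)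
    rwa [map_conj_eq_self haN] at this

/-- The central character of a block of `N_H(Q)` pulled back along the Brauer map. -/
theorem omega_br {b b0 : GA F G} (hQH : Q ≤ H) (hQ : IsPGroup p Q) (hb : IsBlock H b)
    (hb0 : IsBlock (H ⊓ Subgroup.normalizer (Q : Set G)) b0) (hle : br Q b * b0 = b0)
    {z : GA F G} (hz : z ∈ sub H H) :
    omega (H ⊓ Subgroup.normalizer (Q : Set G)) b0 (br Q z) = omega H b z := by
  set N := H ⊓ Subgroup.normalizer (Q : Set G)
  have hmem : ∀ {w : GA F G}, w ∈ sub H H → br Q w ∈ sub N N := fun {w} hw =>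
    ⟨(isSupp_br_of hw.1).mono (le_inf inf_le_left cent_le_normalizer),
      isFixed_br inf_le_right (hw.2.mono inf_le_left)⟩
  refine omega_unique hb0 (hmem hz) ?_
  have hy : z * b - omega H b z • b ∈ sub H H :=
    sub_mem (mul_mem hz hb.mem) (Subalgebra.smul_mem _ hb.mem _)
  obtain ⟨n, hn⟩ := isNilpotent_omega hb hz
  have hyn : br Q (z * b - omega H b z • b) ^ (n + 1) = 0 := by
    have hpow : ∀ m : ℕ, br Q (z * b - omega H b z • b) ^ m =
        br Q ((z * b - omega H b z • b) ^ m) := by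
      intro m
      induction m with
      | zero => rw [pow_zero, pow_zero, br_one]
      | succ m ih => rw [pow_succ, pow_succ, ih, br_mul hQ ((pow_mem hy m).2.mono hQH) (hy.2.mono hQH)]
    rw [hpow, pow_succ, hn, zero_mul, br_zero]
  have heq : br Q z * b0 - omega H b z • b0 = br Q (z * b - omega H b z • b) * b0 := by
    rw [br_sub, br_mul hQ (hz.2.mono hQH) (hb.fixed.mono hQH), br_smul, sub_mul, smul_mul_assoc,
      mul_assoc, hle]
  rw [heq]
  exact Commute.isNilpotent_mul_right (sub_comm (hmem hy) hb0.mem) ⟨n + 1, hyn⟩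

/-- Brauer's first main theorem: the block of `H` over a block of `N_H(Q)` with defect group `Q`
has defect group `Q`, and its Brauer image at `Q` is that block. -/
theorem firstMain {b b0 : GA F G} (hb : IsBlock H b)
    (hb0 : IsBlock (H ⊓ Subgroup.normalizer (Q : Set G)) b0)
    (hd : IsDefectGrp p (H ⊓ Subgroup.normalizer (Q : Set G)) b0 Q) (hle : br Q b * b0 = b0) :
    IsDefectGrp p H b Q ∧ br Q b = b0 := by
  set N := H ⊓ Subgroup.normalizer (Q : Set G) with hN
  have hQH : Q ≤ H := hd.1.trans inf_le_left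
  have hQ := hd.2.1
  -- every class in the support of a block with defect group Q has Q as maximal p-subgroup
  have hsupp : ∀ b1 : GA F G, IsBlock N b1 → IsDefectGrp p N b1 Q → ∀ g ∈ N, b1.coeff g ≠ 0 →
      br Q (classSum F H g) = classSum F N g ∧ g ∈ cent H Q := by
    intro b1 hb1 hd1 g hgN hg
    have hgc : g ∈ cent H Q := by
      have := isSupp_centralizer_of_normal hQ hd.1 inf_le_right hb1.mem hb1.idem g hg
      exact ⟨this.1.1, this.2⟩
    refine ⟨br_classSum hgc hQH hQ fun R hQR hR hRp => ?_, hgc⟩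
    refine (Subgroup.eq_of_le_of_card_ge hQR ?_).symm
    refine hd1.card_le (hR.trans inf_le_left) hRp fun h0 => hg ?_
    have hgc' : g ∈ Subgroup.centralizer (R : Set G) := Subgroup.mem_centralizer_iff.2
      fun u hu => Subgroup.mem_centralizer_singleton_iff.1 (hR hu).2
    have := congrArg (fun a : GA F G => a.coeff g) h0
    simpa [br_coeff_mem R b1 hgc'] using this
  have hbd : IsDefectGrp p H b Q := by
    obtain ⟨g, hgN, hg, hom⟩ := exists_class_omega_ne_zero hb0 hb0.mem
      (by rw [omega_self hb0]; exact one_ne_zero)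
    obtain ⟨hbr, hgc⟩ := hsupp b0 hb0 hd g hgN hg
    rw [← hbr, omega_br hQH hQ hb hb0 hle (classSum_mem_sub hgc.1)] at hom
    refine ⟨hQH, hQ, fun h0 => hb0.ne_zero (by rw [← hle, h0, zero_mul]), ?_⟩
    obtain ⟨u, hu, hue⟩ := exists_inv_of_omega_ne_zero hb (classSum_mem_sub hgc.1) hom
    rw [← hue]
    refine (dominated_classSum fun R hR hRp => ?_).mul_right (classSum_mem_sub hgc.1).2 hu.2
    obtain ⟨S, hS, hSp, hSmax⟩ :=
      exists_sylow_le (p := p) (H ⊓ Subgroup.centralizer ({g} : Set G))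
    have hQC : Q ≤ H ⊓ Subgroup.centralizer ({g} : Set G) := le_inf hQH fun u hu =>
      Subgroup.mem_centralizer_singleton_iff.2 (Subgroup.mem_centralizer_iff.1 hgc.2 u hu)
    obtain ⟨c, hc, hcle⟩ := hSmax Q hQC hQ
    have hQS : Q ≤ cj c⁻¹ S := by rw [← cj_inv_cj c Q]; exact cj_mono _ hcle
    have hSeq : cj c⁻¹ S = Q := by
      by_contra hne
      have hlt : Q < cj c⁻¹ S := lt_of_le_of_ne hQS (Ne.symm hne)
      have h1 := lt_normalizer_inf (isPGroup_cj _ hSp) hlt
      have hle1 : cj c⁻¹ S ≤ H ⊓ Subgroup.centralizer ({g} : Set G) :=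
        cj_le_of_mem (inv_mem hc) hS
      refine h1.ne (Subgroup.eq_of_le_of_card_ge h1.le ?_)
      refine hd.card_le (le_inf ((inf_le_right.trans hle1).trans inf_le_left) inf_le_left)
        ((isPGroup_cj _ hSp).to_le inf_le_right) fun h0 => hg ?_
      have hgc' : g ∈ Subgroup.centralizer
          ((Subgroup.normalizer (Q : Set G) ⊓ cj c⁻¹ S : Subgroup G) : Set G) :=
        Subgroup.mem_centralizer_iff.2 fun u hu =>
          Subgroup.mem_centralizer_singleton_iff.1 (hle1 hu.2).2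
      have := congrArg (fun a : GA F G => a.coeff g) h0
      simpa [br_coeff_mem _ b0 hgc'] using this
    obtain ⟨d, hd', hdle⟩ := hSmax R hR hRp
    exact ⟨c⁻¹ * d, H.mul_mem (H.inv_mem hc.1) hd'.1, by
      rw [← cj_cj, ← hSeq]; exact cj_mono _ hdle⟩
  refine ⟨hbd, ?_⟩
  classical
  have hbrm : br Q b ∈ sub N N := ⟨(isSupp_br_of hb.supp).mono (le_inf inf_le_left cent_le_normalizer),
    isFixed_br inf_le_right (hb.fixed.mono inf_le_left)⟩
  rw [← sum_blocks_below hbrm (br_idem hQ (hb.fixed.mono hQH) hb.idem)]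
  suffices h : (blocks F N).filter (fun e => br Q b * e = e) = {b0} by rw [h, Finset.sum_singleton]
  refine Finset.eq_singleton_iff_unique_mem.2
    ⟨Finset.mem_filter.2 ⟨mem_blocks.2 hb0, hle⟩, fun b1 hb1' => ?_⟩
  obtain ⟨hb1, hle1⟩ := Finset.mem_filter.1 hb1'
  rw [mem_blocks] at hb1
  have hd1 : IsDefectGrp p N b1 Q := by
    obtain ⟨R, hR⟩ := exists_defectGrp (p := p) hb1
    have hQR : Q ≤ R := hR.le_of_normal hb1.mem hb1.idem hb1.ne_zero hQ hd.1 inf_le_right
    suffices R = Q by rwa [this] at hR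
    refine (Subgroup.eq_of_le_of_card_ge hQR ?_).symm
    refine hbd.card_le (hR.1.trans inf_le_left) hR.2.1 fun h0 => hR.2.2.1 ?_
    rw [← hle1, br_mul hR.2.1 (hbrm.2.mono hR.1) (hb1.fixed.mono hR.1), br_br_of_le hQR, h0,
      zero_mul]
  refine eq_of_omega_eq_one hb0 hb1 ?_
  have key : omega N b1 b1 = omega N b0 b1 := by
    refine (centre_induction (motive := fun w => w ∈ sub N N ∧ omega N b1 w = omega N b0 w)
      ⟨zero_mem _, by rw [omega_zero hb1, omega_zero hb0]⟩
      (fun x y hx hy h1 h2 => ⟨add_mem hx hy, by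
        rw [omega_add hb1 hx hy, omega_add hb0 hx hy, h1.2, h2.2]⟩) hb1.mem fun g hgN hg => ?_).2
    obtain ⟨hbr, hgc⟩ := hsupp b1 hb1 hd1 g hgN hg
    have hKH := classSum_mem_sub (F := F) hgc.1
    refine ⟨Subalgebra.smul_mem _ (classSum_mem_sub hgN) _, ?_⟩
    rw [omega_smul hb1 (classSum_mem_sub hgN), omega_smul hb0 (classSum_mem_sub hgN), ← hbr,
      omega_br hQH hQ hb hb1 hle1 hKH, omega_br hQH hQ hb hb0 hle hKH]
  rw [← key, omega_self hb1]

end FirstMain

/-- The subgroup of a maximal pair is a defect group. -/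
theorem IsMaxPair.isDefectGrp {H Q : Subgroup G} {b f : GA F G} (hb : IsBlock H b)
    (h : IsMaxPair p H b Q f) : IsDefectGrp p H b Q ∧
      br Q b = orbitSum (H ⊓ Subgroup.normalizer (Q : Set G)) f := by
  have hp' := h.1.1
  have hblk := isBlock_orbitSum hp'
  refine firstMain hb hblk (isDefectGrp_orbitSum hp' (h.defect_stab hb).2.2.2) ?_
  have hbrm : br Q b ∈ sub (H ⊓ Subgroup.normalizer (Q : Set G))
      (H ⊓ Subgroup.normalizer (Q : Set G)) :=
    ⟨(isSupp_br_of hb.supp).mono (le_inf inf_le_left cent_le_normalizer),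
      isFixed_br inf_le_right (hb.fixed.mono inf_le_left)⟩
  rcases hblk.dichotomy hbrm (br_idem hp'.2.1 (hb.fixed.mono hp'.1) hb.idem) with h1 | h1
  · refine absurd ?_ hp'.2.2.ne_zero
    have := congrArg (· * f) h1
    simp only [zero_mul, mul_assoc, orbitSum_mul_self hp', h.1.2] at this
    exact this
  · exact h1

theorem exists_le_maxPair {H Q : Subgroup G} {b f : GA F G} (hb : IsBlock H b)
    (h : BlockHas p H b Q f) : ∃ P e, IsMaxPair p H b P e ∧ Le p H Q f P e := by
  have key : ∀ n : ℕ, ∀ (Q : Subgroup G) (f : GA F G), BlockHas p H b Q f →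
      Nat.card G - Nat.card Q ≤ n → ∃ P e, IsMaxPair p H b P e ∧ Le p H Q f P e := by
    intro n
    induction n with
    | zero =>
      intro Q f hQ hn
      refine ⟨Q, f, ⟨hQ, fun R g _ hle => ?_⟩, Le.refl'⟩
      refine (Subgroup.eq_of_le_of_card_ge hle.subgroup_le ?_).symm
      have := Subgroup.card_le_card_group R
      omega
    | succ n ih =>
      intro Q f hQ hn
      by_cases hmax : ∀ R g, BlockHas p H b R g → Le p H Q f R g → R = Q
      · exact ⟨Q, f, ⟨hQ, hmax⟩, Le.refl'⟩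
      simp only [not_forall] at hmax
      obtain ⟨R, g, hR, hle, hne⟩ := hmax
      have hlt : Nat.card Q < Nat.card R := lt_of_le_of_ne
        (Subgroup.card_le_of_le hle.subgroup_le) fun hc =>
          hne (Subgroup.eq_of_le_of_card_ge hle.subgroup_le hc.ge).symm
      obtain ⟨P, e, hP, hPle⟩ := ih R g hR (by omega)
      exact ⟨P, e, hP, hle.trans' hPle⟩
  exact key _ Q f h le_rfl

theorem IsMaxPair.conjA {H Q : Subgroup G} {b f : GA F G} (hb : IsBlock H b)
    (h : IsMaxPair p H b Q f) {x : G} (hx : x ∈ H) :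
    IsMaxPair p H b (cj x Q) (BlockPairs.conjA F x f) := by
  refine ⟨h.1.conjA hb.fixed hx, fun R g hR hle => ?_⟩
  have h1 := hle.conjA (H.inv_mem hx)
  rw [cj_inv_cj, conjA_inv] at h1
  have h2 := h.2 _ _ (hR.conjA hb.fixed (H.inv_mem hx)) h1
  rw [← h2, cj_cj_inv]

/-- Maximal pairs of a block are conjugate. -/
theorem maxPairs_conj {H P P' : Subgroup G} {b e e' : GA F G} (hb : IsBlock H b)
    (h : IsMaxPair p H b P e) (h' : IsMaxPair p H b P' e') :
    ∃ x ∈ H, cj x P' = P ∧ BlockPairs.conjA F x e' = e := by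
  classical
  obtain ⟨hd, hbr⟩ := h.isDefectGrp hb
  obtain ⟨x, hx, hxP⟩ := hd.conj_of (h'.isDefectGrp hb).1
  have h2 := h'.conjA hb hx
  rw [hxP] at h2
  obtain ⟨-, hbr2⟩ := h2.isDefectGrp hb
  have hmem : ∃ n : (H ⊓ Subgroup.normalizer (P : Set G) : Subgroup G),
      BlockPairs.conjA F (n : G) (BlockPairs.conjA F x e') = e := by
    by_contra hne
    apply h.1.1.2.2.ne_zero
    have h3 := h.1.2
    rw [hbr2, orbitSum, mul_sum_blocks_eq (fun y hy => by
      obtain ⟨n, rfl⟩ := (Set.Finite.mem_toFinset _).1 hy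
      exact isBlock_orbit_mem h2.1.1 n) h.1.1.2.2, if_neg] at h3
    · exact h3.symm
    · intro hmem
      obtain ⟨n, hn⟩ := (Set.Finite.mem_toFinset _).1 hmem
      exact hne ⟨n, hn⟩
  obtain ⟨n, hn⟩ := hmem
  exact ⟨n * x, H.mul_mem n.2.1 hx, by rw [← cj_cj, hxP, cj_eq_self n.2.2],
    by rw [← conjA_conjA, hn]⟩

/-- Every pair of a block is conjugate to a subpair of any given maximal pair. -/
theorem exists_conj_le {H Q P : Subgroup G} {b f e : GA F G} (hb : IsBlock H b)
    (hmax : IsMaxPair p H b P e) (h : BlockHas p H b Q f) :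
    ∃ x ∈ H, Le p H (cj x Q) (BlockPairs.conjA F x f) P e := by
  obtain ⟨P', e', hP', hle⟩ := exists_le_maxPair hb h
  obtain ⟨x, hx, hxP, hxe⟩ := maxPairs_conj hb hmax hP'
  exact ⟨x, hx, by have := hle.conjA hx; rwa [hxP, hxe] at this⟩

theorem exists_maxPair {H : Subgroup G} {b : GA F G} (hb : IsBlock H b) :
    ∃ P e, IsMaxPair p H b P e := by
  obtain ⟨D, hD⟩ := exists_defectGrp (p := p) hb
  obtain ⟨f, hf⟩ := exists_blockHas hb hD.1 hD.2.1 hD.2.2.1
  obtain ⟨P, e, hP, -⟩ := exists_le_maxPair hb hf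
  exact ⟨P, e, hP⟩

/-- A pair on a defect group is maximal. -/
theorem isMaxPair_of_defect {H D : Subgroup G} {b e : GA F G} (hd : IsDefectGrp p H b D)
    (h : BlockHas p H b D e) : IsMaxPair p H b D e :=
  ⟨h, fun _ _ hR hle => (Subgroup.eq_of_le_of_card_ge hle.subgroup_le
    (hd.card_le hR.1.1 hR.1.2.1 hR.br_ne_zero)).symm⟩

end CfsgLib.BlockPairs
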