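import Cfsg.Agent.BlockPairs.Bridge
import Cfsg.Agent.BlockPairs.Maximal

/-!
# The model along an injective homomorphism

`emb φ` carries blocks, pairs and stabilizers of subgroups of `X` to those of their images in `G`.
-/

set_option autoImplicit false
set_option linter.unusedSectionVars false
set_option linter.style.haveILetI false

namespace CfsgLib.BlockPairs

variable {k : Type*} [Field k] {X : Type*} [Group X] {G : Type*} [Group G] {φ : X →* G}

theorem conjA_emb (hφ : Function.Injective φ) (x : X) (a : GA k X) :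
    conjA k (φ x) (emb φ a) = emb φ (conjA k x a) := by
  refine ga_ext fun g => ?_
  rw [conjA_coeff]
  by_cases hg : g ∈ φ.range
  · obtain ⟨y, rfl⟩ := hg
    rw [← map_inv, ← map_mul, ← map_mul, emb_coeff_apply hφ, emb_coeff_apply hφ, conjA_coeff]
  · rw [emb_coeff_not_mem φ _ hg, emb_coeff_not_mem φ]
    intro h
    apply hg
    have := φ.range.mul_mem (φ.range.mul_mem ⟨x, rfl⟩ h) (φ.range.inv_mem ⟨x, rfl⟩)
    simpa [mul_assoc] using this

theorem isSupp_map_iff (hφ : Function.Injective φ) {K : Subgroup X} {a : GA k X} :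
    IsSupp (K.map φ) (emb φ a) ↔ IsSupp K a := by
  constructor
  · intro h x hx
    obtain ⟨y, hy, hyx⟩ := h (φ x) (by rwa [emb_coeff_apply hφ])
    exact hφ hyx ▸ hy
  · intro h g hg
    by_cases hr : g ∈ φ.range
    · obtain ⟨x, rfl⟩ := hr
      rw [emb_coeff_apply hφ] at hg
      exact ⟨x, h x hg, rfl⟩
    · exact absurd (emb_coeff_not_mem φ a hr) hg

theorem isFixed_map_iff (hφ : Function.Injective φ) {P : Subgroup X} {a : GA k X} :
    IsFixed (P.map φ) (emb φ a) ↔ IsFixed P a := by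
  constructor
  · intro h u hu
    have := h (φ u) ⟨u, hu, rfl⟩
    rw [conjA_emb hφ] at this
    exact emb_injective hφ this
  · rintro h _ ⟨u, hu, rfl⟩
    rw [conjA_emb hφ, h u hu]

theorem mem_sub_map_iff (hφ : Function.Injective φ) {K P : Subgroup X} {a : GA k X} :
    emb φ a ∈ sub (K.map φ) (P.map φ) ↔ a ∈ sub K P :=
  and_congr (isSupp_map_iff hφ) (isFixed_map_iff hφ)

theorem exists_emb_of_isSupp [Finite X] (hφ : Function.Injective φ) {z : GA k G}
    (hz : IsSupp φ.range z) : ∃ a, emb φ a = z := by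
  refine ⟨CfsgLib.Blocks.ofFun fun x => z.coeff (φ x), ga_ext fun g => ?_⟩
  by_cases hg : g ∈ φ.range
  · obtain ⟨x, rfl⟩ := hg
    rw [emb_coeff_apply hφ, CfsgLib.Blocks.coeff_ofFun]
  · rw [emb_coeff_not_mem φ _ hg, hz.coeff_eq_zero hg]

theorem isBlock_map_iff [Finite X] (hφ : Function.Injective φ) {K : Subgroup X} {a : GA k X} :
    IsBlock (K.map φ) (emb φ a) ↔ IsBlock K a := by
  have h0 : emb φ a = 0 ↔ a = 0 := by
    rw [← map_zero (emb (k := k) φ)]
    exact (emb_injective hφ).eq_iff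
  constructor
  · rintro ⟨h1, h2, h3, h4⟩
    rw [← map_mul] at h2
    refine ⟨(mem_sub_map_iff hφ).1 h1, emb_injective hφ h2, fun h => h3 (h0.2 h), fun f hf hff => ?_⟩
    refine (h4 _ ((mem_sub_map_iff hφ).2 hf) (by rw [← map_mul, hff])).imp ?_ ?_ <;>
      intro h <;> apply emb_injective hφ
    · rw [map_mul, map_zero]; exact h
    · rw [map_mul]; exact h
  · rintro ⟨h1, h2, h3, h4⟩
    refine ⟨(mem_sub_map_iff hφ).2 h1, by rw [← map_mul, h2], fun h => h3 (h0.1 h),
      fun f hf hff => ?_⟩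
    obtain ⟨f', rfl⟩ := exists_emb_of_isSupp hφ (hf.1.mono (Subgroup.map_le_range φ K))
    rw [← map_mul] at hff
    refine (h4 f' ((mem_sub_map_iff hφ).1 hf) (emb_injective hφ hff)).imp ?_ ?_ <;>
      intro h <;> rw [← map_mul, h]
    rw [map_zero]

theorem map_cj (Q : Subgroup X) (x : X) : (cj x Q).map φ = cj (φ x) (Q.map φ) := by
  simp only [cj, Subgroup.map_map]
  congr 1
  ext y
  simp

theorem map_mem_centralizer_iff (hφ : Function.Injective φ) {Q : Subgroup X} {x : X} :
    φ x ∈ Subgroup.centralizer ((Q.map φ : Subgroup G) : Set G) ↔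
      x ∈ Subgroup.centralizer (Q : Set X) := by
  rw [Subgroup.mem_centralizer_iff, Subgroup.mem_centralizer_iff]
  constructor
  · exact fun h q hq => hφ (by rw [map_mul, map_mul]; exact h _ ⟨q, hq, rfl⟩)
  · rintro h _ ⟨q, hq, rfl⟩
    rw [← map_mul, ← map_mul, h q hq]

theorem map_mem_normalizer_iff (hφ : Function.Injective φ) {Q : Subgroup X} {x : X} :
    φ x ∈ Subgroup.normalizer ((Q.map φ : Subgroup G) : Set G) ↔
      x ∈ Subgroup.normalizer (Q : Set X) := by
  constructor <;> intro h <;> refine mem_normalizer_of_cj_eq ?_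
  · refine Subgroup.map_injective hφ ?_
    rw [map_cj, cj_eq_self h]
  · rw [← map_cj, cj_eq_self h]

theorem map_cent (hφ : Function.Injective φ) (H Q : Subgroup X) :
    (cent H Q).map φ = cent (H.map φ) (Q.map φ) := by
  ext g
  constructor
  · rintro ⟨x, ⟨hx, hxc⟩, rfl⟩
    exact ⟨⟨x, hx, rfl⟩, (map_mem_centralizer_iff hφ).2 hxc⟩
  · rintro ⟨⟨x, hx, rfl⟩, hc⟩
    exact ⟨x, ⟨hx, (map_mem_centralizer_iff hφ).1 hc⟩, rfl⟩

theorem br_emb [Finite X] [Finite G] (hφ : Function.Injective φ) (Q : Subgroup X) (a : GA k X) :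
    br (Q.map φ) (emb φ a) = emb φ (br Q a) := by
  refine ga_ext fun g => ?_
  by_cases hr : g ∈ φ.range
  · obtain ⟨x, rfl⟩ := hr
    rw [emb_coeff_apply hφ]
    by_cases hc : x ∈ Subgroup.centralizer (Q : Set X)
    · rw [br_coeff_mem Q _ hc, br_coeff_mem _ _ ((map_mem_centralizer_iff hφ).2 hc),
        emb_coeff_apply hφ]
    · rw [br_coeff_not_mem Q _ hc,
        br_coeff_not_mem _ _ (fun h => hc ((map_mem_centralizer_iff hφ).1 h))]
  · rw [emb_coeff_not_mem φ _ hr]
    by_cases hc : g ∈ Subgroup.centralizer ((Q.map φ : Subgroup G) : Set G)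
    · rw [br_coeff_mem _ _ hc, emb_coeff_not_mem φ _ hr]
    · rw [br_coeff_not_mem _ _ hc]

variable [Finite X] [Finite G] {p : ℕ}

theorem isPGroup_map_iff (hφ : Function.Injective φ) {Q : Subgroup X} :
    IsPGroup p (Q.map φ) ↔ IsPGroup p Q :=
  ⟨fun h => h.of_equiv (Q.equivMapOfInjective φ hφ).symm, fun h => h.map φ⟩

theorem isPair_map_iff (hφ : Function.Injective φ) {H Q : Subgroup X} {f : GA k X} :
    IsPair p (H.map φ) (Q.map φ) (emb φ f) ↔ IsPair p H Q f := by
  rw [IsPair, IsPair, Subgroup.map_le_map_iff_of_injective hφ, isPGroup_map_iff hφ, ← map_cent hφ,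
    isBlock_map_iff hφ]

theorem blockHas_map_iff (hφ : Function.Injective φ) {H Q : Subgroup X} {b f : GA k X} :
    BlockHas p (H.map φ) (emb φ b) (Q.map φ) (emb φ f) ↔ BlockHas p H b Q f := by
  rw [BlockHas, BlockHas, isPair_map_iff hφ, br_emb hφ, ← map_mul, (emb_injective hφ).eq_iff]

theorem map_mem_stab_iff (hφ : Function.Injective φ) {H Q : Subgroup X} {f : GA k X} {x : X} :
    φ x ∈ stab (H.map φ) (Q.map φ) (emb φ f) ↔ x ∈ stab H Q f := by
  rw [mem_stab, mem_stab, conjA_emb hφ, (emb_injective hφ).eq_iff, map_mem_normalizer_iff hφ]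
  exact and_congr_left' (and_congr_left' ⟨fun ⟨y, hy, h⟩ => hφ h ▸ hy, fun h => ⟨x, h, rfl⟩⟩)

end CfsgLib.BlockPairs
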