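import Cfsg.Agent.BlockPairs.Correspondence
import Cfsg.Agent.BlockPairs.Covering
import Cfsg.Agent.BlockPairs.EmbModel

/-!
# Block induction from the normaliser of a p-subgroup

In the model, the block induced from `H = N_K(Q)` by `c` is the block `b` of `K` with
`br Q b * c = c` (`induced_iff`).  The Brauer correspondence commutes with covering
(`covering_correspondence`).
-/

set_option autoImplicit false
set_option linter.unusedSectionVars false
set_option linter.style.haveILetI false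

namespace CfsgLib.BlockPairs

section Model

variable {F G : Type*} [Field F] [Group G] [Finite G]

open Classical in
/-- Restriction of the coefficients to a subgroup. -/
noncomputable def cut (H : Subgroup G) (z : GA F G) : GA F G :=
  MonoidAlgebra.ofCoeff (Finsupp.equivFunOnFinite.symm
    fun u => if u ∈ H then z.coeff u else 0)

open Classical in
theorem cut_coeff (H : Subgroup G) (z : GA F G) (u : G) :
    (cut H z).coeff u = if u ∈ H then z.coeff u else 0 := rfl

theorem cut_add (H : Subgroup G) (a b : GA F G) : cut H (a + b) = cut H a + cut H b :=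
  ga_ext fun u => by simp only [cut_coeff, MonoidAlgebra.coeff_add, Finsupp.add_apply]; split_ifs <;> simp

theorem cut_smul (H : Subgroup G) (c : F) (a : GA F G) : cut H (c • a) = c • cut H a :=
  ga_ext fun u => by
    simp only [cut_coeff, MonoidAlgebra.coeff_smul, Finsupp.smul_apply]; split_ifs <;> simp

theorem cut_zero (H : Subgroup G) : cut H (0 : GA F G) = 0 :=
  ga_ext fun u => by simp [cut_coeff]

theorem cut_mem_sub {H K : Subgroup G} (hHK : H ≤ K) {z : GA F G} (hz : z ∈ sub K K) :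
    cut H z ∈ sub H H := by
  refine ⟨fun u hu => by_contra fun h => hu (by rw [cut_coeff, if_neg h]), fun x hx => ga_ext fun u => ?_⟩
  rw [conjA_coeff, cut_coeff, cut_coeff]
  have h1 : x⁻¹ * u * x ∈ H ↔ u ∈ H :=
    ⟨fun h => by simpa [mul_assoc] using H.mul_mem (H.mul_mem hx h) (H.inv_mem hx),
      fun h => H.mul_mem (H.mul_mem (H.inv_mem hx) h) hx⟩
  by_cases hu : u ∈ H
  · rw [if_pos (h1.2 hu), if_pos hu]
    simpa using hz.2.coeff' (K.inv_mem (hHK hx)) u
  · rw [if_neg (fun h => hu (h1.1 h)), if_neg hu]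

variable [IsAlgClosed F] {p : ℕ} [hp : Fact p.Prime] [CharP F p] {K H Q : Subgroup G}

theorem omega_cut (hQp : IsPGroup p Q) (hQH : Q ≤ H) (hN : H ≤ Subgroup.normalizer (Q : Set G))
    (hHK : H ≤ K) (hC : K ⊓ Subgroup.centralizer (Q : Set G) ≤ H) {c : GA F G} (hc : IsBlock H c)
    {z : GA F G} (hz : z ∈ sub K K) : omega H c (cut H z) = omega H c (br Q z) := by
  have h1 := cut_mem_sub hHK hz
  have h2 : br Q z ∈ sub H H := ⟨(isSupp_br_of hz.1).mono hC, isFixed_br hN (hz.2.mono hHK)⟩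
  have hsm : (cut H z - br Q z) ∈ sub H H := sub_mem h1 h2
  have hbr : br Q (cut H z - br Q z) = 0 := by
    rw [br_sub, br_br_of_le le_rfl, sub_eq_zero]
    refine ga_ext fun u => ?_
    by_cases hu : u ∈ Subgroup.centralizer (Q : Set G)
    · rw [br_coeff_mem Q _ hu, br_coeff_mem Q _ hu, cut_coeff]
      split_ifs with h
      · rfl
      · exact (not_not.1 fun h0 => h (hC ⟨hz.1 u (Ne.symm h0), hu⟩))
    · rw [br_coeff_not_mem Q _ hu, br_coeff_not_mem Q _ hu]
  have h0 : omega H c (cut H z - br Q z) = 0 := by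
    by_contra hne
    obtain ⟨u, hu, hue⟩ := exists_inv_of_omega_ne_zero hc hsm hne
    apply hc.ne_zero
    rw [← br_eq_self_of_normal hQp hQH hN hc.mem hc.idem, ← hue,
      br_mul hQp (hsm.2.mono hQH) (hu.2.mono hQH), hbr, zero_mul]
  have h3 := omega_add hc hsm h2
  rwa [sub_add_cancel, h0, zero_add] at h3

theorem induced_iff (hQp : IsPGroup p Q) (hQK : Q ≤ K) {b c : GA F G} (hb : IsBlock K b)
    (hc : IsBlock (K ⊓ Subgroup.normalizer (Q : Set G)) c) :
    (∀ z ∈ sub (F := F) K K, omega (K ⊓ Subgroup.normalizer (Q : Set G)) c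
      (cut (K ⊓ Subgroup.normalizer (Q : Set G)) z) = omega K b z) ↔ br Q b * c = c := by
  have hcut := fun {z} (hz : z ∈ sub K K) => omega_cut (F := F) hQp
    (le_inf hQK Subgroup.le_normalizer) inf_le_right inf_le_left
    (le_inf inf_le_left (inf_le_right.trans (Subgroup.centralizer_le_normalizer _))) hc hz
  constructor
  · intro h
    have h1 := h b hb.mem
    rw [hcut hb.mem, omega_self hb] at h1
    refine (hc.dichotomy (br_mem_normalizer hb) (br_idem hQp (hb.fixed.mono hQK) hb.idem)).resolve_left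
      fun h0 => ?_
    have h2 : omega (K ⊓ Subgroup.normalizer (Q : Set G)) c (br Q b) = 0 :=
      omega_unique hc (br_mem_normalizer hb) ⟨1, by rw [pow_one, zero_smul, sub_zero, h0]⟩
    exact zero_ne_one (h2.symm.trans h1)
  · intro h z hz
    rw [hcut hz]
    exact omega_br hQK hQp hb hc h hz

open Classical in
theorem existsUnique_induced (hQp : IsPGroup p Q) (hQK : Q ≤ K) {c : GA F G}
    (hc : IsBlock (K ⊓ Subgroup.normalizer (Q : Set G)) c) :
    ∃ b, (IsBlock K b ∧ br Q b * c = c) ∧ ∀ b', IsBlock K b' → br Q b' * c = c → b' = b := by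
  obtain ⟨b, hb, hne⟩ : ∃ b ∈ blocks F K, br Q b * c ≠ 0 := by
    by_contra hno
    push Not at hno
    apply hc.ne_zero
    calc c = br Q (∑ b ∈ blocks F K, b) * c := by rw [sum_blocks_eq_one, br_one, one_mul]
      _ = 0 := by rw [br_sum, Finset.sum_mul]; exact Finset.sum_eq_zero hno
  rw [mem_blocks] at hb
  have hle := (hc.dichotomy (br_mem_normalizer hb) (br_idem hQp (hb.fixed.mono hQK)
    hb.idem)).resolve_left hne
  refine ⟨b, ⟨hb, hle⟩, fun b' hb' hle' => hb'.eq_of_mul_ne_zero hb fun h0 => hc.ne_zero ?_⟩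
  rw [← hle', ← hle, ← mul_assoc, ← br_mul hQp (hb'.fixed.mono hQK) (hb.fixed.mono hQK), h0,
    br_zero, zero_mul]

variable {N : Subgroup G} [hNn : N.Normal]

/-- Blocks below one block on both sides of the correspondence. -/
theorem covering_correspondence (hQp : IsPGroup p Q) (hQN : Q ≤ N) {d e : GA F G}
    (hd : IsBlock N d) (hdQ : IsDefectGrp p N d Q)
    (he : IsBlock (N ⊓ Subgroup.normalizer (Q : Set G)) e)
    (heQ : IsDefectGrp p (N ⊓ Subgroup.normalizer (Q : Set G)) e Q) (hbr : br Q d = e) :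
    (∀ c b, IsBlock (Subgroup.normalizer (Q : Set G)) c → c * e ≠ 0 → IsBlock (⊤ : Subgroup G) b →
      br Q b * c = c → b * d ≠ 0) ∧
    ∀ b, IsBlock (⊤ : Subgroup G) b → b * d ≠ 0 →
      ∃ c, (IsBlock (Subgroup.normalizer (Q : Set G)) c ∧ c * e ≠ 0 ∧ br Q b * c = c) ∧
        ∀ c', IsBlock (Subgroup.normalizer (Q : Set G)) c' → c' * e ≠ 0 → br Q b * c' = c' →
          c' = c := by
  classical
  set H := Subgroup.normalizer (Q : Set G) with hH
  have hQH : Q ≤ H := Subgroup.le_normalizer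
  have hmul : ∀ b, IsBlock (⊤ : Subgroup G) b → br Q (b * d) = br Q b * e := fun b hb => by
    rw [br_mul hQp (hb.fixed.mono le_top) (hd.fixed.mono hQN), hbr]
  have hHL : ∀ x ∈ H, cj x (N ⊓ H) = N ⊓ H := fun x hx => by
    rw [cj, Subgroup.map_inf _ _ _ (MulAut.conj x).injective]
    exact congrArg₂ (· ⊓ ·) (cj_of_normal x) (cj_eq_self (Subgroup.le_normalizer hx))
  set o := orbitSum H e with ho
  set T := (Set.toFinite (Set.range fun y : H => conjA F (y : G) e)).toFinset
  have hs : ∀ a ∈ T, IsBlock (N ⊓ H) a := by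
    intro a ha
    obtain ⟨y, rfl⟩ := (Set.Finite.mem_toFinset _).1 ha
    have := he.conjA (y : G)
    rwa [hHL y y.2] at this
  have hoe : o * e = e := by
    rw [ho, orbitSum, mul_sum_blocks_eq hs he, if_pos]
    exact (Set.Finite.mem_toFinset _).2 ⟨1, conjA_one_left e⟩
  have hoo : o * o = o := by
    rw [ho]
    conv_lhs => arg 2; rw [orbitSum]
    rw [Finset.mul_sum, orbitSum]
    exact Finset.sum_congr rfl fun a ha => by rw [mul_sum_blocks_eq hs (hs a ha), if_pos ha]
  have hom : o ∈ sub H H := ⟨(Subalgebra.sum_mem (sub (F := F) H (N ⊓ H)) fun a ha =>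
    sub_mono inf_le_right le_rfl (hs a ha).mem).1, isFixed_orbitSum H e⟩
  -- a defect group of a block over `e` meets `N` in `Q`
  have hint : ∀ c, IsBlock H c → c * e ≠ 0 → ∀ D, IsDefectGrp p H c D → D ⊓ N = Q := by
    intro c hc hce D hD
    have hQD : Q ≤ D := hD.le_of_normal hc.mem hc.idem hc.ne_zero hQp hQH le_rfl
    refine (Subgroup.eq_of_le_of_card_ge (le_inf hQD hQN) ?_).symm
    have hco : o * c = c := (hc.dichotomy hom hoo).resolve_left fun h0 => hce (by
      rw [← hoe, ← mul_assoc, sub_comm hc.mem hom, h0, zero_mul])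
    set R := D ⊓ N with hR
    have hRp : IsPGroup p R := hD.2.1.to_le inf_le_left
    have hRH : R ≤ H := inf_le_left.trans hD.1
    have hRc : br R c ≠ 0 := fun h0 => hD.2.2.1 (br_eq_zero_of_le inf_le_left h0)
    have hRo : br R o ≠ 0 := fun h0 => hRc (by
      rw [← hco, br_mul hRp (hom.2.mono hRH) (hc.fixed.mono hRH), h0, zero_mul])
    obtain ⟨a, ha, hRa⟩ : ∃ a ∈ T, br R a ≠ 0 := by
      by_contra hno
      push Not at hno
      apply hRo
      rw [ho, orbitSum, br_sum]
      exact Finset.sum_eq_zero hno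
    obtain ⟨y, rfl⟩ := (Set.Finite.mem_toFinset _).1 ha
    rw [← card_cj (y : G)⁻¹ R]
    refine heQ.card_le ?_ (isPGroup_cj _ hRp) fun h0 => hRa ?_
    · rw [← hHL (y : G)⁻¹ (H.inv_mem y.2)]
      exact cj_mono _ (le_inf inf_le_right hRH)
    · have := congrArg (conjA F (y : G)) h0
      rwa [conjA_br, conjA_zero, ← cj, cj_cj_inv] at this
  refine ⟨fun c b hc hce hb hbc h0 => hce ?_, fun b hb hbd => ?_⟩
  · rw [← hbc, sub_comm (H := H) (by simpa [hH] using br_mem_normalizer (H := ⊤) (Q := Q) hb) hc.mem,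
      mul_assoc, ← hmul b hb, h0, br_zero, mul_zero]
  have hne : br Q b * e ≠ 0 := by
    rw [← hmul b hb]
    exact br_cover_ne_zero hb hd hbd hQN hQp hdQ.2.2.1
  have hbm : br Q b ∈ sub H H := by simpa [hH] using br_mem_normalizer (H := ⊤) (Q := Q) hb
  obtain ⟨c, hc, hbc, hce⟩ : ∃ c, IsBlock H c ∧ br Q b * c = c ∧ c * e ≠ 0 := by
    by_contra hno
    push Not at hno
    apply hne
    rw [← sum_blocks_below hbm (br_idem hQp (hb.fixed.mono le_top) hb.idem), Finset.sum_mul]
    exact Finset.sum_eq_zero fun c hc =>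
      hno c (mem_blocks.1 (Finset.mem_filter.1 hc).1) (Finset.mem_filter.1 hc).2
  refine ⟨c, ⟨hc, hce, hbc⟩, fun c' hc' hce' hbc' => ?_⟩
  -- both have a common defect group and the same Brauer image there
  have key : ∀ c, IsBlock H c → c * e ≠ 0 → br Q b * c = c → ∀ D, IsDefectGrp p H c D →
      IsDefectGrp p ⊤ b D ∧ br D b = br D c := by
    intro c hc hce hbc D hD
    have hQD : Q ≤ D := hD.le_of_normal hc.mem hc.idem hc.ne_zero hQp hQH le_rfl
    have hND : Subgroup.normalizer (D : Set G) ≤ H := fun x hx => mem_normalizer_of_cj_eq (by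
      conv_lhs => rw [← hint c hc hce D hD]
      rw [cj, Subgroup.map_inf _ _ _ (MulAut.conj x).injective, ← hint c hc hce D hD]
      exact congrArg₂ (· ⊓ ·) (cj_eq_self hx) (cj_of_normal x))
    obtain ⟨h1, h2⟩ := isBlock_br_of_defect hc hD
    rw [inf_eq_right.2 hND, ← top_inf_eq (Subgroup.normalizer (D : Set G))] at h1 h2
    refine firstMain hb h1 h2 ?_
    conv_lhs => rw [← br_br_of_le hQD b]
    rw [← br_mul hD.2.1 ((hbm.2).mono hD.1) (hc.fixed.mono hD.1), hbc]
  obtain ⟨D, hD⟩ := exists_defectGrp (p := p) hc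
  obtain ⟨D', hD'⟩ := exists_defectGrp (p := p) hc'
  obtain ⟨x, -, hx⟩ := (key c hc hce hbc D hD).1.conj_of (key c' hc' hce' hbc' D' hD').1
  have hxH : x ∈ H := mem_normalizer_of_cj_eq (by
    conv_lhs => rw [← hint c' hc' hce' D' hD']
    rw [← hint c hc hce D hD, ← hx, cj, Subgroup.map_inf _ _ _ (MulAut.conj x).injective]
    exact congrArg _ (cj_of_normal x))
  have hD2 : IsDefectGrp p H c' D := hx ▸ hD'.cj hc'.fixed hxH
  exact eq_of_br_eq hc' hc hD2
    ((key c' hc' hce' hbc' D hD2).2.symm.trans (key c hc hce hbc D hD).2)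

end Model

/-! ### Translation -/

open Cfsg
open CfsgLib.Blocks (Ctr Res localRing red redCtr omegaBar omegaO toC)

universe u

variable {G : Type u} [Group G] [Fintype G] {M : Ideal AlgInt} [M.IsPrime] [IsAlgClosed (Res M)]

theorem isInducedBlock_iff_model {H : Subgroup G} {c : Set (IrrCharacter H)}
    (hc : Cfsg.IsPBlock M c) {B : Set (IrrCharacter G)} (hB : Cfsg.IsPBlock M B) :
    Cfsg.IsInducedBlock M H c B ↔ ∀ z ∈ sub (⊤ : Subgroup G) ⊤,
      omega H (sblk M H c) (cut H z) = omega ⊤ (gblk M B) z := by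
  haveI := Fintype.ofFinite H
  obtain ⟨ξ, hξ⟩ := CfsgLib.Blocks.isPBlock_nonempty hc
  obtain ⟨χ, hχ⟩ := CfsgLib.Blocks.isPBlock_nonempty hB
  rw [CfsgLib.Blocks.isInducedBlock_iff H hc hB hξ hχ]
  have hl : ∀ a : Ctr (Res M) G, cut H (emb (MonoidHom.id G) (a : GA (Res M) G)) =
      emb H.subtype ((CfsgLib.Blocks.resCtr H a : Ctr (Res M) H) : GA (Res M) H) := fun a =>
    ga_ext fun u => by
      rw [cut_coeff]
      split_ifs with h
      · rw [show u = H.subtype ⟨u, h⟩ from rfl, emb_coeff_apply H.subtype_injective,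
          CfsgLib.Blocks.coeff_resCtr]
        exact emb_coeff_apply (φ := MonoidHom.id G) Function.injective_id _ u
      · exact (emb_coeff_not_mem _ _ (by rwa [H.range_subtype])).symm
  have hω : ∀ a : Ctr (Res M) G,
      omega H (sblk M H c) (cut H (emb (MonoidHom.id G) (a : GA (Res M) G))) =
          omegaBar M ξ (CfsgLib.Blocks.resCtr H a) ∧
        omega ⊤ (gblk M B) (emb (MonoidHom.id G) (a : GA (Res M) G)) = omegaBar M χ a := by
    intro a
    have h1 := omega_blkE (φ := H.subtype) H.subtype_injective hc hξ (CfsgLib.Blocks.resCtr H a)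
    have h2 := omega_blkE (φ := MonoidHom.id G) Function.injective_id hB hχ a
    rw [H.range_subtype, ← hl a] at h1
    rw [range_id_eq] at h2
    exact ⟨h1, h2⟩
  constructor
  · intro h z hz
    obtain ⟨a, rfl⟩ := exists_emb (φ := MonoidHom.id G) Function.injective_id
      (z := z) (by rwa [range_id_eq])
    rw [(hω a).1, (hω a).2, h]
  · intro h a
    rw [← (hω a).1, ← (hω a).2]
    exact h _ (by have := emb_mem_sub (φ := MonoidHom.id G) Function.injective_id a.2
                  rwa [range_id_eq] at this)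

open Classical in
theorem omega_cut_classSum {H L : Subgroup G} (hLH : L ≤ H) {e : Set (IrrCharacter L)}
    (he : Cfsg.IsPBlock M e) {ξ : IrrCharacter L} (hξ : ξ ∈ e) {h : G} (hh : h ∈ H) :
    ∃ hm : Cfsg.MemLocalRing M (Cfsg.inducedCentralCharIn H L (ξ : L → ℂ) h),
      omega L (sblk M L e) (cut L (classSum (Res M) H h)) = red M ⟨_, hm⟩ := by
  haveI := Fintype.ofFinite L
  set a : Ctr (localRing M) L := ⟨CfsgLib.Blocks.ofFun fun k : L =>
      if ∃ x ∈ H, x * h * x⁻¹ = (k : G) then 1 else 0,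
    CfsgLib.Blocks.mem_ctr_iff.2 fun x y => by
      simp only [CfsgLib.Blocks.coeff_ofFun]
      refine if_congr ⟨?_, ?_⟩ rfl rfl
      · rintro ⟨u, hu, he⟩
        refine ⟨(y : G)⁻¹ * u, H.mul_mem (H.inv_mem (hLH y.2)) hu, ?_⟩
        calc (y : G)⁻¹ * u * h * ((y : G)⁻¹ * u)⁻¹ = (y : G)⁻¹ * (u * h * u⁻¹) * y := by group
          _ = x := by rw [he]; push_cast; group
      · rintro ⟨u, hu, he⟩
        refine ⟨(y : G) * u, H.mul_mem (hLH y.2) hu, ?_⟩
        calc (y : G) * u * h * ((y : G) * u)⁻¹ = (y : G) * (u * h * u⁻¹) * (y : G)⁻¹ := by group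
          _ = _ := by rw [he]; push_cast; rfl⟩ with ha
  have hcut : cut L (classSum (Res M) H h) =
      emb L.subtype ((redCtr M a : Ctr (Res M) L) : GA (Res M) L) := ga_ext fun u => by
    rw [cut_coeff]
    split_ifs with hu
    · rw [show u = L.subtype ⟨u, hu⟩ from rfl, emb_coeff_apply L.subtype_injective, classSum_coeff]
      simp only [redCtr, ha, CfsgLib.Blocks.coeff_mapCtr, CfsgLib.Blocks.coeff_ofFun,
        Subgroup.subtype_apply]
      by_cases h' : ∃ x ∈ H, x * h * x⁻¹ = u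
      · rw [if_pos h', map_one]; exact if_pos h'
      · rw [if_neg h', map_zero]; exact if_neg h'
    · exact (emb_coeff_not_mem _ _ (by rwa [L.range_subtype])).symm
  have hval : (omegaO M ξ a : ℂ) = Cfsg.inducedCentralCharIn H L (ξ : L → ℂ) h := by
    rw [CfsgLib.Blocks.coe_omegaO, CfsgLib.Blocks.omega_apply, Finset.sum_div,
      Cfsg.inducedCentralCharIn, finsum_mem_def, finsum_eq_sum_of_fintype]
    refine Finset.sum_congr rfl fun k _ => ?_
    simp only [toC, ha, CfsgLib.Blocks.coeff_mapCtr, CfsgLib.Blocks.coeff_ofFun, Set.indicator_apply,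
      Set.mem_ofPred_eq]
    have : (∃ x ∈ H, x * h * x⁻¹ = (k : G)) ↔ ∃ x : H, (x : G) * (k : G) * (x : G)⁻¹ = h := by
      constructor
      · rintro ⟨x, hx, hk⟩
        refine ⟨⟨x⁻¹, H.inv_mem hx⟩, ?_⟩
        simp only [← hk]
        group
      · rintro ⟨x, hk⟩
        refine ⟨(x : G)⁻¹, H.inv_mem x.2, ?_⟩
        rw [← hk]
        group
    by_cases h' : ∃ x ∈ H, x * h * x⁻¹ = (k : G)
    · rw [if_pos h', if_pos (this.1 h')]
      simp
    · rw [if_neg h', if_neg (fun h'' => h' (this.2 h''))]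
      simp
  refine ⟨hval ▸ (omegaO M ξ a).2, ?_⟩
  have h1 := omega_blkE (φ := L.subtype) L.subtype_injective he hξ (redCtr M a)
  rw [L.range_subtype] at h1
  rw [hcut]
  refine h1.trans ?_
  rw [CfsgLib.Blocks.omegaBar_redCtr]
  exact congrArg (red M) (Subtype.ext hval)

theorem isInducedBlockIn_model {H L : Subgroup G} (hLH : L ≤ H) {e : Set (IrrCharacter L)}
    {f : Set (IrrCharacter H)} (hef : Cfsg.IsInducedBlockIn M H L e f) :
    ∀ z ∈ sub (F := Res M) H H, omega L (sblk M L e) (cut L z) = omega H (sblk M H f) z := by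
  obtain ⟨he, hf, hef⟩ := hef
  haveI := Fintype.ofFinite H
  haveI := Fintype.ofFinite L
  have hbe := isBlock_sblk (M := M) he
  have hbf := isBlock_sblk (M := M) hf
  obtain ⟨ξ, hξ⟩ := CfsgLib.Blocks.isPBlock_nonempty he
  obtain ⟨χ, hχ⟩ := CfsgLib.Blocks.isPBlock_nonempty hf
  intro z hz
  refine (centre_induction (motive := fun w => w ∈ sub (F := Res M) H H ∧
      omega L (sblk M L e) (cut L w) = omega H (sblk M H f) w)
    ⟨zero_mem _, by rw [cut_zero, omega_zero hbe, omega_zero hbf]⟩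
    (fun x y hx hy h1 h2 => ⟨add_mem hx hy, by
      rw [cut_add, omega_add hbe (cut_mem_sub hLH hx) (cut_mem_sub hLH hy), omega_add hbf hx hy,
        h1.2, h2.2]⟩) hz fun g hg _ => ?_).2
  have hK := classSum_mem_sub (F := Res M) hg
  refine ⟨Subalgebra.smul_mem _ hK _, ?_⟩
  rw [cut_smul, omega_smul hbe (cut_mem_sub hLH hK), omega_smul hbf hK]
  congr 1
  obtain ⟨hm, h1⟩ := omega_cut_classSum hLH he hξ hg
  have h2 := omega_blkE (φ := H.subtype) H.subtype_injective hf hχ
    (CfsgLib.Blocks.classSum (Res M) (ConjClasses.mk (⟨g, hg⟩ : H)))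
  rw [classSum_emb H.subtype_injective, H.range_subtype, CfsgLib.Blocks.omegaBar_classSum] at h2
  rw [h1]
  refine Eq.trans ?_ h2.symm
  exact CfsgLib.Blocks.red_eq_red_iff.2 (hef ξ hξ χ hχ ⟨g, hg⟩)

variable {p : ℕ} [hp : Fact p.Prime] [CharP (Res M) p]

/-- Covering between two subgroups. -/
theorem cover_sub_iff {H L : Subgroup G} (hLH : L ≤ H) [(L.subgroupOf H).Normal] [Fintype L]
    {c : Set (IrrCharacter H)} (hc : Cfsg.IsPBlock M c) {e : Set (IrrCharacter L)}
    (he : Cfsg.IsPBlock M e) :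
    (∃ ψ ∈ c, ∃ ξ ∈ e, Cfsg.classInner (fun l : L => (ψ : H → ℂ) (Subgroup.inclusion hLH l))
      (ξ : L → ℂ) ≠ 0) ↔ sblk M H c * sblk M L e ≠ 0 := by
  haveI := Fintype.ofFinite H
  haveI := Fintype.ofFinite (L.subgroupOf H)
  set ε : L.subgroupOf H ≃* L := Subgroup.subgroupOfEquivOfLe hLH
  have he' := isPBlock_imageSet ε.symm he
  have hε : ∀ k : L.subgroupOf H, ((ε k : L) : G) = ((k : H) : G) := fun k => rfl
  have hinner : ∀ (ψ : IrrCharacter H) (ξ : IrrCharacter L),
      Cfsg.classInner (fun k : L.subgroupOf H => (ψ : H → ℂ) k) (irrComp ε ξ : _ → ℂ) =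
        Cfsg.classInner (fun l : L => (ψ : H → ℂ) (Subgroup.inclusion hLH l)) (ξ : L → ℂ) := by
    intro ψ ξ
    simp only [Cfsg.classInner]
    rw [Nat.card_congr ε.toEquiv]
    congr 1
    exact Fintype.sum_equiv ε.toEquiv _ _ fun k => rfl
  have h1 : (∃ ψ ∈ c, ∃ ξ ∈ e, Cfsg.classInner
      (fun l : L => (ψ : H → ℂ) (Subgroup.inclusion hLH l)) (ξ : L → ℂ) ≠ 0) ↔
      ∃ ψ ∈ c, ∃ θ ∈ imageSet ε.symm e,
        Cfsg.classInner (fun k : L.subgroupOf H => (ψ : H → ℂ) k) (θ : _ → ℂ) ≠ 0 := by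
    refine exists_congr fun ψ => and_congr_right fun _ => ?_
    constructor
    · rintro ⟨ξ, hξ, h⟩
      refine ⟨irrComp ε ξ, ?_, by rwa [hinner]⟩
      show irrComp ε.symm (irrComp ε ξ) ∈ e
      rwa [show irrComp ε.symm (irrComp ε ξ) = ξ from irrComp_symm ε.symm ξ]
    · rintro ⟨θ, hθ, h⟩
      refine ⟨irrComp ε.symm θ, hθ, ?_⟩
      rw [← hinner, irrComp_symm]
      exact h
  rw [h1, cover_iff (L.subgroupOf H) hc he',
    ← (emb_injective (k := Res M) H.subtype_injective).ne_iff, map_mul, map_zero]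
  have e1 : emb H.subtype (gblk M c) = sblk M H c := ga_ext fun u => by
    by_cases hu : u ∈ H
    · rw [show u = H.subtype ⟨u, hu⟩ from rfl, emb_coeff_apply H.subtype_injective, gblk_coeff,
        sblk_coeff, Cfsg.subgroupBlockCoeff, dif_pos (show H.subtype ⟨u, hu⟩ ∈ H from hu)]
      rfl
    · rw [emb_coeff_not_mem _ _ (by rwa [H.range_subtype]), sblk_coeff, Cfsg.subgroupBlockCoeff,
        dif_neg hu, redC_zero]
  have e2 : emb H.subtype (sblk M (L.subgroupOf H) (imageSet ε.symm e)) = sblk M L e :=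
    ga_ext fun u => by
      by_cases hu : u ∈ H
      · rw [show u = H.subtype ⟨u, hu⟩ from rfl, emb_coeff_apply H.subtype_injective, sblk_coeff,
          sblk_coeff, Cfsg.subgroupBlockCoeff, Cfsg.subgroupBlockCoeff]
        by_cases hl : u ∈ L
        · rw [dif_pos (show (⟨u, hu⟩ : H) ∈ L.subgroupOf H from hl),
            dif_pos (show H.subtype ⟨u, hu⟩ ∈ L from hl), blockCoeff_imageSet]
          rfl
        · rw [dif_neg (show (⟨u, hu⟩ : H) ∉ L.subgroupOf H from hl),
            dif_neg (show H.subtype ⟨u, hu⟩ ∉ L from hl)]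
      · rw [emb_coeff_not_mem _ _ (by rwa [H.range_subtype]), sblk_coeff, Cfsg.subgroupBlockCoeff,
          dif_neg (fun h => hu (hLH h)), redC_zero]
  rw [e1, e2]

end CfsgLib.BlockPairs
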