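import Cfsg.Agent.Blocks.LocalRing
import Mathlib.FieldTheory.IsAlgClosed.Basic
import Mathlib.Analysis.Complex.Polynomial.Basic

/-!
# The residue field at a p-modular maximal ideal is algebraically closed
-/

set_option autoImplicit false
set_option linter.unusedSectionVars false
set_option linter.style.haveILetI false

namespace CfsgLib.BlockPairs

open Cfsg CfsgLib.Blocks

variable {p : ℕ} {M : Ideal AlgInt} [M.IsPrime]

theorem red_ofAlgInt_surjective (hM : Cfsg.IsPModular p M) :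
    Function.Surjective ((red M).comp (ofAlgInt M)) := by
  intro y
  obtain ⟨x, rfl⟩ := red_surjective y
  obtain ⟨a, b, hb, h⟩ := exists_mul_ofAlgInt x
  obtain ⟨c, m, hm, hcm⟩ := hM.2.1.exists_inv hb
  have h1 : red M (ofAlgInt M c) * red M (ofAlgInt M b) = 1 := by
    have h2 := congrArg (fun z => red M (ofAlgInt M z)) hcm
    simp only [map_add, map_mul, map_one, (red_ofAlgInt_eq_zero_iff m).2 hm, add_zero] at h2
    exact h2
  refine ⟨a * c, ?_⟩
  simp only [RingHom.comp_apply, map_mul, ← h]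
  rw [mul_assoc, mul_comm (red M (ofAlgInt M b)), h1, mul_one]

theorem isAlgClosed_res (hM : Cfsg.IsPModular p M) : IsAlgClosed (Res M) := by
  refine IsAlgClosed.of_exists_root _ fun P hP hPi => ?_
  obtain ⟨Q, hQ, hdeg, hQm⟩ := Polynomial.lifts_and_degree_eq_and_monic
    (f := (red M).comp (ofAlgInt M))
    ((Polynomial.mem_lifts P).2 (Polynomial.map_surjective _ (red_ofAlgInt_surjective hM) P)) hP
  have hd : 0 < (Q.map (algebraMap AlgInt ℂ)).degree := by
    rw [hQm.degree_map, hdeg]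
    exact hPi.natDegree_pos |> Polynomial.natDegree_pos_iff_degree_pos.1
  obtain ⟨z, hz⟩ := IsAlgClosed.exists_root (Q.map (algebraMap AlgInt ℂ)) hd.ne'
  have hz' : Polynomial.eval₂ (algebraMap AlgInt ℂ) z Q = 0 := by
    rwa [Polynomial.eval₂_eq_eval_map]
  have hzi : IsIntegral ℤ z := isIntegral_trans (R := ℤ) (A := AlgInt) z ⟨Q, hQm, hz'⟩
  refine ⟨red M (ofAlgInt M ⟨z, hzi⟩), ?_⟩
  have h0 : Q.eval (⟨z, hzi⟩ : AlgInt) = 0 := by
    apply Subtype.ext
    have h1 := Polynomial.eval₂_at_apply (p := Q) (algebraMap AlgInt ℂ) (⟨z, hzi⟩ : AlgInt)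
    exact h1.symm.trans hz'
  rw [← hQ, Polynomial.eval_map]
  show Polynomial.eval₂ ((red M).comp (ofAlgInt M)) (((red M).comp (ofAlgInt M)) ⟨z, hzi⟩) Q = 0
  rw [Polynomial.eval₂_at_apply, h0, map_zero]

end CfsgLib.BlockPairs
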