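import Cfsg.Agent.BlockPairs.Maximal
import Cfsg.Agent.BlockPairs.ResField
import Cfsg.Agent.Blocks.DefectClass
import Cfsg.Agent.Characters.Linear

/-!
# From the Prelude's blocks to the group algebra model

For an injective `φ : X →* G`, `blkE M φ B` is the idempotent over `Res M` of the set `B` of
irreducible characters of `X`, seen in the group algebra of `G` on the range of `φ`.
`isBlock_blkE`, `exists_eq_blkE`, `blkE_injOn` identify the blocks; `omega_blkE` the central
characters; `isDefectGroup_iff` the defect groups.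
-/

set_option autoImplicit false
set_option linter.unusedSectionVars false
set_option linter.style.haveILetI false

namespace CfsgLib.BlockPairs

open Cfsg
open CfsgLib.Blocks (Ctr Res localRing red idemBar omegaBar)

universe u v

/-! ### The embedding along a monomorphism -/

section Emb

variable {k : Type*} [Field k] {X : Type u} [Group X] {G : Type v} [Group G]

/-- The map of group algebras induced by a homomorphism. -/
noncomputable def emb (φ : X →* G) : GA k X →+* GA k G := MonoidAlgebra.mapDomainRingHom k φ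

theorem emb_coeff_apply {φ : X →* G} (hφ : Function.Injective φ) (a : GA k X) (x : X) :
    (emb φ a).coeff (φ x) = a.coeff x := Finsupp.mapDomain_apply hφ a.coeff x

theorem emb_coeff_not_mem (φ : X →* G) (a : GA k X) {g : G} (hg : g ∉ φ.range) :
    (emb φ a).coeff g = 0 :=
  Finsupp.mapDomain_of_notMem_range a.coeff g fun ⟨x, hx⟩ => hg ⟨x, hx⟩

theorem emb_injective {φ : X →* G} (hφ : Function.Injective φ) :
    Function.Injective (emb (k := k) φ) := fun a b h => ga_ext fun x => by
  rw [← emb_coeff_apply hφ a, h, emb_coeff_apply hφ]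

theorem emb_scalar (φ : X →* G) (c : k) :
    emb φ ((CfsgLib.Blocks.scalar c : Ctr k X) : GA k X) = c • 1 := by
  simp [emb, CfsgLib.Blocks.coe_scalar, MonoidAlgebra.one_def, MonoidAlgebra.smul_single]

theorem emb_mem_sub {φ : X →* G} (hφ : Function.Injective φ) {a : GA k X} (ha : a ∈ Ctr k X) :
    emb φ a ∈ sub φ.range φ.range := by
  refine ⟨fun g hg => by_contra fun h => hg (emb_coeff_not_mem φ a h), fun u hu => ga_ext fun g => ?_⟩
  obtain ⟨y, rfl⟩ := hu
  rw [conjA_coeff]
  by_cases hg : g ∈ φ.range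
  · obtain ⟨x, rfl⟩ := hg
    rw [← map_inv, ← map_mul, ← map_mul, emb_coeff_apply hφ, emb_coeff_apply hφ]
    simpa using CfsgLib.Blocks.coeff_conj_of_mem_ctr ha x y⁻¹
  · rw [emb_coeff_not_mem φ a hg, emb_coeff_not_mem φ a]
    intro h
    apply hg
    have := mul_mem (mul_mem (MonoidHom.mem_range.2 ⟨y, rfl⟩ : φ y ∈ φ.range) h)
      (inv_mem (MonoidHom.mem_range.2 ⟨y, rfl⟩ : φ y ∈ φ.range))
    simpa [mul_assoc] using this

variable [Finite X]

theorem exists_emb {φ : X →* G} (hφ : Function.Injective φ) {z : GA k G}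
    (hz : z ∈ sub φ.range φ.range) : ∃ a : Ctr k X, emb φ (a : GA k X) = z := by
  refine ⟨⟨CfsgLib.Blocks.ofFun fun x => z.coeff (φ x), CfsgLib.Blocks.mem_ctr_iff.2 fun g h => ?_⟩,
    ga_ext fun g => ?_⟩
  · simp only [CfsgLib.Blocks.coeff_ofFun, map_mul, map_inv]
    exact hz.2.coeff' ⟨h, rfl⟩ _
  · by_cases hg : g ∈ φ.range
    · obtain ⟨x, rfl⟩ := hg
      rw [emb_coeff_apply hφ, CfsgLib.Blocks.coeff_ofFun]
    · rw [emb_coeff_not_mem φ _ hg, hz.1.coeff_eq_zero hg]

variable [Finite G]

theorem classSum_emb {φ : X →* G} (hφ : Function.Injective φ) (x : X) :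
    emb φ ((CfsgLib.Blocks.classSum k (ConjClasses.mk x) : Ctr k X) : GA k X) =
      classSum k φ.range (φ x) := by
  classical
  refine ga_ext fun g => ?_
  rw [classSum_coeff]
  by_cases hg : g ∈ φ.range
  · obtain ⟨y, rfl⟩ := hg
    rw [emb_coeff_apply hφ, CfsgLib.Blocks.coeff_classSum]
    refine if_congr ?_ rfl rfl
    rw [eq_comm, ConjClasses.mk_eq_mk_iff_isConj, isConj_iff]
    constructor
    · rintro ⟨c, rfl⟩
      exact ⟨φ c, ⟨c, rfl⟩, by simp⟩
    · rintro ⟨_, ⟨c, rfl⟩, h⟩
      exact ⟨c, hφ (by simpa using h)⟩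
  · rw [emb_coeff_not_mem φ _ hg, if_neg]
    rintro ⟨h, hh, rfl⟩
    exact hg (mul_mem (mul_mem hh ⟨x, rfl⟩) (inv_mem hh))

end Emb

/-! ### The idempotent of a set of characters -/

variable {X : Type u} [Group X] {G : Type v} [Group G] {M : Ideal AlgInt} [M.IsPrime]

open scoped Classical in
/-- The reduction of a complex number, zero outside the local ring. -/
noncomputable def redC (M : Ideal AlgInt) [M.IsPrime] (z : ℂ) : Res M :=
  if h : Cfsg.MemLocalRing M z then red M ⟨z, h⟩ else 0

theorem redC_of_mem {z : ℂ} (h : Cfsg.MemLocalRing M z) : redC M z = red M ⟨z, h⟩ := dif_pos h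

theorem redC_zero : redC M 0 = 0 := by
  rw [redC_of_mem (CfsgLib.Blocks.memLocalRing_of_memLocalIdeal CfsgLib.Blocks.memLocalIdeal_zero),
    CfsgLib.Blocks.red_eq_zero_iff]
  exact CfsgLib.Blocks.memLocalIdeal_zero

/-- The idempotent of a set of characters of `X`, on the range of `φ`. -/
noncomputable def blkE (M : Ideal AlgInt) [M.IsPrime] [Finite X] (φ : X →* G)
    (B : Set (IrrCharacter X)) : GA (Res M) G :=
  emb φ (CfsgLib.Blocks.ofFun fun x => redC M (Cfsg.blockCoeff B x))

variable [Fintype X]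

theorem blkE_eq (φ : X →* G) {B : Set (IrrCharacter X)} (hB : CfsgLib.Blocks.IsBlockUnion M B) :
    blkE M φ B = emb φ ((idemBar M B hB : Ctr (Res M) X) : GA (Res M) X) := by
  rw [blkE]
  congr 1
  exact ga_ext fun x => by
    rw [CfsgLib.Blocks.coeff_ofFun, CfsgLib.Blocks.coeff_idemBar,
      redC_of_mem (CfsgLib.Blocks.memLocalRing_blockCoeff hB x)]

variable {p : ℕ} [hp : Fact p.Prime] [Finite G] {φ : X →* G}

theorem blkE_coeff (hφ : Function.Injective φ) {B : Set (IrrCharacter X)}
    (hB : CfsgLib.Blocks.IsBlockUnion M B) (x : X) :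
    (blkE M φ B).coeff (φ x) = (idemBar M B hB : MonoidAlgebra (Res M) X).coeff x := by
  rw [blkE_eq φ hB, emb_coeff_apply hφ]

theorem isBlock_blkE (hφ : Function.Injective φ) {B : Set (IrrCharacter X)}
    (hB : Cfsg.IsPBlock M B) : IsBlock φ.range (blkE M φ B) := by
  classical
  have hU := CfsgLib.Blocks.isBlockUnion_of_isPBlock hB
  obtain ⟨χ, hχ⟩ := CfsgLib.Blocks.isPBlock_nonempty hB
  have hee := CfsgLib.Blocks.idemBar_mul_self (M := M) B hU
  rw [blkE_eq φ hU]
  refine ⟨emb_mem_sub hφ (idemBar M B hU).2, (by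
    rw [← map_mul]; exact congrArg (emb φ) (congrArg Subtype.val hee)), fun h0 => ?_, fun f hf hff => ?_⟩
  · rw [← map_zero (emb (k := Res M) φ)] at h0
    have h1 : idemBar M B hU = 0 := Subtype.ext (emb_injective hφ h0)
    have h2 := CfsgLib.Blocks.omegaBar_idemBar B hU χ
    rw [h1, map_zero, if_pos hχ] at h2
    exact zero_ne_one h2
  · obtain ⟨a, rfl⟩ := exists_emb hφ hf
    have haa : a * a = a := Subtype.ext (emb_injective hφ (by rw [Subring.coe_mul, map_mul, hff]))
    set e := idemBar M B hU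
    set c := omegaBar M χ a with hc
    have hn : IsNilpotent (e * (a - CfsgLib.Blocks.scalar c)) :=
      CfsgLib.Blocks.isNilpotent_idemBar_mul_sub hB hχ a
    have hcc : c * c = c := by rw [hc, ← map_mul, haa]
    have key : ∀ y : Ctr (Res M) X, y * y = y → IsNilpotent y → y = 0 := fun y hy hny => by
      obtain ⟨n, hny⟩ := hny
      rcases Nat.eq_zero_or_pos n with rfl | hpos
      · rw [pow_zero] at hny
        rw [← mul_one y, hny, mul_zero]
      · rw [← hny, IsIdempotentElem.pow_eq (hy) hpos.ne']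
    rcases mul_eq_zero.1 (show c * (c - 1) = 0 by rw [mul_sub, hcc, mul_one, sub_self]) with h | h
    · left
      rw [h, map_zero, sub_zero] at hn
      have h0 := key (e * a) (by linear_combination a * a * hee + e * haa) hn
      rw [← map_mul, ← map_zero (emb (k := Res M) φ)]
      congr 1
      rw [← Subring.coe_mul, mul_comm, h0, Subring.coe_zero]
    · right
      rw [sub_eq_zero.1 h, map_one] at hn
      have h0 := key (e * (1 - a)) (by linear_combination (1 - a) * (1 - a) * hee + e * haa) (by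
        have := hn.neg
        rwa [← mul_neg, neg_sub] at this)
      rw [← map_mul]
      congr 1
      rw [← Subring.coe_mul]
      congr 1
      linear_combination -h0

theorem exists_eq_blkE (hφ : Function.Injective φ) {f : GA (Res M) G} (hf : IsBlock φ.range f) :
    ∃ B : Set (IrrCharacter X), Cfsg.IsPBlock M B ∧ f = blkE M φ B := by
  classical
  by_contra hne
  simp only [not_exists, not_and] at hne
  have h0 := congrArg (fun z : Ctr (Res M) X => f * emb φ (z : GA (Res M) X))
    (CfsgLib.Blocks.prod_one_sub_idemBar (M := M) (G := X))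
  simp only [Subring.coe_zero, map_zero, mul_zero] at h0
  apply hf.ne_zero
  have key : ∀ s : Finset (IrrCharacter X), f * emb φ ((∏ χ ∈ s,
      (1 - idemBar M (Cfsg.blockOf M (χ : X → ℂ)) (CfsgLib.Blocks.isBlockUnion_of_isPBlock
        (CfsgLib.Blocks.isPBlock_blockOf χ))) : Ctr (Res M) X) : GA (Res M) X) = f := by
    intro s
    induction s using Finset.induction_on with
    | empty => simp
    | insert χ s hχ ih =>
      have hB := CfsgLib.Blocks.isPBlock_blockOf (M := M) χ
      have hz : f * blkE M φ (Cfsg.blockOf M (χ : X → ℂ)) = 0 :=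
        (hf.eq_or_mul_eq_zero (isBlock_blkE hφ hB)).resolve_left (hne _ hB)
      rw [blkE_eq φ (CfsgLib.Blocks.isBlockUnion_of_isPBlock hB)] at hz
      rw [Finset.prod_insert hχ, Subring.coe_mul, map_mul, ← mul_assoc, AddSubgroupClass.coe_sub,
        map_sub, Subring.coe_one, map_one, mul_sub, mul_one, hz, sub_zero, ih]
  rw [← key Finset.univ, h0]

theorem omega_blkE [IsAlgClosed (Res M)] (hφ : Function.Injective φ) {B : Set (IrrCharacter X)}
    (hB : Cfsg.IsPBlock M B) {χ : IrrCharacter X} (hχ : χ ∈ B) (a : Ctr (Res M) X) :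
    omega φ.range (blkE M φ B) (emb φ (a : GA (Res M) X)) = omegaBar M χ a := by
  have hU := CfsgLib.Blocks.isBlockUnion_of_isPBlock hB
  refine omega_unique (isBlock_blkE hφ hB) (emb_mem_sub hφ a.2) ?_
  obtain ⟨n, hn⟩ := CfsgLib.Blocks.isNilpotent_idemBar_mul_sub hB hχ a
  refine ⟨n, ?_⟩
  have h1 := congrArg (fun z : Ctr (Res M) X => emb φ (z : GA (Res M) X)) hn
  simp only [SubmonoidClass.coe_pow, Subring.coe_zero, map_zero, map_pow] at h1
  rw [← h1, blkE_eq φ hU]
  congr 1
  rw [mul_comm (idemBar M B hU), Subring.coe_mul, map_mul, AddSubgroupClass.coe_sub, map_sub,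
    emb_scalar, sub_mul, smul_mul_assoc, one_mul]

theorem blkE_injOn (hφ : Function.Injective φ) {B B' : Set (IrrCharacter X)}
    (hB : Cfsg.IsPBlock M B) (hB' : Cfsg.IsPBlock M B') (h : blkE M φ B = blkE M φ B') :
    B = B' := by
  classical
  rw [blkE_eq φ (CfsgLib.Blocks.isBlockUnion_of_isPBlock hB),
    blkE_eq φ (CfsgLib.Blocks.isBlockUnion_of_isPBlock hB')] at h
  have h' := Subtype.ext (emb_injective hφ h)
  obtain ⟨χ, hχ⟩ := CfsgLib.Blocks.isPBlock_nonempty hB
  have h1 := CfsgLib.Blocks.omegaBar_idemBar (M := M) B (CfsgLib.Blocks.isBlockUnion_of_isPBlock hB) χ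
  rw [if_pos hχ, h', CfsgLib.Blocks.omegaBar_idemBar] at h1
  split_ifs at h1 with hm
  · exact CfsgLib.Blocks.isPBlock_eq_of_mem hB hB' hχ hm
  · exact absurd h1 zero_ne_one

theorem omega_blkE_self [IsAlgClosed (Res M)] (hφ : Function.Injective φ)
    {B B' : Set (IrrCharacter X)} (hB : Cfsg.IsPBlock M B) (hB' : Cfsg.IsPBlock M B')
    (hne : B ≠ B') : omega φ.range (blkE M φ B) (blkE M φ B') = 0 :=
  omega_block (isBlock_blkE hφ hB) (isBlock_blkE hφ hB')
    fun h => hne (blkE_injOn hφ hB' hB h).symm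

/-! ### Defect groups -/

theorem isDefectClass_bridge [IsAlgClosed (Res M)] (hφ : Function.Injective φ)
    {B : Set (IrrCharacter X)} (hB : Cfsg.IsPBlock M B) (x : X) :
    Cfsg.IsDefectClass M B x ↔ (blkE M φ B).coeff (φ x) ≠ 0 ∧
      omega φ.range (blkE M φ B) (classSum (Res M) φ.range (φ x)) ≠ 0 := by
  obtain ⟨χ, hχ⟩ := CfsgLib.Blocks.isPBlock_nonempty hB
  rw [CfsgLib.Blocks.isDefectClass_iff hB hχ,
    blkE_coeff hφ (CfsgLib.Blocks.isBlockUnion_of_isPBlock hB), ← classSum_emb hφ,
    omega_blkE hφ hB hχ]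

theorem map_centralizer (hφ : Function.Injective φ) (x : X) :
    (Subgroup.centralizer ({x} : Set X)).map φ =
      φ.range ⊓ Subgroup.centralizer ({φ x} : Set G) := by
  ext g
  constructor
  · rintro ⟨y, hy, rfl⟩
    refine ⟨⟨y, rfl⟩, Subgroup.mem_centralizer_singleton_iff.2 ?_⟩
    rw [← map_mul, Subgroup.mem_centralizer_singleton_iff.1 hy, map_mul]
  · rintro ⟨⟨y, rfl⟩, hy⟩
    refine ⟨y, Subgroup.mem_centralizer_singleton_iff.2 (hφ ?_), rfl⟩
    rw [map_mul, map_mul]
    exact Subgroup.mem_centralizer_singleton_iff.1 hy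

theorem isDefectGrp_of_sylow [IsAlgClosed (Res M)] [CharP (Res M) p] (hφ : Function.Injective φ)
    {B : Set (IrrCharacter X)} (hB : Cfsg.IsPBlock M B) {x : X} (hx : Cfsg.IsDefectClass M B x)
    (S : Sylow p (Subgroup.centralizer ({x} : Set X))) :
    IsDefectGrp p φ.range (blkE M φ B)
      (((S : Subgroup (Subgroup.centralizer ({x} : Set X))).map
        (Subgroup.centralizer ({x} : Set X)).subtype).map φ) := by
  let C := Subgroup.centralizer ({x} : Set X)
  obtain ⟨h1, h2⟩ := (isDefectClass_bridge hφ hB x).1 hx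
  refine exists_defectGrp_of_class (isBlock_blkE hφ hB) ⟨x, rfl⟩ h1 h2 ?_ ((S.2.map _).map _) ?_
  · rw [← map_centralizer hφ]
    exact Subgroup.map_mono (Subgroup.map_subtype_le _)
  · intro R hR hRp
    rw [← map_centralizer hφ] at hR
    have hRr : R ≤ φ.range := hR.trans (by rintro _ ⟨y, -, rfl⟩; exact ⟨y, rfl⟩)
    have hR' : R.comap φ ≤ C := fun y hy => by
      obtain ⟨z, hz, he⟩ := hR hy
      rwa [← hφ he]
    obtain ⟨T, hT⟩ := IsPGroup.exists_le_sylow (P := (R.comap φ).subgroupOf C)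
      ((hRp.comap_of_injective φ hφ).of_equiv (Subgroup.subgroupOfEquivOfLe hR').symm)
    obtain ⟨c, rfl⟩ := MulAction.exists_smul_eq C S T
    refine ⟨φ (c : X)⁻¹, ⟨_, rfl⟩, fun u hu => ?_⟩
    rw [mem_cj, map_inv, inv_inv] at hu
    obtain ⟨z, hz, hze⟩ := hR hu
    have hzR : z ∈ R.comap φ := by rw [Subgroup.mem_comap, hze]; exact hu
    have h3 := hT (show (⟨z, hz⟩ : C) ∈ (R.comap φ).subgroupOf C from hzR)
    rw [Sylow.coe_subgroup_smul, Subgroup.mem_pointwise_smul_iff_inv_smul_mem] at h3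
    refine ⟨_, ⟨_, h3, rfl⟩, ?_⟩
    simp [hze, mul_assoc]

/-- Defect groups in the Prelude's sense are defect groups in the model. -/
theorem IsDefectGrp.of_isDefectGroup [IsAlgClosed (Res M)] [CharP (Res M) p]
    (hφ : Function.Injective φ) {B : Set (IrrCharacter X)} (hB : Cfsg.IsPBlock M B)
    {D : Subgroup X} (hD : Cfsg.IsDefectGroup p M B D) :
    IsDefectGrp p φ.range (blkE M φ B) (D.map φ) := by
  obtain ⟨x, hx, S, rfl⟩ := hD
  exact isDefectGrp_of_sylow hφ hB hx S

/-- Defect groups in the model are defect groups in the Prelude's sense. -/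
theorem isDefectGroup_iff [IsAlgClosed (Res M)] [CharP (Res M) p] (hφ : Function.Injective φ)
    {B : Set (IrrCharacter X)} (hB : Cfsg.IsPBlock M B) (D : Subgroup X) :
    Cfsg.IsDefectGroup p M B D ↔ IsDefectGrp p φ.range (blkE M φ B) (D.map φ) := by
  refine ⟨IsDefectGrp.of_isDefectGroup hφ hB, fun hD => ?_⟩
  obtain ⟨x, hx⟩ := CfsgLib.Blocks.exists_isDefectClass hB
  obtain ⟨S⟩ : Nonempty (Sylow p (Subgroup.centralizer ({x} : Set X))) := inferInstance
  obtain ⟨h, ⟨y, rfl⟩, hh⟩ := hD.conj_of (isDefectGrp_of_sylow hφ hB hx S)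
  have hg : Cfsg.IsDefectClass M B (y * x * y⁻¹) := by
    rw [isDefectClass_bridge hφ hB] at hx ⊢
    have hK : classSum (Res M) φ.range (φ (y * x * y⁻¹)) = classSum (Res M) φ.range (φ x) := by
      rw [← classSum_emb hφ, ← classSum_emb hφ, ConjClasses.mk_eq_mk_iff_isConj.2
        (isConj_iff.2 ⟨y, rfl⟩).symm]
    rw [hK, map_mul φ, map_mul φ, map_inv φ, (isBlock_blkE hφ hB).fixed.coeff' ⟨y, rfl⟩]
    exact hx
  have hC : (Subgroup.centralizer ({x} : Set X)).map (MulAut.conj y).toMonoidHom =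
      Subgroup.centralizer ({y * x * y⁻¹} : Set X) := by
    rw [map_centralizer (φ := (MulAut.conj y).toMonoidHom) (MulAut.conj y).injective x,
      MonoidHom.range_eq_top.2 (MulAut.conj y).surjective, top_inf_eq]
    simp
  let e : Subgroup.centralizer ({x} : Set X) ≃* Subgroup.centralizer ({y * x * y⁻¹} : Set X) :=
    (Subgroup.equivMapOfInjective _ _ (MulAut.conj y).injective).trans (MulEquiv.subgroupCongr hC)
  refine ⟨_, hg, S.mapSurjective (f := e.toMonoidHom) (show Function.Surjective e.toMonoidHom from e.surjective), ?_⟩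
  rw [Sylow.coe_mapSurjective, Subgroup.map_map]
  apply Subgroup.map_injective hφ
  rw [← hh, cj, Subgroup.map_map, Subgroup.map_map, Subgroup.map_map]
  congr 1
  ext s
  show φ y * φ (s : X) * (φ y)⁻¹ = φ (y * (s : X) * y⁻¹)
  simp

end CfsgLib.BlockPairs
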