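import Cfsg.Agent.BlockPairs.PairBridge

/-!
# The Brauer correspondence

`br Q` is a bijection from the blocks of `H` with defect group `Q` onto those of `N_H(Q)`.
-/

set_option autoImplicit false
set_option linter.unusedSectionVars false
set_option linter.style.haveILetI false

namespace CfsgLib.BlockPairs

open Cfsg
open CfsgLib.Blocks (Res)

section Model

variable {F G : Type*} [Field F] [Group G] [Finite G] [IsAlgClosed F] {p : ℕ} [hp : Fact p.Prime]
  [CharP F p] {H Q : Subgroup G}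

theorem br_mem_normalizer {b : GA F G} (hb : IsBlock H b) :
    br Q b ∈ sub (H ⊓ Subgroup.normalizer (Q : Set G)) (H ⊓ Subgroup.normalizer (Q : Set G)) :=
  ⟨(isSupp_br_of hb.supp).mono (le_inf inf_le_left cent_le_normalizer),
    isFixed_br inf_le_right (hb.fixed.mono inf_le_left)⟩

theorem isBlock_br_of_defect {b : GA F G} (hb : IsBlock H b) (hd : IsDefectGrp p H b Q) :
    IsBlock (H ⊓ Subgroup.normalizer (Q : Set G)) (br Q b) ∧
      IsDefectGrp p (H ⊓ Subgroup.normalizer (Q : Set G)) (br Q b) Q := by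
  obtain ⟨f, hf⟩ := exists_blockHas hb hd.1 hd.2.1 hd.2.2.1
  have hmax := isMaxPair_of_defect hd hf
  rw [(hmax.isDefectGrp hb).2]
  exact ⟨isBlock_orbitSum hf.1, isDefectGrp_orbitSum hf.1 (hmax.defect_stab hb).2.2.2⟩

theorem eq_of_br_eq {b b' : GA F G} (hb : IsBlock H b) (hb' : IsBlock H b')
    (hd : IsDefectGrp p H b Q) (h : br Q b = br Q b') : b = b' := by
  refine hb.eq_of_mul_ne_zero hb' fun h0 => ?_
  have h1 := congrArg (br Q) h0
  rw [br_mul hd.2.1 (hb.fixed.mono hd.1) (hb'.fixed.mono hd.1), ← h, br_zero,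
    (isBlock_br_of_defect hb hd).1.idem] at h1
  exact hd.2.2.1 h1

open Classical in
theorem exists_of_defect {b0 : GA F G} (hb0 : IsBlock (H ⊓ Subgroup.normalizer (Q : Set G)) b0)
    (hd : IsDefectGrp p (H ⊓ Subgroup.normalizer (Q : Set G)) b0 Q) :
    ∃ b : GA F G, IsBlock H b ∧ IsDefectGrp p H b Q ∧ br Q b = b0 := by
  obtain ⟨b, hb, hne⟩ : ∃ b ∈ blocks F H, br Q b * b0 ≠ 0 := by
    by_contra hno
    push Not at hno
    apply hb0.ne_zero
    calc b0 = br Q (∑ b ∈ blocks F H, b) * b0 := by rw [sum_blocks_eq_one, br_one, one_mul]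
      _ = 0 := by rw [br_sum, Finset.sum_mul]; exact Finset.sum_eq_zero hno
  rw [mem_blocks] at hb
  have hle := ((hb0.dichotomy (br_mem_normalizer hb) (br_idem hd.2.1
    (hb.fixed.mono (hd.1.trans inf_le_left)) hb.idem)).resolve_left hne)
  obtain ⟨h1, h2⟩ := firstMain hb hb0 hd hle
  exact ⟨b, hb, h1, h2⟩

end Model

universe u

variable {G : Type u} [Group G] [Fintype G] {M : Ideal AlgInt} [M.IsPrime]

theorem redC_eq_redC_iff {a b : ℂ} (ha : Cfsg.MemLocalRing M a) (hb : Cfsg.MemLocalRing M b) :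
    redC M a = redC M b ↔ Cfsg.MemLocalIdeal M (a - b) := by
  rw [redC_of_mem ha, redC_of_mem hb]
  exact CfsgLib.Blocks.red_eq_red_iff

/-- Agreement on the centralizer is equality of the Brauer images. -/
theorem br_gblk_eq_br_sblk_iff {B : Set (IrrCharacter G)} (hB : Cfsg.IsPBlock M B) {K : Subgroup G}
    {c : Set (IrrCharacter K)} (hc : Cfsg.IsPBlock M c) (P : Subgroup G) :
    br P (gblk M B) = br P (sblk M K c) ↔ ∀ x ∈ Subgroup.centralizer (P : Set G),
      Cfsg.MemLocalIdeal M (Cfsg.blockCoeff B x - Cfsg.subgroupBlockCoeff K c x) := by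
  haveI := Fintype.ofFinite K
  have hm : ∀ x, Cfsg.MemLocalRing M (Cfsg.subgroupBlockCoeff K c x) := fun x => by
    rw [Cfsg.subgroupBlockCoeff]
    split_ifs
    · exact CfsgLib.Blocks.memLocalRing_blockCoeff (CfsgLib.Blocks.isBlockUnion_of_isPBlock hc) _
    · exact CfsgLib.Blocks.memLocalRing_of_memLocalIdeal CfsgLib.Blocks.memLocalIdeal_zero
  have hm' := fun x => CfsgLib.Blocks.memLocalRing_blockCoeff
    (CfsgLib.Blocks.isBlockUnion_of_isPBlock hB) x
  constructor
  · intro h x hx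
    have h1 := congrArg (fun a : GA (Res M) G => a.coeff x) h
    simp only [br_coeff_mem P _ hx, gblk_coeff, sblk_coeff] at h1
    exact (redC_eq_redC_iff (hm' x) (hm x)).1 h1
  · intro h
    refine ga_ext fun x => ?_
    by_cases hx : x ∈ Subgroup.centralizer (P : Set G)
    · rw [br_coeff_mem P _ hx, br_coeff_mem P _ hx, gblk_coeff, sblk_coeff]
      exact (redC_eq_redC_iff (hm' x) (hm x)).2 (h x hx)
    · rw [br_coeff_not_mem P _ hx, br_coeff_not_mem P _ hx]

end CfsgLib.BlockPairs
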