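import Cfsg.Agent.BlockPairs.Block
import Mathlib.GroupTheory.Sylow

/-!
# Defect groups in the group algebra model

`Dominated p H D z`: every p-subgroup `R ≤ H` with `br R z ≠ 0` is `H`-conjugate into `D`.
`IsDefectGrp p H e D`: `D` is a p-subgroup of `H` with `br D e ≠ 0` dominating `e`.
For a block, defect groups exist, are conjugate, and `br R e ≠ 0` exactly when `R` is conjugate
into one of them.
-/

set_option autoImplicit false
set_option linter.unusedSectionVars false
set_option linter.style.haveILetI false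

namespace CfsgLib.BlockPairs

variable {F : Type*} [Field F] {G : Type*} [Group G]

/-- The conjugate `x R x⁻¹`. -/
abbrev cj (x : G) (R : Subgroup G) : Subgroup G := R.map (MulAut.conj x).toMonoidHom

theorem mem_cj {x g : G} {R : Subgroup G} : g ∈ cj x R ↔ x⁻¹ * g * x ∈ R := by
  simp only [cj, Subgroup.mem_map, MulEquiv.coe_toMonoidHom, MulAut.conj_apply]
  constructor
  · rintro ⟨u, hu, rfl⟩
    simpa [mul_assoc] using hu
  · intro h
    exact ⟨_, h, by group⟩

theorem cj_one (R : Subgroup G) : cj 1 R = R := by ext g; simp [mem_cj]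

theorem cj_cj (x y : G) (R : Subgroup G) : cj x (cj y R) = cj (x * y) R := by
  ext g; simp [mem_cj, mul_assoc]

theorem cj_mono (x : G) {R S : Subgroup G} (h : R ≤ S) : cj x R ≤ cj x S := Subgroup.map_mono h

theorem cj_inv_cj (x : G) (R : Subgroup G) : cj x⁻¹ (cj x R) = R := by
  rw [cj_cj, inv_mul_cancel, cj_one]

theorem cj_cj_inv (x : G) (R : Subgroup G) : cj x (cj x⁻¹ R) = R := by
  rw [cj_cj, mul_inv_cancel, cj_one]

theorem card_cj (x : G) (R : Subgroup G) : Nat.card (cj x R) = Nat.card R :=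
  Nat.card_congr (Subgroup.equivMapOfInjective R _ (MulAut.conj x).injective).toEquiv.symm

theorem isPGroup_cj {p : ℕ} (x : G) {R : Subgroup G} (h : IsPGroup p R) : IsPGroup p (cj x R) :=
  h.map _

theorem cj_le_of_mem {H R : Subgroup G} {x : G} (hx : x ∈ H) (hR : R ≤ H) : cj x R ≤ H := by
  intro g hg
  have := H.mul_mem (H.mul_mem hx (hR (mem_cj.1 hg))) (H.inv_mem hx)
  simpa [mul_assoc] using this

theorem cj_eq_self {x : G} {R : Subgroup G} (hx : x ∈ Subgroup.normalizer (R : Set G)) :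
    cj x R = R := map_conj_eq_self hx

theorem mem_normalizer_of_cj_eq {x : G} {R : Subgroup G} (h : cj x R = R) :
    x ∈ Subgroup.normalizer (R : Set G) := by
  rw [Subgroup.mem_normalizer_iff]
  intro g
  refine ⟨fun hg => ?_, fun hg => ?_⟩
  · rw [← h, mem_cj]; simpa [mul_assoc] using hg
  · rw [← h] at hg
    simpa [mem_cj, mul_assoc] using hg

theorem IsFixed.br_cj {H : Subgroup G} {z : GA F G} (hz : IsFixed H z) {x : G} (hx : x ∈ H)
    (R : Subgroup G) : br (cj x R) z = conjA F x (br R z) := by rw [conjA_br, hz x hx]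

theorem br_cj_ne_zero {H : Subgroup G} {z : GA F G} (hz : IsFixed H z) {x : G} (hx : x ∈ H)
    {R : Subgroup G} (h : br R z ≠ 0) : br (cj x R) z ≠ 0 := by
  rw [hz.br_cj hx]
  exact fun h' => h (conjA_injective x (h'.trans (conjA_zero x).symm))

open scoped Classical in
/-- The sum of the `H`-conjugates of `g`. -/
noncomputable def classSum (F : Type*) [Field F] {G : Type*} [Group G] [Finite G] (H : Subgroup G)
    (g : G) : GA F G :=
  MonoidAlgebra.ofCoeff (Finsupp.equivFunOnFinite.symm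
    fun x => if ∃ h ∈ H, h * g * h⁻¹ = x then 1 else 0)

section Finite

variable [Finite G]

open scoped Classical in
theorem classSum_coeff (H : Subgroup G) (g x : G) :
    (classSum F H g).coeff x = if ∃ h ∈ H, h * g * h⁻¹ = x then 1 else 0 := rfl

theorem classSum_mem_sub {H : Subgroup G} {g : G} (hg : g ∈ H) :
    classSum F H g ∈ sub H H := by
  classical
  refine ⟨fun x hx => ?_, fun u hu => ga_ext fun x => ?_⟩
  · rw [classSum_coeff] at hx
    obtain ⟨h, hh, rfl⟩ : ∃ h ∈ H, h * g * h⁻¹ = x := by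
      by_contra hc
      exact hx (if_neg hc)
    exact H.mul_mem (H.mul_mem hh hg) (H.inv_mem hh)
  · rw [conjA_coeff, classSum_coeff, classSum_coeff]
    refine if_congr ⟨?_, ?_⟩ rfl rfl
    · rintro ⟨h, hh, he⟩
      refine ⟨u * h, H.mul_mem hu hh, ?_⟩
      calc u * h * g * (u * h)⁻¹ = u * (h * g * h⁻¹) * u⁻¹ := by group
        _ = u * (u⁻¹ * x * u) * u⁻¹ := by rw [he]
        _ = x := by group
    · rintro ⟨h, hh, rfl⟩
      exact ⟨u⁻¹ * h, H.mul_mem (H.inv_mem hu) hh, by group⟩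

theorem centre_induction {H : Subgroup G} {motive : GA F G → Prop} (h0 : motive 0)
    (hadd : ∀ a b, a ∈ sub H H → b ∈ sub H H → motive a → motive b → motive (a + b))
    {z : GA F G} (hz : z ∈ sub H H)
    (hK : ∀ g ∈ H, z.coeff g ≠ 0 → motive (z.coeff g • classSum F H g)) : motive z := by
  classical
  induction hn : z.coeff.support.card using Nat.strong_induction_on generalizing z with
  | _ n ih =>
    by_cases hz0 : z = 0
    · exact hz0 ▸ h0
    obtain ⟨g, hg⟩ : z.coeff.support.Nonempty :=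
      Finsupp.support_nonempty_iff.2 (by simpa using hz0)
    have hg' := Finsupp.mem_support_iff.1 hg
    have hgH : g ∈ H := hz.1 g hg'
    have hsm : z.coeff g • classSum F H g ∈ sub H H := Subalgebra.smul_mem _ (classSum_mem_sub hgH) _
    set w := z - z.coeff g • classSum F H g with hw
    have hcoeff : ∀ x, w.coeff x = if ∃ h ∈ H, h * g * h⁻¹ = x then 0 else z.coeff x := by
      intro x
      simp only [hw, MonoidAlgebra.coeff_sub, MonoidAlgebra.coeff_smul, Finsupp.sub_apply,
        Finsupp.smul_apply, classSum_coeff]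
      split_ifs with h
      · obtain ⟨h, hh, rfl⟩ := h
        rw [hz.2.coeff' hh g]
        simp
      · simp
    have hlt : w.coeff.support.card < n := by
      rw [← hn]
      refine Finset.card_lt_card ((Finset.ssubset_iff_of_subset ?_).2 ⟨g, hg, ?_⟩)
      · intro x hx
        rw [Finsupp.mem_support_iff, hcoeff] at hx
        rw [Finsupp.mem_support_iff]
        split_ifs at hx with h
        · exact absurd rfl hx
        · exact hx
      · rw [Finsupp.mem_support_iff, hcoeff, if_pos ⟨1, H.one_mem, by simp⟩]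
        simp
    have hwm : w ∈ sub H H := sub_mem hz hsm
    have hwK : motive w := ih _ hlt hwm (fun x hx hx0 => by
      rw [hcoeff] at hx0 ⊢
      split_ifs at hx0 ⊢ with h
      · exact absurd rfl hx0
      · exact hK x hx hx0) rfl
    have := hadd w _ hwm hsm hwK (hK g hgH hg')
    rwa [hw, sub_add_cancel] at this

theorem exists_class_omega_ne_zero [IsAlgClosed F] {H : Subgroup G} {e z : GA F G}
    (he : IsBlock H e) (hz : z ∈ sub H H) (h : omega H e z ≠ 0) :
    ∃ g ∈ H, z.coeff g ≠ 0 ∧ omega H e (classSum F H g) ≠ 0 := by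
  by_contra hc
  simp only [not_exists, not_and, not_not] at hc
  refine h (centre_induction (motive := fun w => omega H e w = 0) (omega_zero he)
    (fun a b ha hb ha0 hb0 => by rw [omega_add he ha hb, ha0, hb0, add_zero]) hz
    fun g hg hg0 => ?_)
  rw [omega_smul he (classSum_mem_sub hg), hc g hg hg0, mul_zero]

/-- Every p-subgroup of `H` at which `z` survives the Brauer map is conjugate into `D`. -/
def Dominated (p : ℕ) (H D : Subgroup G) (z : GA F G) : Prop :=
  ∀ R : Subgroup G, R ≤ H → IsPGroup p R → br R z ≠ 0 → ∃ h ∈ H, cj h R ≤ D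

/-- `D` is a defect group of `e` as a block of `H`. -/
def IsDefectGrp (p : ℕ) (H : Subgroup G) (e : GA F G) (D : Subgroup G) : Prop :=
  D ≤ H ∧ IsPGroup p D ∧ br D e ≠ 0 ∧ Dominated p H D e

variable {p : ℕ} [hp : Fact p.Prime] [CharP F p]

theorem Dominated.mul_right {H D : Subgroup G} {z w : GA F G} (hz : Dominated p H D z)
    (hzf : IsFixed H z) (hwf : IsFixed H w) : Dominated p H D (z * w) := by
  intro R hRH hR h
  refine hz R hRH hR fun h0 => h ?_
  rw [br_mul hR (hzf.mono hRH) (hwf.mono hRH), h0, zero_mul]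

theorem dominated_classSum {H D : Subgroup G} {g : G}
    (hD : ∀ R : Subgroup G, R ≤ H ⊓ Subgroup.centralizer ({g} : Set G) → IsPGroup p R →
      ∃ h ∈ H, cj h R ≤ D) : Dominated p H D (classSum F H g) := by
  classical
  intro R hRH hR h
  obtain ⟨x, hx⟩ : ∃ x, (br R (classSum F H g)).coeff x ≠ 0 := by
    by_contra hc
    simp only [not_exists, not_not] at hc
    exact h (ga_ext fun x => by simpa using hc x)
  have hxc : x ∈ Subgroup.centralizer (R : Set G) := isSupp_br R _ x hx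
  rw [br_coeff_mem R _ hxc, classSum_coeff] at hx
  obtain ⟨a, ha, rfl⟩ : ∃ a ∈ H, a * g * a⁻¹ = x := by
    by_contra hc
    exact hx (if_neg hc)
  obtain ⟨b, hb, hle⟩ := hD (cj a⁻¹ R) (by
    refine le_inf (cj_le_of_mem (H.inv_mem ha) hRH) fun u hu => ?_
    rw [mem_cj, inv_inv] at hu
    rw [Subgroup.mem_centralizer_singleton_iff]
    have := Subgroup.mem_centralizer_iff.1 hxc _ hu
    calc u * g = a⁻¹ * ((a * u * a⁻¹) * (a * g * a⁻¹)) * a := by group
      _ = a⁻¹ * ((a * g * a⁻¹) * (a * u * a⁻¹)) * a := by rw [this]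
      _ = g * u := by group) (isPGroup_cj _ hR)
  exact ⟨b * a⁻¹, H.mul_mem hb (H.inv_mem ha), by rwa [← cj_cj]⟩

theorem exists_sylow_le (C : Subgroup G) :
    ∃ D : Subgroup G, D ≤ C ∧ IsPGroup p D ∧
      ∀ R : Subgroup G, R ≤ C → IsPGroup p R → ∃ c ∈ C, cj c R ≤ D := by
  obtain ⟨S⟩ : Nonempty (Sylow p C) := inferInstance
  refine ⟨(S : Subgroup C).map C.subtype, Subgroup.map_subtype_le _, S.2.map _, fun R hRC hR => ?_⟩
  obtain ⟨T, hT⟩ := IsPGroup.exists_le_sylow (P := R.subgroupOf C)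
    (hR.of_equiv (Subgroup.subgroupOfEquivOfLe hRC).symm)
  obtain ⟨c, rfl⟩ := MulAction.exists_smul_eq C S T
  refine ⟨(c : G)⁻¹, C.inv_mem c.2, fun u hu => ?_⟩
  rw [mem_cj, inv_inv] at hu
  have huC : (c : G) * u * (c : G)⁻¹ ∈ C := hRC hu
  have h1 := hT (show (⟨_, huC⟩ : C) ∈ R.subgroupOf C from hu)
  rw [Sylow.coe_subgroup_smul, Subgroup.mem_pointwise_smul_iff_inv_smul_mem] at h1
  refine ⟨_, h1, ?_⟩
  simp [mul_assoc]

theorem exists_defectGrp_of_class [IsAlgClosed F] {H : Subgroup G} {e : GA F G} (he : IsBlock H e)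
    {g : G} (hg : g ∈ H) (hcoeff : e.coeff g ≠ 0) (hom : omega H e (classSum F H g) ≠ 0)
    {D : Subgroup G} (hD : D ≤ H ⊓ Subgroup.centralizer ({g} : Set G)) (hDp : IsPGroup p D)
    (hDmax : ∀ R : Subgroup G, R ≤ H ⊓ Subgroup.centralizer ({g} : Set G) → IsPGroup p R →
      ∃ h ∈ H, cj h R ≤ D) : IsDefectGrp p H e D := by
  refine ⟨hD.trans inf_le_left, hDp, fun h => hcoeff ?_, ?_⟩
  · have hgc : g ∈ Subgroup.centralizer (D : Set G) := Subgroup.mem_centralizer_iff.2
      fun u hu => (Subgroup.mem_centralizer_singleton_iff.1 (hD hu).2)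
    have := congrArg (fun a : GA F G => a.coeff g) h
    simpa [br_coeff_mem D e hgc] using this
  · obtain ⟨u, hu, hue⟩ := exists_inv_of_omega_ne_zero he (classSum_mem_sub hg) hom
    rw [← hue]
    exact (dominated_classSum hDmax).mul_right (classSum_mem_sub hg).2 hu.2

theorem exists_defectGrp [IsAlgClosed F] {H : Subgroup G} {e : GA F G} (he : IsBlock H e) :
    ∃ D, IsDefectGrp p H e D := by
  obtain ⟨g, hg, hcoeff, hom⟩ := exists_class_omega_ne_zero he he.mem
    (by rw [omega_self he]; exact one_ne_zero)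
  obtain ⟨D, hD, hDp, hmax⟩ := exists_sylow_le (p := p) (H ⊓ Subgroup.centralizer ({g} : Set G))
  exact ⟨D, exists_defectGrp_of_class he hg hcoeff hom hD hDp fun R hR hRp => by
    obtain ⟨c, hc, hle⟩ := hmax R hR hRp
    exact ⟨c, hc.1, hle⟩⟩

theorem IsDefectGrp.card_le {H : Subgroup G} {e : GA F G} {D R : Subgroup G}
    (hD : IsDefectGrp p H e D) (hR : R ≤ H) (hRp : IsPGroup p R) (h : br R e ≠ 0) :
    Nat.card R ≤ Nat.card D := by
  obtain ⟨x, -, hle⟩ := hD.2.2.2 R hR hRp h
  exact (card_cj x R).symm.le.trans (Subgroup.card_le_of_le hle)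

theorem IsDefectGrp.conj_of {H : Subgroup G} {e : GA F G} {D D' : Subgroup G}
    (hD : IsDefectGrp p H e D) (hD' : IsDefectGrp p H e D') : ∃ h ∈ H, cj h D' = D := by
  obtain ⟨x, hx, hle⟩ := hD.2.2.2 D' hD'.1 hD'.2.1 hD'.2.2.1
  refine ⟨x, hx, Subgroup.eq_of_le_of_card_ge hle ?_⟩
  rw [card_cj]
  exact hD'.card_le hD.1 hD.2.1 hD.2.2.1

theorem IsDefectGrp.cj {H : Subgroup G} {e : GA F G} {D : Subgroup G} (he : IsFixed H e)
    (hD : IsDefectGrp p H e D) {x : G} (hx : x ∈ H) : IsDefectGrp p H e (cj x D) := by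
  refine ⟨cj_le_of_mem hx hD.1, isPGroup_cj x hD.2.1, br_cj_ne_zero he hx hD.2.2.1, ?_⟩
  intro R hR hRp h
  obtain ⟨y, hy, hle⟩ := hD.2.2.2 R hR hRp h
  exact ⟨x * y, H.mul_mem hx hy, by rw [← cj_cj]; exact cj_mono x hle⟩

theorem IsDefectGrp.br_ne_zero_iff {H : Subgroup G} {e : GA F G} {D R : Subgroup G}
    (hD : IsDefectGrp p H e D) (he : IsFixed H e) (hR : R ≤ H) (hRp : IsPGroup p R) :
    br R e ≠ 0 ↔ ∃ h ∈ H, BlockPairs.cj h R ≤ D := by
  refine ⟨hD.2.2.2 R hR hRp, ?_⟩
  rintro ⟨x, hx, hle⟩ h0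
  refine br_cj_ne_zero he hx (R := BlockPairs.cj x⁻¹ D) ?_ ?_
  · exact fun h' => br_cj_ne_zero he (H.inv_mem hx) hD.2.2.1 h'
  · rw [cj_cj_inv]
    exact absurd (br_eq_zero_of_le (by rw [← cj_inv_cj x R]; exact cj_mono _ hle) h0)
      (br_cj_ne_zero he (H.inv_mem hx) hD.2.2.1)

theorem inf_centralizer_le_normalizer {H Q : Subgroup G} :
    H ⊓ Subgroup.centralizer (Q : Set G) ≤ Subgroup.normalizer (Q : Set G) :=
  inf_le_right.trans (Subgroup.centralizer_le_normalizer _)

/-- Idempotents of the centre are supported on the centralizer of a normal p-subgroup. -/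
theorem br_eq_self_of_normal {H Q : Subgroup G} {f : GA F G} (hQ : IsPGroup p Q) (hQH : Q ≤ H)
    (hN : H ≤ Subgroup.normalizer (Q : Set G)) (hf : f ∈ sub H H) (hff : f * f = f) :
    br Q f = f := by
  have hb : br Q f ∈ sub H H :=
    ⟨(isSupp_br_of hf.1).mono inf_le_left, isFixed_br hN hf.2⟩
  have hbb : br Q f * br Q f = br Q f := by
    rw [← br_mul hQ (hf.2.mono hQH) (hf.2.mono hQH), hff]
  have hbr : br Q (br Q f) = br Q f := br_br_of_le le_rfl f
  have hc := sub_comm hf hb
  have key : ∀ a b : GA F G, a ∈ sub H H → b ∈ sub H H → a * a = a → b * b = b →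
      br Q a = br Q b → a - a * b = 0 := by
    intro a b ha hb haa hbb hab
    have hm : a - a * b ∈ sub H H := sub_mem ha (mul_mem ha hb)
    refine eq_zero_of_br_eq_zero hQ hN hm.1 (hm.2.mono hQH) ?_ ?_
    · rw [mul_sub, sub_mul, sub_mul, haa]
      have h1 : a * b * a = a * b := by rw [mul_assoc, sub_comm hb ha, ← mul_assoc, haa]
      have h2 : a * (a * b) = a * b := by rw [← mul_assoc, haa]
      have h3 : a * b * (a * b) = a * b := by rw [← mul_assoc, h1, mul_assoc, hbb]
      rw [h1, h2, h3]; abel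
    · rw [br_sub, br_mul hQ (ha.2.mono hQH) (hb.2.mono hQH), ← hab,
        ← br_mul hQ (ha.2.mono hQH) (ha.2.mono hQH), haa, sub_self]
  have h1 := sub_eq_zero.1 (key f (br Q f) hf hb hff hbb hbr.symm)
  have h2 := sub_eq_zero.1 (key (br Q f) f hb hf hbb hff hbr)
  rw [h2, ← hc, ← h1]

theorem isSupp_centralizer_of_normal {H Q : Subgroup G} {f : GA F G} (hQ : IsPGroup p Q)
    (hQH : Q ≤ H) (hN : H ≤ Subgroup.normalizer (Q : Set G)) (hf : f ∈ sub H H) (hff : f * f = f) :
    IsSupp (H ⊓ Subgroup.centralizer (Q : Set G)) f := by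
  rw [← br_eq_self_of_normal hQ hQH hN hf hff]
  exact isSupp_br_of hf.1

/-- A normal p-subgroup lies in every defect group. -/
theorem IsDefectGrp.le_of_normal {H : Subgroup G} {e : GA F G} {D Q : Subgroup G}
    (hD : IsDefectGrp p H e D) (he : e ∈ sub H H) (hee : e * e = e) (hne : e ≠ 0)
    (hQ : IsPGroup p Q) (hQH : Q ≤ H) (hN : H ≤ Subgroup.normalizer (Q : Set G)) : Q ≤ D := by
  obtain ⟨x, hx, hle⟩ := hD.2.2.2 Q hQH hQ (by rwa [br_eq_self_of_normal hQ hQH hN he hee])
  rwa [cj_eq_self (hN hx)] at hle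

end Finite

end CfsgLib.BlockPairs
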