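import Cfsg.Agent.BlocksLocal.Covering
import Cfsg.Agent.OddOrderChar.Induced
import Cfsg.Agent.Blocks.Height

/-!
# Support of block idempotents in characteristic 0

If the idempotent of a block vanishes modulo `M` off a normal subgroup `K`, it vanishes there
exactly.
-/

set_option autoImplicit false
set_option linter.unusedSectionVars false
set_option linter.style.haveILetI false

namespace CfsgLib.BlockPairs

open Cfsg CfsgLib.Blocks
open scoped ComplexConjugate

universe u

variable {X : Type u} [Group X] [Fintype X] {M : Ideal AlgInt} [M.IsPrime]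

open Classical in
theorem blockCoeff_eq_zero_of_mem (K : Subgroup X) [K.Normal] [Fintype K]
    {E : Set (IrrCharacter X)} (hE : Cfsg.IsPBlock M E)
    (hs : ∀ g, g ∉ K → Cfsg.MemLocalIdeal M (Cfsg.blockCoeff E g)) {g : X} (hg : g ∉ K) :
    Cfsg.blockCoeff E g = 0 := by
  obtain ⟨χ, hχ⟩ := isPBlock_nonempty hE
  obtain ⟨θ, hθ⟩ := BlocksLocal.exists_constituent K χ
  have hc := isPBlock_blockOf (M := M) θ
  set A := BlocksLocal.coverSet K (Cfsg.blockOf M (θ : K → ℂ))
  have hU := isBlockUnion_of_isPBlock hE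
  set z := idemBar M E hU
  have hz : ∀ u : X, u ∉ K → (z : MonoidAlgebra (Res M) X).coeff u = 0 := fun u hu => by
    rw [coeff_idemBar]
    exact red_eq_zero_iff.2 (hs u hu)
  -- the members are the characters with constituents in the cover set
  have hin : ∀ φ ∈ E, ∀ ψ : IrrCharacter K,
      Cfsg.classInner (fun n : K => (φ : X → ℂ) n) (ψ : K → ℂ) ≠ 0 → ψ ∈ A := fun φ hφ ψ h =>
    BlocksLocal.mem_coverSet_of_covers K hE hc hχ (mem_blockOf_self θ) hθ hφ h
  have hout : ∀ φ : IrrCharacter X, φ ∉ E → ∀ ψ ∈ A,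
      Cfsg.classInner (fun n : K => (φ : X → ℂ) n) (ψ : K → ℂ) = 0 := by
    intro φ hφ ψ hψ
    by_contra h
    obtain ⟨x, θ', hθ', rfl⟩ := hψ
    rw [BlocksLocal.coe_conjIrr, CharactersDeep.Clifford.classInner_restrict_conjBy K
      (Characters.isClassFunction_of_isIrr φ.2)] at h
    have h1 := BlocksLocal.omegaBar_eq_of_covers K hθ z hz
    have h2 := BlocksLocal.omegaBar_eq_of_covers K h z hz
    rw [eq_blockOf_of_mem hc (mem_blockOf_self θ), mem_blockOf] at hθ'
    rw [← (sameBlock_iff θ θ').1 hθ', ← h1, omegaBar_idemBar, omegaBar_idemBar, if_pos hχ,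
      if_neg hφ] at h2
    exact zero_ne_one h2
  -- hence the idempotent is induced from `K`
  set η : K → ℂ := ∑ ψ ∈ A.toFinset, (ψ : K → ℂ) 1 • (ψ : K → ℂ)
  have hcoef : ∀ φ : IrrCharacter X, Cfsg.classInner (Cfsg.indFun K η) (φ : X → ℂ) =
      if φ ∈ E then (φ : X → ℂ) 1 else 0 := by
    intro φ
    have hr : Cfsg.IsClassFunction K (fun n : K => (φ : X → ℂ) n) := fun x y => by
      simpa using Characters.isClassFunction_of_isIrr φ.2 (x : X) (y : X)
    have hexp := congrFun (Characters.classFunction_expansion hr) 1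
    simp only [Finset.sum_apply, Pi.smul_apply, smul_eq_mul, Subgroup.coe_one] at hexp
    rw [Characters.classInner_indFun K η (Characters.isClassFunction_of_isIrr φ.2),
      Characters.classInner_sum_left]
    have hsym : ∀ ψ : IrrCharacter K,
        Cfsg.classInner ((ψ : K → ℂ) 1 • (ψ : K → ℂ)) (fun n : K => (φ : X → ℂ) n) =
          conj (Cfsg.classInner (fun n : K => (φ : X → ℂ) n) (ψ : K → ℂ) * (ψ : K → ℂ) 1) := by
      intro ψ
      rw [Characters.classInner_smul_left, map_mul, conj_one_irr, ← Characters.classInner_conj_symm,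
        mul_comm]
    simp only [hsym]
    rw [← map_sum]
    split_ifs with hφ
    · rw [Finset.sum_subset (Finset.subset_univ A.toFinset) fun ψ _ hψ => by
        rw [show Cfsg.classInner (fun n : K => (φ : X → ℂ) n) (ψ : K → ℂ) = 0 from
          not_not.1 fun h => hψ (Set.mem_toFinset.2 (hin φ hφ ψ h)), zero_mul]]
      rw [← hexp, conj_one_irr]
    · rw [Finset.sum_eq_zero fun ψ hψ => by rw [hout φ hφ ψ (Set.mem_toFinset.1 hψ), zero_mul],
        map_zero]
  have hind := congrFun (Characters.classFunction_expansion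
    (Characters.isClassFunction_indFun K η)) g
  rw [OddOrderChar.indFun_normal_eq_zero K η hg] at hind
  have h0 := congrArg conj hind
  simp only [Finset.sum_apply, Pi.smul_apply, smul_eq_mul, hcoef, map_zero, map_sum, map_mul] at h0
  rw [blockCoeff_eq_sum, mul_eq_zero]
  refine .inr (Eq.trans (Finset.sum_congr rfl fun φ _ => ?_) h0.symm)
  split_ifs
  · rw [conj_one_irr]
  · simp

end CfsgLib.BlockPairs
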