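import Cfsg.Agent.BlockPairs.Local
import Cfsg.Agent.Fusion.Sylow
import Cfsg.Agent.Fusion.Systems

/-!
# The fusion system of a block on a maximal pair

`Mor p P e Q g`: conjugation by `g` carries the pair on `Q` below `(P, e)` to a pair below `(P, e)`.
These maps form the saturated fusion system `blockSystem`; a subgroup is fully centralized
(fully normalized) exactly when `C_P(Q)` (resp. `N_P(Q)`) is a defect group of its block.
-/

set_option autoImplicit false
set_option linter.unusedSectionVars false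
set_option linter.style.haveILetI false

namespace CfsgLib.BlockPairs

open Cfsg.FusionSystem (centralizerIn normalizerIn extender)
open CfsgLib.Fusion (IsSylowIn)

variable {k : Type*} [Field k] {G : Type*} [Group G]

theorem le_normalizer_centralizer (Q : Subgroup G) :
    Subgroup.normalizer (Q : Set G) ≤
      Subgroup.normalizer ((Subgroup.centralizer (Q : Set G) : Subgroup G) : Set G) := fun x hx =>
  mem_normalizer_of_cj_eq (Subgroup.ext fun z => by rw [mem_cj_centralizer, cj_eq_self hx])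

theorem cj_eq_of_centralizer {Q : Subgroup G} {c : G}
    (hc : c ∈ Subgroup.centralizer (Q : Set G)) : cj c Q = Q :=
  cj_eq_self (Subgroup.centralizer_le_normalizer _ hc)

theorem relIndex_sup_of_le_normalizer {D C : Subgroup G}
    (h : D ≤ Subgroup.normalizer (C : Set G)) : C.relIndex (D ⊔ C) = C.relIndex D := by
  have hC : C ≤ Subgroup.normalizer (C : Set G) := Subgroup.le_normalizer
  haveI : (C.subgroupOf (Subgroup.normalizer (C : Set G))).Normal :=
    Subgroup.normal_in_normalizer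
  rw [← Subgroup.relIndex_subgroupOf (K := D ⊔ C) (sup_le h hC),
    ← Subgroup.relIndex_subgroupOf h, Subgroup.subgroupOf_sup h hC, Subgroup.relIndex_sup_right]

theorem card_le_card_of_inf_le [Finite G] {C D R : Subgroup G}
    (hD : D ≤ Subgroup.normalizer (C : Set G)) (hR : R ≤ D ⊔ C)
    (h : Nat.card (C ⊓ R : Subgroup G) ≤ Nat.card (C ⊓ D : Subgroup G)) :
    Nat.card R ≤ Nat.card D := by
  have key : ∀ K : Subgroup G, Nat.card K = Nat.card (C ⊓ K : Subgroup G) * C.relIndex K := fun K => by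
    rw [Subgroup.relIndex, ← (C.subgroupOf K).card_mul_index]
    congr 1
    rw [← Subgroup.inf_subgroupOf_right,
      Nat.card_congr (Subgroup.subgroupOfEquivOfLe (inf_le_right : C ⊓ K ≤ K)).toEquiv]
  rw [key R, key D, ← relIndex_sup_of_le_normalizer hD]
  refine Nat.mul_le_mul h (Subgroup.relIndex_le_of_le_right hR ?_)
  exact Subgroup.index_ne_zero_of_finite

variable [Finite G] {p : ℕ} [hp : Fact p.Prime] [CharP k p]

/-- Conjugation by `g` is a map with source `Q` of the fusion system on `(P, e)`. -/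
def Mor (p : ℕ) (P : Subgroup G) (e : GA k G) (Q : Subgroup G) (g : G) : Prop :=
  ∃ f, Le p ⊤ Q f P e ∧ Le p ⊤ (cj g Q) (conjA k g f) P e

variable {P Q : Subgroup G} {e f : GA k G}

theorem Mor.source_le {g : G} (h : Mor p P e Q g) : Q ≤ P :=
  h.choose_spec.1.subgroup_le

theorem Mor.target_le {g : G} (h : Mor p P e Q g) : cj g Q ≤ P :=
  h.choose_spec.2.subgroup_le

theorem mor_iff (hle : Le p ⊤ Q f P e) {g : G} :
    Mor p P e Q g ↔ Le p ⊤ (cj g Q) (conjA k g f) P e :=
  ⟨fun ⟨_, h1, h2⟩ => le_unique h1 hle ▸ h2, fun h => ⟨f, hle, h⟩⟩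

theorem Mor.of_mem (hPe : IsPair p ⊤ P e) {g : G} (hQ : Q ≤ P) (hg : g ∈ P) :
    Mor p P e Q g := by
  obtain ⟨f, -, hle⟩ := exists_below hPe hQ
  refine ⟨f, hle, ?_⟩
  have := hle.conjA (x := g) trivial
  rwa [cj_eq_self (Subgroup.le_normalizer hg), hPe.fixed_self g hg] at this

theorem Mor.mono (hPe : IsPair p ⊤ P e) {R : Subgroup G} {g : G} (h : Mor p P e Q g) (hR : R ≤ Q) :
    Mor p P e R g := by
  obtain ⟨f, hle, hle'⟩ := h
  obtain ⟨f', -, hle2⟩ := exists_below hPe (hR.trans hle.subgroup_le)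
  obtain ⟨g', hg', h1, h2⟩ := hle2.split hPe hR hle.subgroup_le
  obtain rfl := le_unique hle h2
  exact ⟨f', hle2, (h1.conjA (x := g) trivial).trans' hle'⟩

theorem Mor.comp (hPe : IsPair p ⊤ P e) {g h : G} {R : Subgroup G} (hg : Mor p P e Q g)
    (hh : Mor p P e R h) (hle : cj g Q ≤ R) : Mor p P e Q (h * g) := by
  obtain ⟨f, hf, hf'⟩ := hg
  obtain ⟨u, hu, hu'⟩ := hh.mono hPe hle
  obtain rfl := le_unique hu hf'
  rw [cj_cj, conjA_conjA] at hu'
  exact ⟨f, hf, hu'⟩

theorem Mor.inv {g : G} (h : Mor p P e Q g) : Mor p P e (cj g Q) g⁻¹ := by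
  obtain ⟨f, hf, hf'⟩ := h
  exact ⟨_, hf', by rwa [cj_inv_cj, conjA_inv]⟩

theorem Mor.mul_cent {g c : G} (h : Mor p P e Q g)
    (hc : c ∈ Subgroup.centralizer (Q : Set G)) (hQf : IsPair p ⊤ Q f) (hle : Le p ⊤ Q f P e) :
    Mor p P e Q (g * c) := by
  rw [mor_iff hle, ← cj_cj, cj_eq_of_centralizer hc, ← conjA_conjA,
    hQf.2.2.fixed c ⟨trivial, hc⟩]
  exact (mor_iff hle).1 h

theorem range_eq_cj {φ : Q →* G} {g : G} (h : ∀ u : Q, φ u = g * (u : G) * g⁻¹) :
    φ.range = cj g Q := by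
  ext y
  rw [MonoidHom.mem_range, mem_cj]
  constructor
  · rintro ⟨u, rfl⟩
    rw [h u]
    simp [mul_assoc]
  · intro hy
    exact ⟨⟨_, hy⟩, by rw [h]; group⟩

/-- The fusion system of a block on its maximal pair `(P, e)`. -/
def blockSystem (hPe : IsPair p ⊤ P e) : Cfsg.FusionSystem P where
  Hom Q := {φ | ∃ g, Mor p P e Q g ∧ ∀ u : Q, φ u = g * (u : G) * g⁻¹}
  le_of_mem := by
    rintro Q φ ⟨g, hg, hφ⟩
    exact ⟨hg.source_le, fun u => hg.target_le (mem_cj.2 (by rw [hφ]; simp [mul_assoc]))⟩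
  injective_of_mem := by
    rintro Q φ ⟨g, -, hφ⟩ a b hab
    rw [hφ, hφ] at hab
    exact Subtype.ext (mul_left_cancel (mul_right_cancel hab))
  conj_mem := fun {Q g} hQ hg => ⟨g, Mor.of_mem hPe hQ hg, fun u => rfl⟩
  comp_mem := by
    rintro Q R φ ψ ⟨g, hg, hφ⟩ ⟨h, hh, hψ⟩ hle
    refine ⟨h * g, hg.comp hPe hh fun y hy => ?_, fun u => ?_⟩
    · rw [← range_eq_cj hφ] at hy
      obtain ⟨u, rfl⟩ := hy
      exact hle u
    · show ψ (φ.codRestrict R hle u) = _
      rw [hψ]
      show h * φ u * h⁻¹ = _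
      rw [hφ]
      group
  inv_mem := by
    rintro Q φ ⟨g, hg, hφ⟩
    refine ⟨Cfsg.conjHom φ.range g⁻¹, ⟨g⁻¹, ?_, fun u => rfl⟩, fun u => ?_⟩
    · rw [range_eq_cj hφ]
      exact hg.inv
    · show g⁻¹ * φ u * g⁻¹⁻¹ = _
      rw [hφ]
      group

variable {hPe : IsPair p ⊤ P e}

theorem mem_blockSystem {φ : Q →* G} :
    φ ∈ (blockSystem hPe).Hom Q ↔ ∃ g, Mor p P e Q g ∧ ∀ u : Q, φ u = g * (u : G) * g⁻¹ :=
  Iff.rfl

theorem isConj_iff_mor {R : Subgroup G} :
    (blockSystem hPe).IsConj Q R ↔ ∃ g, Mor p P e Q g ∧ cj g Q = R := by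
  constructor
  · rintro ⟨φ, ⟨g, hg, hφ⟩, rfl⟩
    exact ⟨g, hg, (range_eq_cj hφ).symm⟩
  · rintro ⟨g, hg, rfl⟩
    exact ⟨Cfsg.conjHom Q g, ⟨g, hg, fun u => rfl⟩, range_eq_cj fun u => rfl⟩

/-- A map carrying `Q` to itself comes from the stabilizer of its block. -/
theorem mor_self_iff (hle : Le p ⊤ Q f P e) {g : G} (hN : g ∈ Subgroup.normalizer (Q : Set G)) :
    Mor p P e Q g ↔ g ∈ stab ⊤ Q f := by
  rw [mor_iff hle, cj_eq_self hN, mem_stab]
  constructor
  · exact fun h => ⟨⟨trivial, hN⟩, le_unique h hle⟩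
  · rintro ⟨-, h⟩
    rw [h]
    exact hle

theorem exists_stab_of_mem_autGroup (hle : Le p ⊤ Q f P e) {α : MulAut Q}
    (hα : α ∈ (blockSystem hPe).autGroup Q) :
    ∃ g ∈ stab ⊤ Q f, ∀ x : Q, (α x : G) = g * (x : G) * g⁻¹ := by
  obtain ⟨g, hg, h⟩ := (CfsgLib.Fusion.mem_autGroup_iff hle.subgroup_le).1 hα
  have hN : g ∈ Subgroup.normalizer (Q : Set G) := by
    refine mem_normalizer_of_cj_eq ?_
    rw [← range_eq_cj h]
    exact CfsgLib.Fusion.range_subtype_comp α
  exact ⟨g, (mor_self_iff hle hN).1 hg, h⟩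

theorem mem_autGroup_of_stab (hle : Le p ⊤ Q f P e) {g : G} (hg : g ∈ stab ⊤ Q f) :
    Q.normalizerMonoidHom ⟨g, stab_le_normalizer hg⟩ ∈ (blockSystem hPe).autGroup Q :=
  (CfsgLib.Fusion.mem_autGroup_iff hle.subgroup_le).2
    ⟨g, (mor_self_iff hle (stab_le_normalizer hg)).2 hg, fun _ => rfl⟩

variable [IsAlgClosed k] {b : GA k G}

theorem mem_blockHas_of_le (hb : IsBlock (⊤ : Subgroup G) b) (hmax : IsMaxPair p ⊤ b P e)
    (hle : Le p ⊤ Q f P e) : IsPair p ⊤ Q f ∧ BlockHas p ⊤ b Q f := by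
  obtain ⟨f', hf', hle'⟩ := exists_below hmax.1.1 hle.subgroup_le
  obtain rfl := le_unique hle' hle
  exact ⟨hf', (blockHas_iff_of_le hb hle hf').2 hmax.1⟩

theorem le_pair (hPe : IsPair p ⊤ P e) (hle : Le p ⊤ Q f P e) : IsPair p ⊤ Q f := by
  obtain ⟨f', hf', hle'⟩ := exists_below hPe hle.subgroup_le
  obtain rfl := le_unique hle' hle
  exact hf'

theorem isBlock_centralizer (h : IsPair p ⊤ Q f) :
    IsBlock (Subgroup.centralizer (Q : Set G)) f := by
  have := h.2.2
  rwa [cent, top_inf_eq] at this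

theorem centralizer_le_stab (h : IsPair p ⊤ Q f) :
    Subgroup.centralizer (Q : Set G) ≤ stab ⊤ Q f := by
  have := h.cent_le_stab
  rwa [cent, top_inf_eq] at this

theorem cj_centralizer_eq (x : G) (Q : Subgroup G) :
    cj x (Subgroup.centralizer (Q : Set G)) = Subgroup.centralizer ((cj x Q : Subgroup G) : Set G) :=
  Subgroup.ext fun _ => mem_cj_centralizer

theorem isFullyCentralized_iff (hb : IsBlock (⊤ : Subgroup G) b) (hmax : IsMaxPair p ⊤ b P e)
    (hle : Le p ⊤ Q f P e) :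
    (blockSystem hmax.1.1).IsFullyCentralized Q ↔
      IsDefectGrp p (Subgroup.centralizer (Q : Set G)) f
        (P ⊓ Subgroup.centralizer (Q : Set G)) := by
  have hQf := le_pair hmax.1.1 hle
  constructor
  · intro hfc
    obtain ⟨x, hx, hD⟩ := exists_conj_centralizer_defect hb hmax hle hQf
    have hcard := hfc.2 _ (isConj_iff_mor.2 ⟨x, (mor_iff hle).2 hx, rfl⟩)
    obtain ⟨D, hD', hleD⟩ := centralizer_part_le_defect hmax hle hQf
    have hDx := hD'.conjA x
    rw [cj_centralizer_eq] at hDx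
    obtain ⟨y, -, hy⟩ := hD.conj_of hDx
    have : Nat.card D ≤ Nat.card (P ⊓ Subgroup.centralizer (Q : Set G) : Subgroup G) := by
      rw [← card_cj x D, ← card_cj y (cj x D), hy]
      exact hcard
    rwa [Subgroup.eq_of_le_of_card_ge hleD this]
  · intro hd
    refine ⟨hle.subgroup_le, fun R hR => ?_⟩
    obtain ⟨g, hg, rfl⟩ := isConj_iff_mor.1 hR
    have hd' := hd.conjA g
    rw [cj_centralizer_eq] at hd'
    refine le_of_le_of_eq (hd'.card_le inf_le_right (hmax.1.1.2.1.to_le inf_le_left)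
      (le_centralizer_part hmax ((mor_iff hle).1 hg))) (card_cj _ _)

theorem isFullyNormalized_iff (hb : IsBlock (⊤ : Subgroup G) b) (hmax : IsMaxPair p ⊤ b P e)
    (hle : Le p ⊤ Q f P e) :
    (blockSystem hmax.1.1).IsFullyNormalized Q ↔
      IsDefectGrp p (stab ⊤ Q f) f (P ⊓ Subgroup.normalizer (Q : Set G)) := by
  have hQf := le_pair hmax.1.1 hle
  constructor
  · intro hfn
    obtain ⟨x, hx, hD⟩ := exists_conj_normalizer_defect hb hmax hle hQf
    have hcard := hfn.2 _ (isConj_iff_mor.2 ⟨x, (mor_iff hle).2 hx, rfl⟩)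
    obtain ⟨D, hD', hleD⟩ := normalizer_part_le_defect hmax hle hQf
    have hDx := hD'.conjA x
    rw [stab_conj] at hDx
    obtain ⟨y, -, hy⟩ := hD.conj_of hDx
    have : Nat.card D ≤ Nat.card (P ⊓ Subgroup.normalizer (Q : Set G) : Subgroup G) := by
      rw [← card_cj x D, ← card_cj y (cj x D), hy]
      exact hcard
    rwa [Subgroup.eq_of_le_of_card_ge hleD this]
  · intro hd
    refine ⟨hle.subgroup_le, fun R hR => ?_⟩
    obtain ⟨g, hg, rfl⟩ := isConj_iff_mor.1 hR
    have hd' := hd.conjA g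
    rw [stab_conj] at hd'
    have h2 := le_normalizer_part hmax ((mor_iff hle).1 hg)
    exact le_of_le_of_eq (hd'.card_le h2.1 (hmax.1.1.2.1.to_le inf_le_left) h2.2) (card_cj _ _)

/-- Pairs of a subgroup `H ⊇ C(Q)` above `Q` are pairs of the whole group. -/
theorem Le.to_top {H S T : Subgroup G} {s t : GA k G} (hC : Subgroup.centralizer (Q : Set G) ≤ H)
    (hQS : Q ≤ S) (h : Le p H S s T t) : Le p ⊤ S s T t := by
  suffices ∀ a c : Subgroup G × GA k G, Relation.ReflTransGen (Step p H) a c → Q ≤ a.1 →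
      Relation.ReflTransGen (Step p ⊤) a c ∧ Q ≤ c.1 from (this _ _ h hQS).1
  intro a c hac ha
  induction hac with
  | refl => exact ⟨Relation.ReflTransGen.refl, ha⟩
  | @tail x y _ hs ih =>
    obtain ⟨h1, hQx⟩ := ih
    have hpair : ∀ {U : Subgroup G} {u : GA k G}, Q ≤ U → IsPair p H U u → IsPair p ⊤ U u := by
      intro U u hQU hU
      refine ⟨le_top, hU.2.1, ?_⟩
      have := hU.2.2
      rwa [cent, inf_eq_right.2 ((Subgroup.centralizer_le (SetLike.coe_subset_coe.2 hQU)).trans hC),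
        ← top_inf_eq (Subgroup.centralizer (U : Set G))] at this
    exact ⟨h1.tail ⟨hpair hQx hs.1, hpair (hQx.trans hs.2.2.1) hs.2.1, hs.2.2⟩,
      hQx.trans hs.2.2.1⟩

theorem IsPair.of_top {H : Subgroup G} (hQH : Q ≤ H) (hC : Subgroup.centralizer (Q : Set G) ≤ H)
    (h : IsPair p ⊤ Q f) : IsPair p H Q f :=
  ⟨hQH, h.2.1, by rw [cent, inf_eq_right.2 hC]; exact isBlock_centralizer h⟩

/-- Extension of maps onto a subgroup with `C_P(Q)` a defect group of its block. -/
theorem exists_extension (hb : IsBlock (⊤ : Subgroup G) b) (hmax : IsMaxPair p ⊤ b P e)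
    (hle : Le p ⊤ Q f P e) (hd : IsDefectGrp p (Subgroup.centralizer (Q : Set G)) f
      (P ⊓ Subgroup.centralizer (Q : Set G))) {R : Subgroup G} {g : G} (hg : Mor p P e R g)
    (hgR : cj g R = Q) {N : Subgroup G} (hRN : R ≤ N) (hNP : N ≤ P)
    (hN : N ≤ Subgroup.normalizer (R : Set G))
    (hact : ∀ u ∈ N, g * u * g⁻¹ ∈
      (P ⊓ Subgroup.normalizer (Q : Set G)) ⊔ Subgroup.centralizer (Q : Set G)) :
    ∃ c ∈ Subgroup.centralizer (Q : Set G), Mor p P e N (c * g) := by
  set C := Subgroup.centralizer (Q : Set G) with hCdef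
  set D := P ⊓ Subgroup.normalizer (Q : Set G) with hDdef
  set H := D ⊔ C with hHdef
  have hPe := hmax.1.1
  have hQf := le_pair hPe hle
  have hQD : Q ≤ D := le_inf hle.subgroup_le Subgroup.le_normalizer
  have hQH : Q ≤ H := hQD.trans le_sup_left
  have hCH : C ≤ H := le_sup_right
  have hHstab : H ≤ stab ⊤ Q f :=
    sup_le (le_normalizer_part hmax hle).1 (centralizer_le_stab hQf)
  have hblkH : IsBlock H f :=
    block_of_le_stab hQf hQH (by rw [cent, top_inf_eq]; exact hCH) hHstab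
  have hDC : D ≤ Subgroup.normalizer (C : Set G) :=
    inf_le_right.trans (le_normalizer_centralizer Q)
  have hdefH : IsDefectGrp p H f D := by
    refine isDefectGrp_of_card hblkH le_sup_left (hPe.2.1.to_le inf_le_left)
      (le_normalizer_part hmax hle).2 fun S hS hSp hne => card_le_card_of_inf_le hDC hS ?_
    refine (hd.card_le inf_le_left (hSp.to_le inf_le_right) fun h0 =>
      hne (br_eq_zero_of_le inf_le_right h0)).trans (Subgroup.card_le_of_le ?_)
    exact le_inf inf_le_right (le_inf inf_le_left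
      (inf_le_right.trans (Subgroup.centralizer_le_normalizer _)))
  obtain ⟨eD, hsD, hlD⟩ := step_of_le hle hPe hQD inf_le_left inf_le_right
  have hpairH : ∀ {U : Subgroup G} {u : GA k G}, Q ≤ U → U ≤ H → IsPair p ⊤ U u →
      IsPair p H U u := fun {U u} hQU hUH hU => hU.of_top hUH
    ((Subgroup.centralizer_le (SetLike.coe_subset_coe.2 hQU)).trans hCH)
  have hmaxH : IsMaxPair p H f D eD :=
    isMaxPair_of_defect hdefH ⟨hpairH hQD le_sup_left hsD.2.1, hsD.2.2.2.2.2⟩
  -- the pair carried over by `g`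
  obtain ⟨fR, hfR, hfR'⟩ := hg
  obtain ⟨eN, hsN, hlN⟩ := step_of_le hfR hPe hRN hNP hN
  rw [hgR] at hfR'
  obtain rfl := le_unique hfR' hle
  have hl1 : Le p ⊤ Q (conjA k g fR) (cj g N) (conjA k g eN) := by
    have := (Le.of_step hsN).conjA (x := g) trivial
    rwa [hgR] at this
  have hQN : Q ≤ cj g N := hgR ▸ cj_mono g hRN
  obtain ⟨e', hs', hl'⟩ := step_of_le hl1 (hsN.2.1.conjA trivial) hQN le_rfl
    (by rw [← hgR]; exact cj_normalizer_le hN g)
  obtain rfl := le_unique hl' Le.refl'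
  have hNH : cj g N ≤ H := fun y hy => by
    have := hact _ (mem_cj.1 hy)
    simpa [mul_assoc] using this
  obtain ⟨x, hx, hlx⟩ := exists_conj_le hblkH hmaxH
    ⟨hpairH hQN hNH hs'.2.1, hs'.2.2.2.2.2⟩
  rw [hHdef, ← SetLike.mem_coe, Subgroup.coe_mul_of_left_le_normalizer_right _ _ hDC] at hx
  obtain ⟨d, hd', c, hc, rfl⟩ := Set.mem_mul.1 hx
  have hcQ : cj c Q = Q := cj_eq_of_centralizer hc
  have hlc : Le p ⊤ (cj (c * g) N) (conjA k (c * g) eN) P e := by
    have h1 := hlx.conjA (x := d⁻¹) (H.inv_mem (le_sup_left (a := D) (b := C) hd'))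
    rw [cj_eq_self (Subgroup.le_normalizer (D.inv_mem hd')), hsD.2.1.fixed_self _ (D.inv_mem hd'),
      cj_cj, cj_cj, conjA_conjA, conjA_conjA, ← mul_assoc d⁻¹, inv_mul_cancel, one_mul] at h1
    refine (h1.to_top hCH ?_).trans' hlD
    rw [← cj_cj, ← hcQ]
    exact cj_mono c hQN
  exact ⟨c, hc, eN, hlN, hlc⟩

theorem isReceptive_of_defect (hb : IsBlock (⊤ : Subgroup G) b) (hmax : IsMaxPair p ⊤ b P e)
    (hle : Le p ⊤ Q f P e) (hd : IsDefectGrp p (Subgroup.centralizer (Q : Set G)) f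
      (P ⊓ Subgroup.centralizer (Q : Set G))) : (blockSystem hmax.1.1).IsReceptive Q := by
  refine ⟨hle.subgroup_le, fun R φ hφ hr => ?_⟩
  obtain ⟨g, hg, hφg⟩ := hφ
  have hgR : cj g R = Q := (range_eq_cj hφg).symm.trans hr
  have hRP := hg.source_le
  have hN := CfsgLib.Fusion.extender_le_normalizerIn (S := P) φ
  obtain ⟨c, hc, hmor⟩ := exists_extension hb hmax hle hd hg hgR
    (N := extender P R φ) (CfsgLib.Fusion.le_extender hRP fun x => hle.subgroup_le (hr ▸ ⟨x, rfl⟩))
    (hN.trans inf_le_left) (hN.trans inf_le_right) fun u hu => by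
      obtain ⟨-, huN, h, hhP, hh⟩ := CfsgLib.Fusion.mem_extender_iff.1 hu
      have key : ∀ q ∈ Q, g * u * g⁻¹ * q * (g * u * g⁻¹)⁻¹ = h * q * h⁻¹ := by
        intro q hq
        rw [← hgR, mem_cj] at hq
        have := hh ⟨_, hq⟩ ((Subgroup.mem_normalizer_iff.1 huN _).1 hq)
        rw [hφg, hφg] at this
        simpa [mul_assoc] using this
      have hc : h⁻¹ * (g * u * g⁻¹) ∈ Subgroup.centralizer (Q : Set G) := by
        refine Subgroup.mem_centralizer_iff.2 fun q hq => ?_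
        have h2 := key q hq
        rw [mul_inv_eq_iff_eq_mul] at h2
        calc q * (h⁻¹ * (g * u * g⁻¹)) = h⁻¹ * (h * q * h⁻¹ * (g * u * g⁻¹)) := by group
          _ = h⁻¹ * (g * u * g⁻¹ * q) := by rw [← h2]
          _ = h⁻¹ * (g * u * g⁻¹) * q := by group
      have hgu : cj (g * u * g⁻¹) Q = Q := by
        conv_lhs => rw [← hgR, cj_cj, inv_mul_cancel_right, ← cj_cj, cj_eq_self huN, hgR]
      have hhN : h ∈ Subgroup.normalizer (Q : Set G) := by
        have := mul_mem (mem_normalizer_of_cj_eq hgu)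
          (inv_mem (Subgroup.centralizer_le_normalizer _ hc))
        simpa [mul_assoc] using this
      have := mul_mem (Subgroup.mem_sup_left (Subgroup.mem_inf.2 ⟨hhP, hhN⟩) :
          h ∈ (P ⊓ Subgroup.normalizer (Q : Set G)) ⊔ Subgroup.centralizer (Q : Set G))
        (Subgroup.mem_sup_right hc)
      simpa [mul_assoc] using this
  refine ⟨Cfsg.conjHom _ (c * g), ⟨c * g, hmor, fun u => rfl⟩, fun x hx hxN => ?_⟩
  show c * g * x * (c * g)⁻¹ = _
  rw [hφg]
  have hq : g * x * g⁻¹ ∈ Q := hgR ▸ mem_cj.2 (by simpa [mul_assoc] using hx)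
  calc c * g * x * (c * g)⁻¹ = c * (g * x * g⁻¹) * c⁻¹ := by group
    _ = g * x * g⁻¹ * c * c⁻¹ := by rw [Subgroup.mem_centralizer_iff.1 hc _ hq]
    _ = g * x * g⁻¹ := by group

theorem isReceptive_of_fullyCentralized (hb : IsBlock (⊤ : Subgroup G) b)
    (hmax : IsMaxPair p ⊤ b P e) (h : (blockSystem hmax.1.1).IsFullyCentralized Q) :
    (blockSystem hmax.1.1).IsReceptive Q := by
  obtain ⟨f, -, hle⟩ := exists_below hmax.1.1 h.1
  exact isReceptive_of_defect hb hmax hle ((isFullyCentralized_iff hb hmax hle).1 h)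

theorem fullyCentralized_of_fullyNormalized (hb : IsBlock (⊤ : Subgroup G) b)
    (hmax : IsMaxPair p ⊤ b P e) (h : (blockSystem hmax.1.1).IsFullyNormalized Q) :
    (blockSystem hmax.1.1).IsFullyCentralized Q := by
  obtain ⟨f, -, hle⟩ := exists_below hmax.1.1 h.1
  refine (isFullyCentralized_iff hb hmax hle).2 ?_
  have hQf := le_pair hmax.1.1 hle
  have hd := (isFullyNormalized_iff hb hmax hle).1 h
  refine isDefectGrp_of_card (isBlock_centralizer hQf) inf_le_right
    (hmax.1.1.2.1.to_le inf_le_left) (le_centralizer_part hmax hle) fun S hS hSp hne => ?_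
  obtain ⟨y, hy, hyS⟩ := hd.2.2.2 S (hS.trans (centralizer_le_stab hQf)) hSp hne
  refine (card_cj y S).symm.le.trans (Subgroup.card_le_of_le (le_inf (hyS.trans inf_le_left) ?_))
  have := cj_mono y hS
  rwa [cj_centralizer_eq, cj_eq_self (stab_le_normalizer hy)] at this

/-- `Aut_P(P)` is a Sylow subgroup of the automizer of `P`. -/
theorem isFullyAutomized_top (hb : IsBlock (⊤ : Subgroup G) b) (hmax : IsMaxPair p ⊤ b P e) :
    (blockSystem hmax.1.1).IsFullyAutomized p P := by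
  have hPe := hmax.1.1
  have hPp := hPe.2.1
  refine CfsgLib.Fusion.isFullyAutomized_of_maximal le_rfl
    (CfsgLib.Fusion.isPGroup_autInducedBy hPp P) fun X hXF hX hleX => ?_
  set T := stab ⊤ P e with hT
  set C := Subgroup.centralizer (P : Set G) with hC
  set N := Subgroup.normalizer (P : Set G) with hN
  set φ : N →* MulAut P := P.normalizerMonoidHom with hφ
  have hTN : T ≤ N := stab_le_normalizer
  have heT : IsBlock T e := block_stabilizer hPe
  have heC : IsBlock C e := isBlock_centralizer hPe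
  have hd : IsDefectGrp p T e P := hmax.defect_stab hb
  -- a p-subgroup of the stabilizer mapping onto `X`
  set L : Subgroup N := T.subgroupOf N ⊓ X.comap φ with hL
  let f : L →* X := (φ.comp L.subtype).codRestrict X fun u => u.2.2
  have hf : Function.Surjective f := by
    rintro ⟨α, hα⟩
    obtain ⟨g, hg, hαg⟩ := exists_stab_of_mem_autGroup Le.refl' (hXF hα)
    have : φ ⟨g, hTN hg⟩ = α := MulEquiv.ext fun x => Subtype.ext (hαg x).symm
    exact ⟨⟨⟨g, hTN hg⟩, hg, show φ ⟨g, hTN hg⟩ ∈ X from this.symm ▸ hα⟩, Subtype.ext this⟩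
  obtain ⟨R⟩ := (inferInstance : Nonempty (Sylow p L))
  have hfR : (R : Subgroup L).map f = ⊤ := by
    have := (R.mapSurjective hf).is_maximal' (Q := ⊤) (hX.of_equiv Subgroup.topEquiv.symm) le_top
    rw [← Sylow.coe_mapSurjective hf, ← this]
  set U : Subgroup G := (R : Subgroup L).map (N.subtype.comp L.subtype) with hU
  have hUT : U ≤ T := by
    rintro _ ⟨u, -, rfl⟩
    exact u.2.1
  obtain ⟨g, hgT, hg0, hom⟩ := exists_class_omega_ne_zero heT heT.mem
    (by rw [omega_self heT]; exact one_ne_zero)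
  have hgC : g ∈ C := heC.supp g hg0
  obtain ⟨t, ht, -, hfix⟩ := exists_fixed_class heC heT (hTN.trans (le_normalizer_centralizer P))
    hgC hgT (centralizer_le_stab hPe) hUT (R.isPGroup'.map _) hom
  set y := t * g * t⁻¹ with hy
  have hy0 : e.coeff y ≠ 0 := by
    rw [hy]
    have := heT.fixed.coeff' ht g
    rw [this]
    exact hg0
  -- the centralizer of `y` in the stabilizer maps onto a group containing `X`
  set H : Subgroup N := T.subgroupOf N ⊓ (Subgroup.centralizer ({y} : Set G)).subgroupOf N with hH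
  have hXH : X ≤ (φ.comp H.subtype).range := by
    intro α hα
    obtain ⟨u, hu, huα⟩ : (⟨α, hα⟩ : X) ∈ (R : Subgroup L).map f := hfR ▸ Subgroup.mem_top _
    have huU : ((u : N) : G) ∈ U := ⟨u, hu, rfl⟩
    obtain ⟨c, hc, hcu⟩ := hfix _ huU
    have hcN : c ∈ N := Subgroup.centralizer_le_normalizer _ hc
    refine ⟨⟨⟨c, hcN⟩⁻¹ * (u : N), ?_, ?_⟩, ?_⟩
    · exact (T.mul_mem (T.inv_mem (centralizer_le_stab hPe hc)) u.2.1 : c⁻¹ * ((u : N) : G) ∈ T)
    · exact (Subgroup.mem_centralizer_singleton_iff.2 hcu :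
        c⁻¹ * ((u : N) : G) ∈ Subgroup.centralizer ({y} : Set G))
    · show φ (⟨c, hcN⟩⁻¹ * (u : N)) = α
      have h1 : φ ⟨c, hcN⟩ = 1 := by
        rw [← MonoidHom.mem_ker, hφ, Subgroup.normalizerMonoidHom_ker, Subgroup.mem_subgroupOf]
        exact hc
      rw [map_mul, map_inv, h1, inv_one, one_mul]
      exact congrArg Subtype.val huα
  obtain ⟨K, hKH, hKp, hK⟩ := CfsgLib.Fusion.exists_isSylowIn p H
  have hKP : ∀ u ∈ K, (u : G) ∈ P := by
    intro u hu
    have hKG : K.map N.subtype ≤ T := by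
      rintro _ ⟨v, hv, rfl⟩
      exact (hKH hv).1
    obtain ⟨s, hs, hsP⟩ := hd.2.2.2 _ hKG (hKp.map _) fun h0 => hy0 (by
      have hyK : y ∈ Subgroup.centralizer ((K.map N.subtype : Subgroup G) : Set G) := by
        refine Subgroup.mem_centralizer_iff.2 ?_
        rintro _ ⟨v, hv, rfl⟩
        exact Subgroup.mem_centralizer_singleton_iff.1 (hKH hv).2
      have := congrArg (fun a : GA k G => a.coeff y) h0
      simpa [br_coeff_mem _ e hyK] using this)
    have h1 : (u : G) ∈ cj s⁻¹ P :=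
      (cj_inv_cj s (K.map N.subtype) ▸ cj_mono s⁻¹ hsP) ⟨u, hu, rfl⟩
    rwa [cj_eq_self (N.inv_mem (hTN hs))] at h1
  refine (Subgroup.eq_of_le_of_card_ge hleX ?_).symm
  refine ((hK.map_hom (φ.comp H.subtype)).card_le (Subgroup.map_le_range _ _) hXH hX).trans
    (Subgroup.card_le_of_le ?_)
  rintro _ ⟨u, hu, rfl⟩
  exact CfsgLib.Fusion.mem_autInducedBy_iff.2 ⟨(u : N), hKP _ hu, (u : N).2, fun x => rfl⟩

/-- The fusion system of a block is saturated. -/
theorem isSaturated_blockSystem (hb : IsBlock (⊤ : Subgroup G) b) (hmax : IsMaxPair p ⊤ b P e) :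
    (blockSystem hmax.1.1).IsSaturated p :=
  CfsgLib.Fusion.isSaturated_of_receptive hmax.1.1.2.1 (isFullyAutomized_top hb hmax)
    fun _ h => isReceptive_of_fullyCentralized hb hmax (fullyCentralized_of_fullyNormalized hb hmax h)

/-- A subgroup is centric exactly when its centre is a defect group of its block. -/
theorem isCentric_iff (hb : IsBlock (⊤ : Subgroup G) b) (hmax : IsMaxPair p ⊤ b P e)
    (hle : Le p ⊤ Q f P e) :
    (blockSystem hmax.1.1).IsCentric Q ↔
      IsDefectGrp p (Subgroup.centralizer (Q : Set G)) f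
        (Q ⊓ Subgroup.centralizer (Q : Set G)) := by
  have hQf := le_pair hmax.1.1 hle
  have hcj : ∀ (x : G) (A B : Subgroup G), cj x (A ⊓ B) = cj x A ⊓ cj x B := fun x A B =>
    Subgroup.map_inf _ _ _ (MulAut.conj x).injective
  constructor
  · intro hc
    obtain ⟨x, hx, hD⟩ := exists_conj_centralizer_defect hb hmax hle hQf
    have hconj : (blockSystem hmax.1.1).IsConj Q (cj x Q) := isConj_iff_mor.2 ⟨x, (mor_iff hle).2 hx, rfl⟩
    have h1 : P ⊓ Subgroup.centralizer ((cj x Q : Subgroup G) : Set G) =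
        cj x Q ⊓ Subgroup.centralizer ((cj x Q : Subgroup G) : Set G) :=
      le_antisymm (le_inf (hc.2 _ hconj) inf_le_right) (inf_le_inf_right _ hx.subgroup_le)
    rw [h1] at hD
    have := hD.conjA x⁻¹
    rwa [hcj, cj_centralizer_eq, cj_inv_cj, conjA_inv] at this
  · intro hd
    refine ⟨hle.subgroup_le, fun R hR => ?_⟩
    obtain ⟨g, hg, rfl⟩ := isConj_iff_mor.1 hR
    have hd' := hd.conjA g
    rw [hcj, cj_centralizer_eq] at hd'
    have hg' := (mor_iff hle).1 hg
    refine le_trans (le_of_eq ?_) (inf_le_left (b := Subgroup.centralizer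
      ((cj g Q : Subgroup G) : Set G)))
    exact card_le_of_le_defect hd' inf_le_right (hmax.1.1.2.1.to_le inf_le_left)
      (le_centralizer_part hmax hg') (inf_le_inf_right _ hg'.subgroup_le)

end CfsgLib.BlockPairs
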