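import Cfsg.Prelude.Def_BlockFusion
import Cfsg.Agent.BlockPairs.Fusion
import Cfsg.Agent.BlockPairs.PairBridge

/-!
# The Prelude's fusion system of a block is `blockSystem`
-/

set_option autoImplicit false
set_option linter.unusedSectionVars false
set_option linter.style.haveILetI false

namespace CfsgLib.BlockPairs

open Cfsg
open CfsgLib.Blocks (Res)

universe u

variable {G : Type u} [Group G] [Finite G] {M : Ideal AlgInt} [M.IsPrime]
variable {p : ℕ} [hp : Fact p.Prime] [CharP (Res M) p] [IsAlgClosed (Res M)]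

theorem maxPair_model {B : Set (IrrCharacter G)} {P : Subgroup G}
    {e : Set (IrrCharacter (Subgroup.centralizer (P : Set G)))}
    (hmax : Cfsg.IsMaximalBrauerPair p M B P e) :
    Cfsg.IsPBlock M B ∧ Cfsg.IsPBlock M e ∧ IsBlock (⊤ : Subgroup G) (gblk M B) ∧
      IsMaxPair p ⊤ (gblk M B) P (sblk M (Subgroup.centralizer (P : Set G)) e) := by
  obtain ⟨⟨⟨-, he⟩, hB, -⟩, -⟩ := id hmax
  exact ⟨hB, he, isBlock_gblk hB, (isMaximalBrauerPair_iff hB he).1 hmax⟩

theorem exists_below_sblk {P Q : Subgroup G}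
    {e : Set (IrrCharacter (Subgroup.centralizer (P : Set G)))} (he : Cfsg.IsPBlock M e)
    (hPe : IsPair p ⊤ P (sblk M (Subgroup.centralizer (P : Set G)) e)) (hQP : Q ≤ P) :
    ∃ f, Cfsg.IsPBlock M f ∧ Cfsg.SubpairLE p M Q f P e ∧
      Le p ⊤ Q (sblk M (Subgroup.centralizer (Q : Set G)) f) P
        (sblk M (Subgroup.centralizer (P : Set G)) e) := by
  obtain ⟨f', hf', hle⟩ := exists_below hPe hQP
  obtain ⟨f, hf, rfl⟩ := exists_eq_sblk (M := M) (isBlock_centralizer hf')
  exact ⟨f, hf, (subpairLE_iff hf he).2 hle, hle⟩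

theorem subpairLE_source {P Q : Subgroup G}
    {f : Set (IrrCharacter (Subgroup.centralizer (Q : Set G)))}
    {e : Set (IrrCharacter (Subgroup.centralizer (P : Set G)))}
    (h : Cfsg.SubpairLE p M Q f P e) (he : Cfsg.IsPBlock M e) : Cfsg.IsPBlock M f := by
  rcases Relation.ReflTransGen.cases_head h with h1 | ⟨c, hc, -⟩
  · cases h1
    exact he
  · exact hc.1.2

theorem subpairLE_le {P Q : Subgroup G}
    {f : Set (IrrCharacter (Subgroup.centralizer (Q : Set G)))}
    {e : Set (IrrCharacter (Subgroup.centralizer (P : Set G)))}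
    (h : Cfsg.SubpairLE p M Q f P e) (he : Cfsg.IsPBlock M e) :
    Le p ⊤ Q (sblk M (Subgroup.centralizer (Q : Set G)) f) P
      (sblk M (Subgroup.centralizer (P : Set G)) e) :=
  (subpairLE_iff (subpairLE_source h he) he).1 h

variable {B : Set (IrrCharacter G)} {P : Subgroup G}
  {e : Set (IrrCharacter (Subgroup.centralizer (P : Set G)))}

/-- The maps of the block's fusion system, in the model. -/
theorem blockMap_iff (he : Cfsg.IsPBlock M e)
    (hPe : IsPair p ⊤ P (sblk M (Subgroup.centralizer (P : Set G)) e)) (Q : Subgroup G)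
    (φ : Q →* G) :
    (Q ≤ P ∧ ∃ g : G, (∀ u : Q, φ u = g * (u : G) * g⁻¹) ∧
        Q.map (MulAut.conj g).toMonoidHom ≤ P ∧
        ∃ f : Set (IrrCharacter (Subgroup.centralizer (Q : Set G))),
          SubpairLE p M Q f P e ∧
            SubpairLE p M (Q.map (MulAut.conj g).toMonoidHom) (conjBlock Q g f) P e) ↔
      φ ∈ (blockSystem hPe).Hom Q := by
  rw [mem_blockSystem]
  constructor
  · rintro ⟨-, g, hφ, -, f, h1, h2⟩
    refine ⟨g, ⟨_, subpairLE_le h1 he, ?_⟩, hφ⟩
    have := subpairLE_le h2 he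
    rwa [sblk_conjBlock] at this
  · rintro ⟨g, hg, hφ⟩
    obtain ⟨f, hf, hf1, hf2⟩ := exists_below_sblk he hPe hg.source_le
    refine ⟨hg.source_le, g, hφ, hg.target_le, f, hf1, (subpairLE_iff (isPBlock_conjBlock g hf) he).2 ?_⟩
    rw [sblk_conjBlock]
    exact (mor_iff hf2).1 hg

theorem eq_blockSystem (hmax : Cfsg.IsMaximalBrauerPair p M B P e) {F : Cfsg.FusionSystem P}
    (hF : Cfsg.IsBlockFusionSystemOn p M B P e F) :
    F = blockSystem (maxPair_model hmax).2.2.2.1.1 :=
  CfsgLib.Fusion.fusionSystem_ext fun Q => Set.ext fun φ =>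
    (hF.2 Q φ).trans (blockMap_iff (maxPair_model hmax).2.1 (maxPair_model hmax).2.2.2.1.1 Q φ)

theorem isBlockFusionSystemOn_blockSystem (hmax : Cfsg.IsMaximalBrauerPair p M B P e) :
    Cfsg.IsBlockFusionSystemOn p M B P e (blockSystem (maxPair_model hmax).2.2.2.1.1) :=
  ⟨hmax, fun Q φ =>
    (blockMap_iff (maxPair_model hmax).2.1 (maxPair_model hmax).2.2.2.1.1 Q φ).symm⟩

end CfsgLib.BlockPairs
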