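import Mathlib.Algebra.BigOperators.Group.List.Basic
import Mathlib.Data.Finset.Max
import Mathlib.Combinatorics.Pigeonhole

/-!
# Nilpotency from the trivial component of a grading

If products of `d` elements of degree one vanish, products of `|Γ| * d` homogeneous elements
vanish.
-/

set_option autoImplicit false
set_option linter.unusedSectionVars false

namespace CfsgLib.BlockPairs

variable {A Γ : Type*} [MonoidWithZero A] [Group Γ] [Fintype Γ] {P : A → Γ → Prop}

theorem prod_homogeneous_mem (hmul : ∀ a b q r, P a q → P b r → P (a * b) (q * r))
    (l : List (A × Γ)) (hl : ∀ x ∈ l, P x.1 x.2) (hne : l ≠ []) :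
    P (l.map Prod.fst).prod (l.map Prod.snd).prod := by
  induction l with
  | nil => exact absurd rfl hne
  | cons x l ih =>
    rw [List.map_cons, List.prod_cons, List.map_cons, List.prod_cons]
    rcases eq_or_ne l [] with rfl | h
    · simpa using hl x (by simp)
    · exact hmul _ _ _ _ (hl x (by simp)) (ih (fun y hy => hl y (by simp [hy])) h)

theorem prod_eq_zero_of_graded (hmul : ∀ a b q r, P a q → P b r → P (a * b) (q * r)) {d : ℕ}
    (hd : ∀ z : List A, z.length = d → (∀ a ∈ z, P a 1) → z.prod = 0)
    (l : List (A × Γ)) (hl : ∀ x ∈ l, P x.1 x.2) (hlen : l.length = Fintype.card Γ * d) :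
    (l.map Prod.fst).prod = 0 := by
  classical
  set v : ℕ → Γ := fun i => ((l.take i).map Prod.snd).prod with hv
  obtain ⟨y, -, hy⟩ := Finset.exists_lt_card_fiber_of_mul_lt_card_of_maps_to
    (s := Finset.range (l.length + 1)) (t := (Finset.univ : Finset Γ)) (f := v) (n := d)
    (fun _ _ => Finset.mem_univ _) (by rw [Finset.card_univ, Finset.card_range]; omega)
  set T := (Finset.range (l.length + 1)).filter fun i => v i = y
  have key : ∀ (c : ℕ) (S : Finset ℕ), S ⊆ T → S.card = c + 1 → ∀ (h : S.Nonempty),
      ∃ z : List A, z.length = c ∧ (∀ a ∈ z, P a 1) ∧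
        ((l.take (S.max' h)).map Prod.fst).prod =
          ((l.take (S.min' h)).map Prod.fst).prod * z.prod := by
    intro c
    induction c with
    | zero =>
      intro S _ hS h
      obtain ⟨i, rfl⟩ := Finset.card_eq_one.1 hS
      exact ⟨[], rfl, by simp, by simp⟩
    | succ c ih =>
      intro S hST hS h
      set i := S.max' h with hi
      set S' := S.erase i
      have hS'c : S'.card = c + 1 := by
        rw [Finset.card_erase_of_mem (S.max'_mem h), hS]; rfl
      have hS'n : S'.Nonempty := Finset.card_pos.1 (by omega)
      obtain ⟨z, hz, hzP, heq⟩ := ih S' ((Finset.erase_subset _ _).trans hST) hS'c hS'n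
      set j := S'.max' hS'n with hj
      have hji : j < i := by
        have h1 := S'.max'_mem hS'n
        rw [← hj, Finset.mem_erase] at h1
        exact lt_of_le_of_ne (S.le_max' j h1.2) h1.1
      have hmin : S'.min' hS'n = S.min' h := by
        refine le_antisymm (Finset.min'_le _ _ (Finset.mem_erase.2 ⟨?_, S.min'_mem h⟩))
          (Finset.min'_subset _ (Finset.erase_subset _ _))
        intro e
        have h1 := S'.max'_mem hS'n
        rw [Finset.mem_erase] at h1
        have h2 := S.min'_le _ h1.2
        rw [e, ← hj] at h2
        omega
      set seg := (l.drop j).take (i - j) with hseg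
      have htake : l.take i = l.take j ++ seg := by
        rw [hseg, ← List.take_add, Nat.add_sub_cancel' hji.le]
      have hiT := Finset.mem_filter.1 (hST (S.max'_mem h))
      have hjT := Finset.mem_filter.1 (hST (Finset.mem_of_mem_erase (S'.max'_mem hS'n)))
      rw [← hi] at hiT
      rw [← hj] at hjT
      have hlt : i ≤ l.length := by
        have := Finset.mem_range.1 hiT.1
        omega
      have hsne : seg ≠ [] := by
        intro e
        have h1 := congrArg List.length e
        simp [hseg, List.length_take, List.length_drop] at h1
        omega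
      have hdeg : (seg.map Prod.snd).prod = 1 := by
        have h1 : v i = v j * (seg.map Prod.snd).prod := by
          simp only [hv, htake, List.map_append, List.prod_append]
        rwa [hiT.2, hjT.2, left_eq_mul] at h1
      have hsP := prod_homogeneous_mem hmul seg (fun x hx => hl x
        (List.mem_of_mem_drop (List.mem_of_mem_take hx))) hsne
      rw [hdeg] at hsP
      refine ⟨z ++ [(seg.map Prod.fst).prod], by simp [hz], ?_, ?_⟩
      · intro a ha
        rcases List.mem_append.1 ha with ha | ha
        · exact hzP a ha
        · rw [List.mem_singleton.1 ha]; exact hsP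
      · rw [htake, List.map_append, List.prod_append, heq, hmin, List.prod_append,
          List.prod_singleton, mul_assoc]
  obtain ⟨S, hST, hS⟩ := Finset.exists_subset_card_eq (show d + 1 ≤ T.card from hy)
  have h : S.Nonempty := Finset.card_pos.1 (by omega)
  obtain ⟨z, hz, hzP, heq⟩ := key d S hST hS h
  conv_lhs => rw [← List.take_append_drop (S.max' h) l]
  rw [List.map_append, List.prod_append, heq, hd z hz hzP, mul_zero, zero_mul]

end CfsgLib.BlockPairs
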