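import Cfsg.Agent.BlockPairs.PairBridge

/-!
# The idempotent of a stable block as an idempotent of a larger group

`exists_block_lift`: if a block `f` of `K` is stable under `T = φ.range ≥ K` and its model
idempotent is a block of `T`, then it is, exactly over `ℂ`, the idempotent of a block of `φ`'s
source.
-/

set_option autoImplicit false
set_option linter.unusedSectionVars false
set_option linter.style.haveILetI false

namespace CfsgLib.BlockPairs

open Cfsg
open CfsgLib.Blocks (Ctr Res localRing red idemBar omegaBar setIdemC)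

universe u v

variable {G : Type u} [Group G] [Finite G] {M : Ideal AlgInt} [M.IsPrime] [IsAlgClosed (Res M)]

theorem subgroupBlockCoeff_conj {K : Subgroup G} {f : Set (IrrCharacter K)}
    (hf : Cfsg.IsPBlock M f) {t : G} (ht : Cfsg.StabilizesBlock K f t) (g : G) :
    Cfsg.subgroupBlockCoeff K f (t * g * t⁻¹) = Cfsg.subgroupBlockCoeff K f g := by
  have h := cj_eq_self ht.1
  have h1 : imageSet (conjIso K K t h) f = f :=
    sblk_inj (isPBlock_imageSet _ hf) hf (by rw [sblk_imageSet h f, ((stabilizesBlock_iff hf).1 ht).2])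
  have hiff : t * g * t⁻¹ ∈ K ↔ g ∈ K := ((Subgroup.mem_normalizer_iff).1 ht.1 g).symm
  rw [Cfsg.subgroupBlockCoeff, Cfsg.subgroupBlockCoeff]
  by_cases hg : g ∈ K
  · rw [dif_pos hg, dif_pos (hiff.2 hg)]
    conv_lhs => rw [← h1]
    rw [blockCoeff_imageSet]
    exact congrArg (Cfsg.blockCoeff f) (Subtype.ext (by rw [conjIso_symm_apply]; group))
  · rw [dif_neg hg, dif_neg (fun h' => hg (hiff.1 h'))]

theorem exists_block_lift {X : Type v} [Group X] [Finite X] {φ : X →* G}
    (hφ : Function.Injective φ) {K : Subgroup G} (hK : K ≤ φ.range)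
    {f : Set (IrrCharacter K)} (hf : Cfsg.IsPBlock M f)
    (hst : ∀ t ∈ φ.range, Cfsg.StabilizesBlock K f t)
    (hblk : IsBlock φ.range (sblk M K f)) :
    ∃ B : Set (IrrCharacter X), Cfsg.IsPBlock M B ∧
      (∀ x, Cfsg.blockCoeff B x = Cfsg.subgroupBlockCoeff K f (φ x)) ∧
      blkE M φ B = sblk M K f := by
  classical
  haveI := Fintype.ofFinite X
  haveI := Fintype.ofFinite K
  set w : GA ℂ G := emb K.subtype ((setIdemC f : Ctr ℂ K) : GA ℂ K) with hw
  have hwc : ∀ g, w.coeff g = Cfsg.subgroupBlockCoeff K f g := by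
    intro g
    rw [Cfsg.subgroupBlockCoeff]
    split_ifs with h
    · have := emb_coeff_apply (k := ℂ) (φ := K.subtype) K.subtype_injective
        ((setIdemC f : Ctr ℂ K) : GA ℂ K) ⟨g, h⟩
      simpa [hw] using this
    · exact emb_coeff_not_mem _ _ (by rwa [K.range_subtype])
  have hws : w ∈ sub φ.range φ.range := by
    refine ⟨fun g hg => hK ?_, fun t ht => ga_ext fun g => ?_⟩
    · by_contra h
      apply hg
      rw [hwc, Cfsg.subgroupBlockCoeff, dif_neg h]
    · rw [conjA_coeff, hwc, hwc]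
      simpa using subgroupBlockCoeff_conj hf (hst _ (φ.range.inv_mem ht)) g
  have hidem : ∀ {Y : Type u} [Group Y] [Fintype Y] (A : Set (IrrCharacter Y)),
      setIdemC A * setIdemC A = setIdemC A := fun A => CfsgLib.Blocks.ctr_ext_omega fun ψ => by
    rw [map_mul, CfsgLib.Blocks.omega_setIdemC]; split_ifs <;> simp
  have hww : w * w = w := by
    rw [hw, ← map_mul, ← Subring.coe_mul, hidem]
  obtain ⟨z, hz⟩ := exists_emb hφ hws
  have hzz : z * z = z := Subtype.ext (emb_injective hφ (by rw [Subring.coe_mul, map_mul, hz, hww]))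
  set A : Set (IrrCharacter X) := {χ | CfsgLib.Blocks.omega χ z = 1} with hA
  have hzA : z = setIdemC A := CfsgLib.Blocks.ctr_ext_omega fun ψ => by
    rw [CfsgLib.Blocks.omega_setIdemC]
    split_ifs with h
    · exact h
    · have h1 : CfsgLib.Blocks.omega ψ z * (CfsgLib.Blocks.omega ψ z - 1) = 0 := by
        rw [mul_sub, mul_one, ← map_mul, hzz, sub_self]
      exact (mul_eq_zero.1 h1).resolve_right fun h2 => h (sub_eq_zero.1 h2)
  have hcoeff : ∀ x, Cfsg.blockCoeff A x = Cfsg.subgroupBlockCoeff K f (φ x) := fun x => by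
    rw [← CfsgLib.Blocks.coeff_setIdemC, ← hzA, ← hwc, ← hz, emb_coeff_apply hφ]
  have hU : CfsgLib.Blocks.IsBlockUnion M A := CfsgLib.Blocks.isBlockUnion_of_memLocalRing fun x => by
    rw [hcoeff, Cfsg.subgroupBlockCoeff]
    split_ifs
    · exact CfsgLib.Blocks.memLocalRing_blockCoeff (CfsgLib.Blocks.isBlockUnion_of_isPBlock hf) _
    · exact CfsgLib.Blocks.memLocalRing_of_memLocalIdeal CfsgLib.Blocks.memLocalIdeal_zero
  have hblkA : blkE M φ A = sblk M K f := ga_ext fun g => by
    by_cases hg : g ∈ φ.range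
    · obtain ⟨x, rfl⟩ := hg
      rw [sblk_coeff, blkE, emb_coeff_apply hφ, CfsgLib.Blocks.coeff_ofFun, hcoeff]
    · rw [blkE, emb_coeff_not_mem _ _ hg, sblk_coeff, Cfsg.subgroupBlockCoeff,
        dif_neg (fun h => hg (hK h)), redC_zero]
  have hone : ∀ χ ∈ A, blkE M φ (Cfsg.blockOf M (χ : X → ℂ)) = sblk M K f := by
    intro χ hχ
    have hB := CfsgLib.Blocks.isPBlock_blockOf (M := M) χ
    have hBU := CfsgLib.Blocks.isBlockUnion_of_isPBlock hB
    have hbB := isBlock_blkE hφ hB
    refine hbB.eq_of_mul_ne_zero hblk ?_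
    rw [← hblkA, blkE_eq φ hBU, blkE_eq φ hU, ← map_mul, ← map_zero (emb (k := Res M) φ)]
    intro h0
    have h1 := congrArg (fun y : Ctr (Res M) X => omegaBar M χ y)
      (Subtype.ext (emb_injective hφ h0) :
        idemBar M (Cfsg.blockOf M (χ : X → ℂ)) hBU * idemBar M A hU = 0)
    simp only [map_mul, map_zero, CfsgLib.Blocks.omegaBar_idemBar, if_pos hχ,
      if_pos (CfsgLib.Blocks.mem_blockOf_self χ), mul_one] at h1
    exact one_ne_zero h1
  obtain ⟨χ, hχ⟩ : A.Nonempty := by
    by_contra hne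
    rw [Set.not_nonempty_iff_eq_empty] at hne
    apply hblk.ne_zero
    rw [← hblkA, hne]
    refine ga_ext fun g => ?_
    by_cases hg : g ∈ φ.range
    · obtain ⟨x, rfl⟩ := hg
      simp [blkE, emb_coeff_apply hφ, Cfsg.blockCoeff, redC_zero]
    · simp [blkE, emb_coeff_not_mem _ _ hg]
  refine ⟨A, ⟨χ, Set.Subset.antisymm ?_ (hU χ hχ)⟩, hcoeff, hblkA⟩
  intro ψ hψ
  have := blkE_injOn hφ (CfsgLib.Blocks.isPBlock_blockOf ψ) (CfsgLib.Blocks.isPBlock_blockOf χ)
    ((hone ψ hψ).trans (hone χ hχ).symm)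
  rw [← this]
  exact CfsgLib.Blocks.mem_blockOf_self ψ

end CfsgLib.BlockPairs
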