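import Cfsg.Agent.BlockPairs.Maximal

/-!
# Local structure of subpairs: defect groups of their blocks

`exists_conj_centralizer_defect`, `exists_conj_normalizer_defect`: after conjugating `(Q, f)` below
a maximal pair `(P, e)`, `C_P(Q)` resp. `N_P(Q)` is a defect group of `f` in `C(Q)` resp. in the
stabilizer.  `exists_fixed_class`: the class argument for a block stable under a larger group.
-/

set_option autoImplicit false
set_option linter.unusedSectionVars false
set_option linter.style.haveILetI false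

namespace CfsgLib.BlockPairs

variable {F : Type*} [Field F] {G : Type*} [Group G]

theorem centralizer_sup (Q D : Subgroup G) :
    Subgroup.centralizer ((Q ⊔ D : Subgroup G) : Set G) =
      Subgroup.centralizer (Q : Set G) ⊓ Subgroup.centralizer (D : Set G) := by
  refine le_antisymm (le_inf (Subgroup.centralizer_le (SetLike.coe_subset_coe.2 le_sup_left))
    (Subgroup.centralizer_le (SetLike.coe_subset_coe.2 le_sup_right))) fun x hx => ?_
  have h : Q ⊔ D ≤ Subgroup.centralizer ({x} : Set G) := sup_le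
    (fun u hu => Subgroup.mem_centralizer_singleton_iff.2 (Subgroup.mem_centralizer_iff.1 hx.1 u hu))
    (fun u hu => Subgroup.mem_centralizer_singleton_iff.2 (Subgroup.mem_centralizer_iff.1 hx.2 u hu))
  exact Subgroup.mem_centralizer_iff.2 fun u hu => Subgroup.mem_centralizer_singleton_iff.1 (h hu)

theorem br_sup (Q D : Subgroup G) (a : GA F G) : br (Q ⊔ D) a = br D (br Q a) :=
  ga_ext fun g => by
    by_cases hg : g ∈ Subgroup.centralizer ((Q ⊔ D : Subgroup G) : Set G)
    · rw [br_coeff_mem _ _ hg]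
      rw [centralizer_sup] at hg
      rw [br_coeff_mem _ _ hg.2, br_coeff_mem _ _ hg.1]
    · rw [br_coeff_not_mem _ _ hg]
      rw [centralizer_sup, Subgroup.mem_inf, not_and_or] at hg
      by_cases hD : g ∈ Subgroup.centralizer (D : Set G)
      · rw [br_coeff_mem _ _ hD, br_coeff_not_mem _ _ (hg.resolve_right (not_not.2 hD))]
      · rw [br_coeff_not_mem _ _ hD]

theorem conjA_pow' (x : G) (a : GA F G) (n : ℕ) : conjA F x a ^ n = conjA F x (a ^ n) := by
  induction n with
  | zero => simp [conjA_one]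
  | succ n ih => rw [pow_succ, pow_succ, ih, conjA_mul]

theorem IsPair.blockHas_self {p : ℕ} {H Q : Subgroup G} {f : GA F G} (h : IsPair p H Q f) :
    br Q f * f = f := by
  rw [br_eq_self (h.2.2.supp.mono inf_le_right), h.2.2.idem]

theorem stab_conj {Q : Subgroup G} {f : GA F G} (x : G) :
    cj x (stab ⊤ Q f) = stab ⊤ (cj x Q) (conjA F x f) := by
  ext g
  rw [mem_cj, mem_stab, mem_stab]
  simp only [Subgroup.mem_top, true_and]
  refine and_congr ?_ ?_
  · constructor
    · intro h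
      refine mem_normalizer_of_cj_eq ?_
      conv_rhs => rw [← cj_eq_self h]
      simp only [cj_cj]; congr 1; group
    · intro h
      refine mem_normalizer_of_cj_eq ?_
      calc cj (x⁻¹ * g * x) Q = cj x⁻¹ (cj g (cj x Q)) := by rw [cj_cj, cj_cj]
        _ = Q := by rw [cj_eq_self h, cj_inv_cj]
  · rw [conjA_conjA]
    constructor
    · intro h
      have := congrArg (conjA F x) h
      rw [conjA_conjA] at this
      simpa [mul_assoc] using this
    · intro h
      apply conjA_injective x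
      rw [conjA_conjA]
      simpa [mul_assoc] using h

variable [Finite G] {p : ℕ} [hp : Fact p.Prime] [CharP F p]

/-- A block of `C(Q)` is a block of every group between `C(Q)` and its stabilizer. -/
theorem block_of_le_stab {H Q K : Subgroup G} {f : GA F G} (h : IsPair p H Q f) (hQK : Q ≤ K)
    (hcK : cent H Q ≤ K) (hK : K ≤ stab H Q f) : IsBlock K f := by
  refine ⟨⟨h.2.2.supp.mono hcK, fun u hu => (hK hu).2⟩, h.2.2.idem, h.2.2.ne_zero,
    fun u hu huu => h.2.2.dichotomy ?_ huu⟩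
  refine ⟨?_, hu.2.mono hcK⟩
  exact (isSupp_centralizer_of_normal h.2.1 hQK (hK.trans stab_le_normalizer) hu huu).mono
    (inf_le_inf_right _ (hK.trans stab_le))

theorem IsDefectGrp.conjA {K D : Subgroup G} {e : GA F G} (h : IsDefectGrp p K e D) (x : G) :
    IsDefectGrp p (BlockPairs.cj x K) (BlockPairs.conjA F x e) (BlockPairs.cj x D) := by
  refine ⟨cj_mono x h.1, isPGroup_cj x h.2.1, ?_, fun R hR hRp hne => ?_⟩
  · rw [← conjA_br]
    exact fun h0 => h.2.2.1 (conjA_injective x (h0.trans (conjA_zero x).symm))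
  · obtain ⟨y, hy, hle⟩ := h.2.2.2 (BlockPairs.cj x⁻¹ R) (by
      rw [← cj_inv_cj x K]; exact cj_mono _ hR) (isPGroup_cj _ hRp) (fun h0 => hne (by
      have h1 := congrArg (BlockPairs.conjA F x) h0
      rw [conjA_br, conjA_zero] at h1
      change br (BlockPairs.cj x (BlockPairs.cj x⁻¹ R)) _ = 0 at h1
      rwa [cj_cj_inv] at h1))
    refine ⟨x * y * x⁻¹, mem_cj.2 (by simpa [mul_assoc] using hy), ?_⟩
    have := cj_mono x hle
    rwa [cj_cj, cj_cj] at this

variable [IsAlgClosed F]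

theorem omega_conjA {K : Subgroup G} {e z : GA F G} (he : IsBlock K e) (hz : z ∈ sub K K) (x : G) :
    omega (cj x K) (conjA F x e) (conjA F x z) = omega K e z := by
  refine omega_unique (he.conjA x) (conjA_mem_sub hz x) ?_
  obtain ⟨n, hn⟩ := isNilpotent_omega he hz
  refine ⟨n, ?_⟩
  rw [← conjA_mul, ← conjA_smul, ← conjA_sub, conjA_pow', hn, conjA_zero]

theorem omega_of_le {K T : Subgroup G} {e z : GA F G} (heK : IsBlock K e) (heT : IsBlock T e)
    (hzK : z ∈ sub K K) (hzT : z ∈ sub T T) : omega T e z = omega K e z :=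
  omega_unique heT hzT (isNilpotent_omega heK hzK)

theorem isDefectGrp_of_card {K D : Subgroup G} {e : GA F G} (he : IsBlock K e) (hDK : D ≤ K)
    (hD : IsPGroup p D) (hne : br D e ≠ 0)
    (hmax : ∀ R : Subgroup G, R ≤ K → IsPGroup p R → br R e ≠ 0 → Nat.card R ≤ Nat.card D) :
    IsDefectGrp p K e D := by
  obtain ⟨R, hR⟩ := exists_defectGrp (p := p) he
  obtain ⟨x, hx, hle⟩ := hR.2.2.2 D hDK hD hne
  have heq : cj x D = R := Subgroup.eq_of_le_of_card_ge hle (by
    rw [card_cj]; exact hmax R hR.1 hR.2.1 hR.2.2.1)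
  rw [← cj_inv_cj x D, heq]
  exact hR.cj he.fixed (inv_mem hx)

theorem card_le_of_le_defect {K R : Subgroup G} {e : GA F G} {D : Subgroup G}
    (hD : IsDefectGrp p K e D) (hR : R ≤ K) (hRp : IsPGroup p R) (h : br R e ≠ 0)
    (hle : D ≤ R) : R = D :=
  (Subgroup.eq_of_le_of_card_ge hle (hD.card_le hR hRp h)).symm

/-- The normal step from `(Q, f)` to a subgroup of `P` normalizing `Q`. -/
theorem step_of_le {H Q P R : Subgroup G} {f e : GA F G} (hle : Le p H Q f P e)
    (hPe : IsPair p H P e) (hQR : Q ≤ R) (hRP : R ≤ P)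
    (hN : R ≤ Subgroup.normalizer (Q : Set G)) :
    ∃ g, Step p H (Q, f) (R, g) ∧ Le p H R g P e := by
  obtain ⟨g, hg, hl1, hl2⟩ := hle.split hPe hQR hRP
  obtain ⟨f', hf', -⟩ := exists_unique_step hg hQR hN
  obtain rfl := le_unique (Le.of_step hf') hl1
  exact ⟨g, hf', hl2⟩

theorem Step.br_ne_zero {H Q R : Subgroup G} {f g : GA F G} (h : Step p H (Q, f) (R, g)) :
    br R f ≠ 0 := fun h0 => h.2.1.2.2.ne_zero (by
  have h6 : br R f * g = g := h.2.2.2.2.2
  rw [← h6, h0, zero_mul])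

section Subpair

variable {Q P : Subgroup G} {b f e : GA F G}

theorem le_centralizer_part (hmax : IsMaxPair p (⊤ : Subgroup G) b P e) (hle : Le p ⊤ Q f P e) :
    br (P ⊓ Subgroup.centralizer (Q : Set G)) f ≠ 0 := by
  obtain ⟨g, hs, -⟩ := step_of_le hle hmax.1.1 le_sup_left
    (sup_le hle.subgroup_le inf_le_left : Q ⊔ (P ⊓ Subgroup.centralizer (Q : Set G)) ≤ P)
    (sup_le Subgroup.le_normalizer (inf_le_right.trans (Subgroup.centralizer_le_normalizer _)))
  exact fun h0 => hs.br_ne_zero (br_eq_zero_of_le le_sup_right h0)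

theorem le_normalizer_part (hmax : IsMaxPair p (⊤ : Subgroup G) b P e) (hle : Le p ⊤ Q f P e) :
    P ⊓ Subgroup.normalizer (Q : Set G) ≤ stab ⊤ Q f ∧
      br (P ⊓ Subgroup.normalizer (Q : Set G)) f ≠ 0 := by
  obtain ⟨g, hs, -⟩ := step_of_le hle hmax.1.1
    (le_inf hle.subgroup_le Subgroup.le_normalizer) inf_le_left inf_le_right
  exact ⟨fun u hu => ⟨⟨trivial, hu.2⟩, hs.2.2.2.2.1 u hu⟩, hs.br_ne_zero⟩

/-- A p-subgroup surviving at `f` can be moved into `P` keeping `(Q, f)` below `(P, e)`. -/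
theorem exists_conj_into (hb : IsBlock (⊤ : Subgroup G) b) (hmax : IsMaxPair p ⊤ b P e)
    (hle : Le p ⊤ Q f P e) (hQf : IsPair p ⊤ Q f) {D : Subgroup G} (hD : D ≤ stab ⊤ Q f)
    (hDp : IsPGroup p D) (hne : br D f ≠ 0) :
    ∃ x : G, Le p ⊤ (cj x Q) (conjA F x f) P e ∧ cj x D ≤ P := by
  have hS : IsPGroup p (Q ⊔ D : Subgroup G) :=
    hQf.2.1.to_sup_of_normal_left' hDp (hD.trans stab_le_normalizer)
  have hbr : br (Q ⊔ D) f ≠ 0 := by
    rwa [br_sup, br_eq_self (hQf.2.2.supp.mono inf_le_right)]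
  obtain ⟨g, hg⟩ := exists_step_of_br_ne_zero hQf le_sup_left (sup_le hQf.le_stab hD) hS hbr
  have hbh : BlockHas p ⊤ b (Q ⊔ D) g := (blockHas_iff_of_le hb (Le.of_step hg) hQf).1
    ((blockHas_iff_of_le hb hle hQf).2 hmax.1)
  obtain ⟨x, -, hx⟩ := exists_conj_le hb hmax hbh
  exact ⟨x, ((Le.of_step hg).conjA trivial).trans' hx,
    (cj_mono x le_sup_right).trans hx.subgroup_le⟩

/-- Some conjugate below `(P, e)` has `C_P` as a defect group of the local block. -/
theorem exists_conj_centralizer_defect (hb : IsBlock (⊤ : Subgroup G) b)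
    (hmax : IsMaxPair p ⊤ b P e) (hle : Le p ⊤ Q f P e) (hQf : IsPair p ⊤ Q f) :
    ∃ x : G, Le p ⊤ (cj x Q) (conjA F x f) P e ∧
      IsDefectGrp p (Subgroup.centralizer ((cj x Q : Subgroup G) : Set G)) (conjA F x f)
        (P ⊓ Subgroup.centralizer ((cj x Q : Subgroup G) : Set G)) := by
  have hf : IsBlock (Subgroup.centralizer (Q : Set G)) f := by
    have := hQf.2.2
    rwa [cent, top_inf_eq] at this
  obtain ⟨D, hD⟩ := exists_defectGrp (p := p) hf
  obtain ⟨x, hx, hxD⟩ := exists_conj_into hb hmax hle hQf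
    (hD.1.trans (by rw [← top_inf_eq (Subgroup.centralizer (Q : Set G))]; exact hQf.cent_le_stab))
    hD.2.1 hD.2.2.1
  have hD' : IsDefectGrp p (Subgroup.centralizer ((cj x Q : Subgroup G) : Set G)) (conjA F x f)
      (cj x D) := by
    have := hD.conjA x
    rwa [show cj x (Subgroup.centralizer (Q : Set G)) = _ from
      Subgroup.ext fun _ => mem_cj_centralizer] at this
  refine ⟨x, hx, ?_⟩
  rwa [card_le_of_le_defect hD' inf_le_right (hmax.1.1.2.1.to_le inf_le_left)
    (le_centralizer_part hmax hx) (le_inf hxD hD'.1)]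

/-- Some conjugate below `(P, e)` has `N_P` as a defect group of the stabilizer's block. -/
theorem exists_conj_normalizer_defect (hb : IsBlock (⊤ : Subgroup G) b)
    (hmax : IsMaxPair p ⊤ b P e) (hle : Le p ⊤ Q f P e) (hQf : IsPair p ⊤ Q f) :
    ∃ x : G, Le p ⊤ (cj x Q) (conjA F x f) P e ∧
      IsDefectGrp p (stab ⊤ (cj x Q) (conjA F x f)) (conjA F x f)
        (P ⊓ Subgroup.normalizer ((cj x Q : Subgroup G) : Set G)) := by
  obtain ⟨D, hD⟩ := exists_defectGrp (p := p) (block_stabilizer hQf)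
  obtain ⟨x, hx, hxD⟩ := exists_conj_into hb hmax hle hQf hD.1 hD.2.1 hD.2.2.1
  have hD' := hD.conjA x
  rw [stab_conj] at hD'
  refine ⟨x, hx, ?_⟩
  rwa [card_le_of_le_defect hD' (le_normalizer_part hmax hx).1
    (hmax.1.1.2.1.to_le inf_le_left) (le_normalizer_part hmax hx).2
    (le_inf hxD (hD'.1.trans stab_le_normalizer))]

theorem centralizer_part_le_defect (hmax : IsMaxPair p (⊤ : Subgroup G) b P e)
    (hle : Le p ⊤ Q f P e) (hQf : IsPair p ⊤ Q f) :
    ∃ D, IsDefectGrp p (Subgroup.centralizer (Q : Set G)) f D ∧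
      P ⊓ Subgroup.centralizer (Q : Set G) ≤ D := by
  have hf : IsBlock (Subgroup.centralizer (Q : Set G)) f := by
    have := hQf.2.2
    rwa [cent, top_inf_eq] at this
  obtain ⟨D, hD⟩ := exists_defectGrp (p := p) hf
  obtain ⟨y, hy, hyle⟩ := hD.2.2.2 _ inf_le_right (hmax.1.1.2.1.to_le inf_le_left)
    (le_centralizer_part hmax hle)
  exact ⟨_, hD.cj hf.fixed (inv_mem hy), by rw [← cj_inv_cj y (P ⊓ _)]; exact cj_mono _ hyle⟩

theorem normalizer_part_le_defect (hmax : IsMaxPair p (⊤ : Subgroup G) b P e)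
    (hle : Le p ⊤ Q f P e) (hQf : IsPair p ⊤ Q f) :
    ∃ D, IsDefectGrp p (stab ⊤ Q f) f D ∧ P ⊓ Subgroup.normalizer (Q : Set G) ≤ D := by
  obtain ⟨D, hD⟩ := exists_defectGrp (p := p) (block_stabilizer hQf)
  obtain ⟨y, hy, hyle⟩ := hD.2.2.2 _ (le_normalizer_part hmax hle).1
    (hmax.1.1.2.1.to_le inf_le_left) (le_normalizer_part hmax hle).2
  exact ⟨_, hD.cj (block_stabilizer hQf).fixed (inv_mem hy),
    by rw [← cj_inv_cj y (P ⊓ _)]; exact cj_mono _ hyle⟩

end Subpair

theorem conjA_classSum {K : Subgroup G} {u : G} (hu : u ∈ Subgroup.normalizer (K : Set G)) (y : G) :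
    conjA F u (classSum F K y) = classSum F K (u * y * u⁻¹) := by
  classical
  refine ga_ext fun z => ?_
  rw [conjA_coeff, classSum_coeff, classSum_coeff]
  refine if_congr ⟨?_, ?_⟩ rfl rfl
  · rintro ⟨h, hh, he⟩
    refine ⟨u * h * u⁻¹, ((Subgroup.mem_normalizer_iff).1 hu h).1 hh, ?_⟩
    calc u * h * u⁻¹ * (u * y * u⁻¹) * (u * h * u⁻¹)⁻¹ = u * (h * y * h⁻¹) * u⁻¹ := by group
      _ = z := by rw [he]; group
  · rintro ⟨h, hh, rfl⟩
    refine ⟨u⁻¹ * h * u, ((Subgroup.mem_normalizer_iff).1 hu _).2 (by simpa [mul_assoc] using hh),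
      by group⟩

/-- The class argument: a p-subgroup of `T` fixes one of the `C`-classes in a defect class of a
block of the normal subgroup `C` that is also a block of `T`. -/
theorem exists_fixed_class {C T U : Subgroup G} {e : GA F G} (heC : IsBlock C e)
    (heT : IsBlock T e) (hTC : T ≤ Subgroup.normalizer (C : Set G)) {g : G}
    (hgC : g ∈ C) (hgT : g ∈ T) (hCT : C ≤ T) (hU : U ≤ T) (hUp : IsPGroup p U)
    (hom : omega T e (classSum F T g) ≠ 0) :
    ∃ t ∈ T, omega C e (classSum F C (t * g * t⁻¹)) ≠ 0 ∧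
      ∀ u ∈ U, ∃ c ∈ C, c⁻¹ * u * (t * g * t⁻¹) = (t * g * t⁻¹) * (c⁻¹ * u) := by
  classical
  have hcl : ∀ t ∈ T, t * g * t⁻¹ ∈ C := fun t ht =>
    ((Subgroup.mem_normalizer_iff).1 (hTC ht) g).1 hgC
  set s : Finset (GA F G) :=
    (Set.toFinite (Set.range fun t : T => classSum F C ((t : G) * g * (t : G)⁻¹))).toFinset with hs
  have hmem : ∀ a ∈ s, ∃ t ∈ T, a = classSum F C (t * g * t⁻¹) := fun a ha => by
    obtain ⟨t, rfl⟩ := (Set.Finite.mem_toFinset _).1 ha
    exact ⟨t, t.2, rfl⟩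
  have hsum : classSum F T g = ∑ a ∈ s, a := by
    refine ga_ext fun x => ?_
    rw [MonoidAlgebra.coeff_sum, Finsupp.finsetSum_apply, classSum_coeff]
    split_ifs with h
    · obtain ⟨t, ht, rfl⟩ := h
      rw [Finset.sum_eq_single (classSum F C (t * g * t⁻¹))]
      · rw [classSum_coeff, if_pos ⟨1, C.one_mem, by group⟩]
      · intro a ha hne
        obtain ⟨t', ht', rfl⟩ := hmem a ha
        rw [classSum_coeff, if_neg]
        rintro ⟨c, hc, hce⟩
        apply hne
        refine ga_ext fun z => ?_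
        rw [classSum_coeff, classSum_coeff]
        refine if_congr ⟨?_, ?_⟩ rfl rfl
        · rintro ⟨d, hd, rfl⟩
          refine ⟨d * c⁻¹, C.mul_mem hd (C.inv_mem hc), ?_⟩
          rw [← hce]; group
        · rintro ⟨d, hd, rfl⟩
          refine ⟨d * c, C.mul_mem hd hc, ?_⟩
          rw [← hce]; group
      · exact fun h' => absurd (show classSum F C (t * g * t⁻¹) ∈ s from (Set.Finite.mem_toFinset _).2 ⟨⟨t, ht⟩, rfl⟩) h'
    · refine (Finset.sum_eq_zero fun a ha => ?_).symm
      obtain ⟨t, ht, rfl⟩ := hmem a ha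
      rw [classSum_coeff, if_neg]
      rintro ⟨c, hc, rfl⟩
      exact h ⟨c * t, T.mul_mem (hCT hc) ht, by group⟩
  have hsC : ∀ a ∈ s, a ∈ sub C C := fun a ha => by
    obtain ⟨t, ht, rfl⟩ := hmem a ha
    exact classSum_mem_sub (hcl t ht)
  have hK : classSum F T g ∈ sub C C := by rw [hsum]; exact Subalgebra.sum_mem _ hsC
  have hact : ∀ (u : U), ∀ a ∈ s, conjA F (u : G) a ∈ s := fun u a ha => by
    obtain ⟨t, ht, rfl⟩ := hmem a ha
    rw [conjA_classSum (hTC (hU u.2))]
    exact (Set.Finite.mem_toFinset _).2 ⟨⟨(u : G) * t, T.mul_mem (hU u.2) ht⟩,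
      congrArg (classSum F C) (by group)⟩
  letI : MulAction U s :=
    { smul := fun u a => ⟨conjA F (u : G) a.1, hact u _ a.2⟩
      one_smul := fun a => Subtype.ext (conjA_one_left a.1)
      mul_smul := fun u v a => Subtype.ext (conjA_conjA (u : G) v a.1).symm }
  have hinv : ∀ (u : U) (a : s), omega C e (u • a : s).1 = omega C e a.1 := fun u a => by
    show omega C e (conjA F (u : G) a.1) = _
    have := omega_conjA heC (hsC a.1 a.2) (u : G)
    rwa [cj_eq_self (hTC (hU u.2)), heT.fixed u (hU u.2)] at this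
  rw [omega_of_le heC heT hK (classSum_mem_sub hgT), hsum, omega_sum heC _ _ hsC,
    ← Finset.sum_coe_sort s (fun a => omega C e a),
    sum_eq_sum_fixed hUp (fun x : F => by simp [CharP.cast_eq_zero F p]) _ hinv] at hom
  obtain ⟨a, ha, hane⟩ := Finset.exists_ne_zero_of_sum_ne_zero hom
  obtain ⟨t, ht, hat⟩ := hmem a.1 a.2
  refine ⟨t, ht, hat ▸ hane, fun u hu => ?_⟩
  have h1 : conjA F u a.1 = a.1 := congrArg Subtype.val ((Finset.mem_filter.1 ha).2 ⟨u, hu⟩)
  rw [hat, conjA_classSum (hTC (hU hu))] at h1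
  have h2 := congrArg (fun z : GA F G => z.coeff (u * (t * g * t⁻¹) * u⁻¹)) h1
  simp only [classSum_coeff] at h2
  rw [if_pos ⟨1, C.one_mem, by group⟩] at h2
  obtain ⟨c, hc, hce⟩ : ∃ c ∈ C, c * (t * g * t⁻¹) * c⁻¹ = u * (t * g * t⁻¹) * u⁻¹ := by
    by_contra hne
    rw [if_neg hne] at h2
    exact one_ne_zero h2
  refine ⟨c, hc, ?_⟩
  calc c⁻¹ * u * (t * g * t⁻¹) = c⁻¹ * (u * (t * g * t⁻¹) * u⁻¹) * u := by group
    _ = c⁻¹ * (c * (t * g * t⁻¹) * c⁻¹) * u := by rw [hce]
    _ = (t * g * t⁻¹) * (c⁻¹ * u) := by group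

end CfsgLib.BlockPairs
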