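import Cfsg.Agent.BlockPairs.Orbit
import Mathlib.Algebra.MonoidAlgebra.Basic
import Mathlib.Algebra.CharP.Basic
import Mathlib.GroupTheory.Subgroup.Centralizer
import Mathlib.GroupTheory.Sylow
import Mathlib.LinearAlgebra.Finsupp.VectorSpace
import Mathlib.LinearAlgebra.FiniteDimensional.Basic

/-!
# The group algebra model for blocks of all subgroups at once

All elements live in `MonoidAlgebra F G`.  `sub H P` is the subalgebra of the elements supported on
`H` and fixed under conjugation by `P`; so `sub H H` is the centre of the group algebra of `H`.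
`br P x` is the truncation of `x` to the centralizer of `P`, the Brauer map on `P`-fixed elements.
-/

set_option autoImplicit false
set_option linter.unusedSectionVars false
set_option linter.style.haveILetI false

namespace CfsgLib.BlockPairs

variable (F : Type*) [Field F] {G : Type*} [Group G]

/-- The group algebra. -/
abbrev GA (F : Type*) [Field F] (G : Type*) [Group G] := MonoidAlgebra F G

/-- Conjugation of an element of the group algebra by a group element. -/
noncomputable def conjA (x : G) (a : GA F G) : GA F G :=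
  MonoidAlgebra.single x 1 * a * MonoidAlgebra.single x⁻¹ 1

variable {F}

theorem conjA_coeff (x : G) (a : GA F G) (g : G) :
    (conjA F x a).coeff g = a.coeff (x⁻¹ * g * x) := by
  simp [conjA, mul_assoc]

theorem ga_ext {a b : GA F G} (h : ∀ g, a.coeff g = b.coeff g) : a = b :=
  MonoidAlgebra.ext (Finsupp.ext h)

theorem conjA_one_left (a : GA F G) : conjA F 1 a = a := ga_ext fun g => by simp [conjA_coeff]

theorem conjA_conjA (x y : G) (a : GA F G) : conjA F x (conjA F y a) = conjA F (x * y) a :=
  ga_ext fun g => by simp [conjA_coeff, mul_assoc]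

theorem conjA_mul (x : G) (a b : GA F G) : conjA F x (a * b) = conjA F x a * conjA F x b := by
  simp only [conjA, mul_assoc]
  rw [← mul_assoc (MonoidAlgebra.single x⁻¹ (1 : F)) (MonoidAlgebra.single x (1 : F))]
  rw [MonoidAlgebra.single_mul_single, inv_mul_cancel, mul_one, ← MonoidAlgebra.one_def, one_mul]

theorem conjA_one (x : G) : conjA F x (1 : GA F G) = 1 := by
  rw [conjA, mul_one, MonoidAlgebra.single_mul_single, mul_inv_cancel, mul_one,
    ← MonoidAlgebra.one_def]

theorem conjA_zero (x : G) : conjA F x (0 : GA F G) = 0 := by simp [conjA]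

theorem conjA_add (x : G) (a b : GA F G) : conjA F x (a + b) = conjA F x a + conjA F x b := by
  simp [conjA, mul_add, add_mul]

theorem conjA_sub (x : G) (a b : GA F G) : conjA F x (a - b) = conjA F x a - conjA F x b := by
  simp [conjA, mul_sub, sub_mul]

theorem conjA_smul (x : G) (c : F) (a : GA F G) : conjA F x (c • a) = c • conjA F x a := by
  simp [conjA]

theorem conjA_sum {ι : Type*} (x : G) (s : Finset ι) (f : ι → GA F G) :
    conjA F x (∑ i ∈ s, f i) = ∑ i ∈ s, conjA F x (f i) := by
  simp [conjA, Finset.mul_sum, Finset.sum_mul]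

theorem conjA_inv (x : G) (a : GA F G) : conjA F x⁻¹ (conjA F x a) = a := by
  rw [conjA_conjA, inv_mul_cancel, conjA_one_left]

theorem conjA_inv' (x : G) (a : GA F G) : conjA F x (conjA F x⁻¹ a) = a := by
  rw [conjA_conjA, mul_inv_cancel, conjA_one_left]

theorem conjA_injective (x : G) : Function.Injective (conjA (F := F) x) :=
  Function.LeftInverse.injective (conjA_inv x)

/-- `a` is fixed under conjugation by every element of `P`. -/
def IsFixed (P : Subgroup G) (a : GA F G) : Prop := ∀ u ∈ P, conjA F u a = a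

/-- `a` is supported on `H`. -/
def IsSupp (H : Subgroup G) (a : GA F G) : Prop := ∀ g, a.coeff g ≠ 0 → g ∈ H

theorem IsFixed.coeff {P : Subgroup G} {a : GA F G} (h : IsFixed P a) {u : G} (hu : u ∈ P)
    (g : G) : a.coeff (u⁻¹ * g * u) = a.coeff g := by
  rw [← conjA_coeff, h u hu]

theorem IsFixed.coeff' {P : Subgroup G} {a : GA F G} (h : IsFixed P a) {u : G} (hu : u ∈ P)
    (g : G) : a.coeff (u * g * u⁻¹) = a.coeff g := by
  simpa using h.coeff (P.inv_mem hu) g

theorem IsFixed.mono {P Q : Subgroup G} {a : GA F G} (h : IsFixed P a) (hQ : Q ≤ P) :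
    IsFixed Q a := fun u hu => h u (hQ hu)

theorem IsSupp.mono {H K : Subgroup G} {a : GA F G} (h : IsSupp H a) (hK : H ≤ K) :
    IsSupp K a := fun g hg => hK (h g hg)

theorem isSupp_top (a : GA F G) : IsSupp ⊤ a := fun _ _ => trivial

theorem IsSupp.coeff_eq_zero {H : Subgroup G} {a : GA F G} (h : IsSupp H a) {g : G}
    (hg : g ∉ H) : a.coeff g = 0 := by
  by_contra h'
  exact hg (h g h')

theorem coeff_mul_sum [Fintype G] (a b : GA F G) (g : G) :
    (a * b).coeff g = ∑ h : G, a.coeff h * b.coeff (h⁻¹ * g) := by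
  rw [MonoidAlgebra.coeff_mul_apply_left, Finsupp.sum_fintype]
  simp

theorem isSupp_mul {H : Subgroup G} {a b : GA F G} (ha : IsSupp H a) (hb : IsSupp H b) :
    IsSupp H (a * b) := by
  intro g hg
  by_contra hgH
  apply hg
  rw [MonoidAlgebra.coeff_mul_apply_left]
  refine Finset.sum_eq_zero fun h hh => ?_
  have hhH := ha h (Finsupp.mem_support_iff.1 hh)
  show a.coeff h * b.coeff (h⁻¹ * g) = 0
  rw [hb.coeff_eq_zero (fun h' => hgH (by simpa using H.mul_mem hhH h')), mul_zero]

/-- The subalgebra of the elements supported on `H` and fixed by `P`. -/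
noncomputable def sub (H P : Subgroup G) : Subalgebra F (GA F G) where
  carrier := {a | IsSupp H a ∧ IsFixed P a}
  mul_mem' := fun {a b} ha hb =>
    ⟨isSupp_mul ha.1 hb.1, fun u hu => by rw [conjA_mul, ha.2 u hu, hb.2 u hu]⟩
  add_mem' := fun {a b} ha hb => ⟨fun g hg => by
      by_contra hgH
      exact hg (by simp [ha.1.coeff_eq_zero hgH, hb.1.coeff_eq_zero hgH]),
    fun u hu => by rw [conjA_add, ha.2 u hu, hb.2 u hu]⟩
  one_mem' := ⟨fun g hg => by
      rw [MonoidAlgebra.one_def, MonoidAlgebra.coeff_single] at hg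
      rw [← (Finsupp.single_apply_ne_zero.1 hg).1.symm]
      exact H.one_mem,
    fun u _ => conjA_one u⟩
  algebraMap_mem' := fun c => by
    rw [Algebra.algebraMap_eq_smul_one]
    refine ⟨fun g hg => ?_, fun u _ => by rw [conjA_smul, conjA_one]⟩
    rw [MonoidAlgebra.one_def, MonoidAlgebra.smul_single, MonoidAlgebra.coeff_single] at hg
    rw [← (Finsupp.single_apply_ne_zero.1 hg).1.symm]
    exact H.one_mem

theorem mem_sub {H P : Subgroup G} {a : GA F G} :
    a ∈ sub H P ↔ IsSupp H a ∧ IsFixed P a := Iff.rfl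

theorem sub_mono {H H' P P' : Subgroup G} (hH : H ≤ H') (hP : P' ≤ P) :
    sub (F := F) H P ≤ sub H' P' := fun _ h => ⟨h.1.mono hH, h.2.mono hP⟩

/-- An element fixed by `P` commutes with every element supported on `P`. -/
theorem mul_comm_of_fixed_supp {P : Subgroup G} {a b : GA F G} (ha : IsFixed P a)
    (hb : IsSupp P b) : a * b = b * a := by
  refine ga_ext fun g => ?_
  rw [MonoidAlgebra.coeff_mul_apply_right, MonoidAlgebra.coeff_mul_apply_left]
  refine Finset.sum_congr rfl fun h hh => ?_
  have hhP : h ∈ P := hb h (Finsupp.mem_support_iff.1 hh)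
  show a.coeff (g * h⁻¹) * b.coeff h = b.coeff h * a.coeff (h⁻¹ * g)
  rw [mul_comm]
  congr 1
  have := ha.coeff' (P.inv_mem hhP) (g * h⁻¹)
  simpa [mul_assoc] using this.symm

theorem sub_comm {H : Subgroup G} {a b : GA F G} (ha : a ∈ sub H H) (hb : b ∈ sub H H) :
    a * b = b * a := mul_comm_of_fixed_supp ha.2 hb.1

/-! ### The Brauer map -/

open scoped Classical in
/-- Truncation to the centralizer of `P`. -/
noncomputable def br (P : Subgroup G) (a : GA F G) : GA F G :=
  MonoidAlgebra.ofCoeff (a.coeff.filter fun g => g ∈ Subgroup.centralizer (P : Set G))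

theorem br_coeff_mem (P : Subgroup G) (a : GA F G) {g : G}
    (hg : g ∈ Subgroup.centralizer (P : Set G)) : (br P a).coeff g = a.coeff g := by
  classical
  simp [br, hg]

theorem br_coeff_not_mem (P : Subgroup G) (a : GA F G) {g : G}
    (hg : g ∉ Subgroup.centralizer (P : Set G)) : (br P a).coeff g = 0 := by
  classical
  simp [br, hg]

theorem br_zero (P : Subgroup G) : br P (0 : GA F G) = 0 := ga_ext fun g => by
  by_cases hg : g ∈ Subgroup.centralizer (P : Set G)
  · rw [br_coeff_mem P _ hg]
  · rw [br_coeff_not_mem P _ hg]; simp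

theorem br_add (P : Subgroup G) (a b : GA F G) : br P (a + b) = br P a + br P b :=
  ga_ext fun g => by
    by_cases hg : g ∈ Subgroup.centralizer (P : Set G)
    · simp [br_coeff_mem P _ hg]
    · simp [br_coeff_not_mem P _ hg]

theorem br_sub (P : Subgroup G) (a b : GA F G) : br P (a - b) = br P a - br P b := by
  rw [eq_sub_iff_add_eq, ← br_add, sub_add_cancel]

theorem br_smul (P : Subgroup G) (c : F) (a : GA F G) : br P (c • a) = c • br P a :=
  ga_ext fun g => by
    by_cases hg : g ∈ Subgroup.centralizer (P : Set G)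
    · simp [br_coeff_mem P _ hg]
    · simp [br_coeff_not_mem P _ hg]

theorem br_sum {ι : Type*} (P : Subgroup G) (s : Finset ι) (f : ι → GA F G) :
    br P (∑ i ∈ s, f i) = ∑ i ∈ s, br P (f i) := by
  classical
  induction s using Finset.induction_on with
  | empty => simp [br_zero]
  | insert i s hi ih => rw [Finset.sum_insert hi, Finset.sum_insert hi, br_add, ih]

theorem br_eq_self {P : Subgroup G} {a : GA F G}
    (h : IsSupp (Subgroup.centralizer (P : Set G)) a) : br P a = a := ga_ext fun g => by
  by_cases hg : g ∈ Subgroup.centralizer (P : Set G)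
  · rw [br_coeff_mem P _ hg]
  · rw [br_coeff_not_mem P _ hg, h.coeff_eq_zero hg]

theorem isSupp_br (P : Subgroup G) (a : GA F G) :
    IsSupp (Subgroup.centralizer (P : Set G)) (br P a) := fun g hg => by
  by_contra h
  exact hg (br_coeff_not_mem P a h)

theorem br_one (P : Subgroup G) : br P (1 : GA F G) = 1 :=
  br_eq_self (mem_sub.1 (one_mem (sub (F := F) _ P))).1

theorem isSupp_br_of {H P : Subgroup G} {a : GA F G} (ha : IsSupp H a) :
    IsSupp (H ⊓ Subgroup.centralizer (P : Set G)) (br P a) := fun g hg => by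
  have hc := isSupp_br P a g hg
  exact ⟨ha g (by rwa [br_coeff_mem P a hc] at hg), hc⟩

theorem br_br_of_le {P Q : Subgroup G} (hQP : Q ≤ P) (a : GA F G) : br P (br Q a) = br P a :=
  ga_ext fun g => by
    by_cases hg : g ∈ Subgroup.centralizer (P : Set G)
    · rw [br_coeff_mem P _ hg, br_coeff_mem P _ hg,
        br_coeff_mem Q _ (Subgroup.centralizer_le (SetLike.coe_subset_coe.2 hQP) hg)]
    · rw [br_coeff_not_mem P _ hg, br_coeff_not_mem P _ hg]

theorem br_eq_zero_of_le {P Q : Subgroup G} (hQP : Q ≤ P) {a : GA F G} (h : br Q a = 0) :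
    br P a = 0 := by rw [← br_br_of_le hQP, h, br_zero]

theorem mem_centralizer_map_conj {P : Subgroup G} {x g : G} :
    g ∈ Subgroup.centralizer ((P.map (MulAut.conj x).toMonoidHom : Subgroup G) : Set G) ↔
      x⁻¹ * g * x ∈ Subgroup.centralizer (P : Set G) := by
  simp only [Subgroup.mem_centralizer_iff, SetLike.mem_coe, Subgroup.mem_map]
  constructor
  · intro h u hu
    have := h (x * u * x⁻¹) ⟨u, hu, by simp⟩
    calc u * (x⁻¹ * g * x) = x⁻¹ * ((x * u * x⁻¹) * g) * x := by group
      _ = x⁻¹ * (g * (x * u * x⁻¹)) * x := by rw [this]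
      _ = x⁻¹ * g * x * u := by group
  · rintro h _ ⟨u, hu, rfl⟩
    have := h u hu
    simp only [MulEquiv.coe_toMonoidHom, MulAut.conj_apply]
    calc x * u * x⁻¹ * g = x * (u * (x⁻¹ * g * x)) * x⁻¹ := by group
      _ = x * (x⁻¹ * g * x * u) * x⁻¹ := by rw [this]
      _ = g * (x * u * x⁻¹) := by group

theorem conjA_br (x : G) (P : Subgroup G) (a : GA F G) :
    conjA F x (br P a) = br (P.map (MulAut.conj x).toMonoidHom) (conjA F x a) :=
  ga_ext fun g => by
    rw [conjA_coeff]
    by_cases hg : x⁻¹ * g * x ∈ Subgroup.centralizer (P : Set G)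
    · rw [br_coeff_mem P _ hg, br_coeff_mem _ _ (mem_centralizer_map_conj.2 hg), conjA_coeff]
    · rw [br_coeff_not_mem P _ hg, br_coeff_not_mem _ _ (mt mem_centralizer_map_conj.1 hg)]

theorem map_conj_eq_self {P : Subgroup G} {x : G}
    (hx : x ∈ Subgroup.normalizer (P : Set G)) : P.map (MulAut.conj x).toMonoidHom = P := by
  ext g
  simp only [Subgroup.mem_map, MulEquiv.coe_toMonoidHom, MulAut.conj_apply]
  constructor
  · rintro ⟨u, hu, rfl⟩
    exact ((Subgroup.mem_normalizer_iff).1 hx u).1 hu
  · intro hg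
    refine ⟨x⁻¹ * g * x, ?_, by group⟩
    exact ((Subgroup.mem_normalizer_iff).1 hx _).2 (by simpa [mul_assoc] using hg)

theorem isFixed_br {R P : Subgroup G} {a : GA F G}
    (hR : R ≤ Subgroup.normalizer (P : Set G)) (ha : IsFixed R a) : IsFixed R (br P a) := by
  intro u hu
  rw [conjA_br, map_conj_eq_self (hR hu), ha u hu]

section CharP

variable {p : ℕ} [hp : Fact p.Prime] [CharP F p] [Finite G]

theorem nsmul_eq_zero_ga (a : GA F G) : p • a = 0 := by
  rw [← Nat.cast_smul_eq_nsmul F, CharP.cast_eq_zero F p, zero_smul]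

/-- The Brauer map is multiplicative on fixed elements. -/
theorem br_mul {P : Subgroup G} (hP : IsPGroup p P) {a b : GA F G} (ha : IsFixed P a)
    (hb : IsFixed P b) : br P (a * b) = br P a * br P b := by
  classical
  cases nonempty_fintype G
  refine ga_ext fun g => ?_
  by_cases hg : g ∈ Subgroup.centralizer (P : Set G)
  swap
  · rw [br_coeff_not_mem P _ hg]
    exact ((isSupp_mul (isSupp_br P a) (isSupp_br P b)).coeff_eq_zero hg).symm
  letI : MulAction P G := MulAction.compHom G (MulAut.conj.comp P.subtype)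
  have hsmul : ∀ (u : P) (h : G), u • h = (u : G) * h * (u : G)⁻¹ := fun u h => rfl
  rw [br_coeff_mem P _ hg, coeff_mul_sum, coeff_mul_sum,
    sum_eq_sum_fixed hP (fun x : F => by simp [CharP.cast_eq_zero F p])
      (fun h => a.coeff h * b.coeff (h⁻¹ * g))]
  · rw [← Finset.sum_subset (Finset.subset_univ
      (Finset.univ.filter fun h : G => ∀ u : P, u • h = h))
      (f := fun h => (br P a).coeff h * (br P b).coeff (h⁻¹ * g)) ?_]
    swap
    · intro h _ hh
      have : h ∉ Subgroup.centralizer (P : Set G) := fun hc => hh (Finset.mem_filter.2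
        ⟨Finset.mem_univ _, fun u => by
          rw [hsmul, Subgroup.mem_centralizer_iff.1 hc u u.2]; group⟩)
      rw [br_coeff_not_mem P _ this, zero_mul]
    · refine Finset.sum_congr rfl fun h hh => ?_
      have hc : h ∈ Subgroup.centralizer (P : Set G) := Subgroup.mem_centralizer_iff.2
        fun u hu => by
          have h1 := (Finset.mem_filter.1 hh).2 ⟨u, hu⟩
          rw [hsmul] at h1
          exact mul_inv_eq_iff_eq_mul.1 h1
      rw [br_coeff_mem P _ hc,
        br_coeff_mem P _ (Subgroup.mul_mem _ (Subgroup.inv_mem _ hc) hg)]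
  · intro u h
    rw [hsmul]
    have hg' : (u : G) * g * (u : G)⁻¹ = g := by
      rw [Subgroup.mem_centralizer_iff.1 hg u u.2]; group
    rw [ha.coeff' u.2 h]
    congr 1
    calc b.coeff (((u : G) * h * (u : G)⁻¹)⁻¹ * g)
        = b.coeff (((u : G) * h * (u : G)⁻¹)⁻¹ * ((u : G) * g * (u : G)⁻¹)) := by rw [hg']
      _ = b.coeff ((u : G) * (h⁻¹ * g) * (u : G)⁻¹) := by congr 1; group
      _ = b.coeff (h⁻¹ * g) := hb.coeff' u.2 _

/-- An idempotent fixed by a p-subgroup `Q`, supported in a group normalising `Q` and killed by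
the Brauer map at `Q` is zero. -/
theorem eq_zero_of_br_eq_zero {Q H : Subgroup G} (hQ : IsPGroup p Q)
    (hH : H ≤ Subgroup.normalizer (Q : Set G)) {u : GA F G} (hs : IsSupp H u)
    (hf : IsFixed Q u) (hu : u * u = u) (h0 : br Q u = 0) : u = 0 := by
  classical
  cases nonempty_fintype G
  by_contra hne
  letI : DistribMulAction Q (GA F G) :=
    { smul := fun q a => MonoidAlgebra.single (q : G) 1 * a
      one_smul := fun a => by
        show MonoidAlgebra.single ((1 : Q) : G) (1 : F) * a = a
        simp [← MonoidAlgebra.one_def]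
      mul_smul := fun q r a => by
        show MonoidAlgebra.single ((q * r : Q) : G) (1 : F) * a =
          MonoidAlgebra.single (q : G) (1 : F) * (MonoidAlgebra.single (r : G) (1 : F) * a)
        rw [← mul_assoc]
        simp [MonoidAlgebra.single_mul_single]
      smul_zero := fun q => mul_zero _
      smul_add := fun q a b => mul_add _ a b }
  have hsm : ∀ (q : Q) (a : GA F G), q • a = MonoidAlgebra.single (q : G) 1 * a := fun q a => rfl
  have hcomm : ∀ q : Q, MonoidAlgebra.single (q : G) (1 : F) * u =
      u * MonoidAlgebra.single (q : G) 1 := fun q => by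
    refine (mul_comm_of_fixed_supp (P := Q) hf ?_).symm
    intro g hg
    rw [MonoidAlgebra.coeff_single] at hg
    rw [← (Finsupp.single_apply_ne_zero.1 hg).1.symm]
    exact q.2
  obtain ⟨w, hw0, hwc, hwf⟩ := exists_fixed_ne_zero hQ (nsmul_eq_zero_ga (F := F) (G := G)) hne
  have huw : u * w = w := by
    clear hwf hw0
    induction hwc using AddSubgroup.closure_induction with
    | mem x hx =>
      obtain ⟨q, rfl⟩ := hx
      show u * (MonoidAlgebra.single (q : G) 1 * u) = MonoidAlgebra.single (q : G) 1 * u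
      rw [hcomm q, ← mul_assoc, hu]
    | zero => exact mul_zero u
    | add x y _ _ hx hy => rw [mul_add, hx, hy]
    | neg x _ hx => rw [mul_neg, hx]
  refine hw0 (huw.symm.trans ?_)
  have hdec : u * w = ∑ h : G, u.coeff h • (MonoidAlgebra.single h 1 * w) := by
    refine ga_ext fun g => ?_
    rw [coeff_mul_sum, MonoidAlgebra.coeff_sum, Finsupp.finsetSum_apply]
    refine Finset.sum_congr rfl fun h _ => ?_
    rw [MonoidAlgebra.coeff_smul, Finsupp.smul_apply, MonoidAlgebra.coeff_single_mul_apply]
    simp
  rw [hdec]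
  letI : MulAction Q G := MulAction.compHom G (MulAut.conj.comp Q.subtype)
  have hsmul : ∀ (q : Q) (h : G), q • h = (q : G) * h * (q : G)⁻¹ := fun q h => rfl
  rw [sum_eq_sum_fixed hQ (nsmul_eq_zero_ga (F := F) (G := G))
      (fun h => u.coeff h • (MonoidAlgebra.single h 1 * w))]
  · refine Finset.sum_eq_zero fun h hh => ?_
    have hc : h ∈ Subgroup.centralizer (Q : Set G) := Subgroup.mem_centralizer_iff.2
      fun q hq => by
        have h1 := (Finset.mem_filter.1 hh).2 ⟨q, hq⟩
        rw [hsmul] at h1
        exact mul_inv_eq_iff_eq_mul.1 h1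
    have := congrArg (fun a : GA F G => a.coeff h) h0
    simp only [br_coeff_mem Q u hc, MonoidAlgebra.coeff_zero] at this
    rw [this]
    simp
  · intro q h
    rw [hsmul, hf.coeff' q.2 h]
    by_cases hh : u.coeff h = 0
    · simp [hh]
    congr 1
    have hn := hH (hs h hh)
    have hq' : h⁻¹ * (q : G) * h ∈ Q := by
      have := ((Subgroup.mem_normalizer_iff).1 (Subgroup.inv_mem _ hn) (q : G)).1 q.2
      simpa using this
    have hfix : ∀ y : G, y ∈ Q → MonoidAlgebra.single y (1 : F) * w = w := fun y hy => hwf ⟨y, hy⟩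
    calc MonoidAlgebra.single ((q : G) * h * (q : G)⁻¹) (1 : F) * w
        = MonoidAlgebra.single ((q : G) * h * (q : G)⁻¹) (1 : F) *
            (MonoidAlgebra.single (q : G) 1 * w) := by rw [hfix _ q.2]
      _ = MonoidAlgebra.single ((q : G) * h) (1 : F) * w := by
            rw [← mul_assoc, MonoidAlgebra.single_mul_single]; simp [mul_assoc]
      _ = MonoidAlgebra.single h (1 : F) *
            (MonoidAlgebra.single (h⁻¹ * (q : G) * h) 1 * w) := by
            rw [← mul_assoc, MonoidAlgebra.single_mul_single]; simp [mul_assoc]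
      _ = MonoidAlgebra.single h (1 : F) * w := by rw [hfix _ hq']

end CharP

end CfsgLib.BlockPairs
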