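import Cfsg.Prelude.Def_BrauerPairs
import Cfsg.Agent.BlockPairs.EmbModel
import Cfsg.Agent.BlockPairs.Fusion
import Cfsg.Agent.BlockPairs.PairBridge
import Cfsg.Agent.Fusion.Induction

/-!
# Nilpotent blocks and blocks with abelian defect groups

`Nilp p H b`: in `H`, p-regular elements stabilizing a pair of `b` centralize it.  Equivalently the
fusion system of the block is the inner one.  `exists_mul_of_abelian`: control of fusion by the
stabilizer of the maximal pair when the defect group is abelian.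
-/

set_option autoImplicit false
set_option linter.unusedSectionVars false
set_option linter.style.haveILetI false

namespace CfsgLib.BlockPairs

open CfsgLib.Fusion (mem_autInducedBy_iff)

variable {k : Type*} [Field k] {G : Type*} [Group G] {p : ℕ}

/-- The model notion of a nilpotent block. -/
def Nilp (p : ℕ) (H : Subgroup G) (b : GA k G) : Prop :=
  ∀ (Q : Subgroup G) (f : GA k G), BlockHas p H b Q f →
    ∀ x ∈ stab H Q f, Cfsg.IsPRegular p x → x ∈ Subgroup.centralizer (Q : Set G)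

theorem isPRegular_map {X : Type*} [Group X] {φ : X →* G} (hφ : Function.Injective φ) {x : X} :
    Cfsg.IsPRegular p (φ x) ↔ Cfsg.IsPRegular p x := by
  rw [Cfsg.IsPRegular, Cfsg.IsPRegular, orderOf_injective φ hφ]

theorem isPRegular_conj {x z : G} : Cfsg.IsPRegular p (z * x * z⁻¹) ↔ Cfsg.IsPRegular p x :=
  isPRegular_map (φ := (MulAut.conj z).toMonoidHom) (MulAut.conj z).injective

theorem mem_centralizer_cj {Q : Subgroup G} {x z : G}
    (h : z * x * z⁻¹ ∈ Subgroup.centralizer ((cj z Q : Subgroup G) : Set G)) :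
    x ∈ Subgroup.centralizer (Q : Set G) := by
  rw [← mem_cj_centralizer, mem_cj] at h
  simpa [mul_assoc] using h

theorem isPGroup_centralizes {Q : Subgroup G} [Finite G] [hp : Fact p.Prime] (hQ : IsPGroup p Q)
    {x h : G} (hh : h ∈ Q) (hx : Cfsg.IsPRegular p x)
    (hn : ∀ n : ℕ, x ^ n = 1 → h ^ n = 1) : h = 1 := by
  obtain ⟨m, hm⟩ := hQ ⟨h, hh⟩
  have h1 : h ^ (p ^ m) = 1 := congrArg Subtype.val hm
  have h2 : orderOf h ∣ Nat.gcd (p ^ m) (orderOf x) :=
    Nat.dvd_gcd (orderOf_dvd_of_pow_eq_one h1)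
      (orderOf_dvd_of_pow_eq_one (hn _ (pow_orderOf_eq_one x)))
  rw [((hp.out.coprime_iff_not_dvd.2 hx).pow_left m).gcd_eq_one, Nat.dvd_one,
    orderOf_eq_one_iff] at h2
  exact h2

variable [Finite G] [hp : Fact p.Prime] [CharP k p] [IsAlgClosed k]
variable {P Q : Subgroup G} {b e f : GA k G}

theorem nilp_iff_below (hb : IsBlock (⊤ : Subgroup G) b) (hmax : IsMaxPair p ⊤ b P e) :
    Nilp p ⊤ b ↔ ∀ (Q : Subgroup G) (f : GA k G), Le p ⊤ Q f P e →
      ∀ x ∈ stab ⊤ Q f, Cfsg.IsPRegular p x → x ∈ Subgroup.centralizer (Q : Set G) := by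
  refine ⟨fun h Q f hle => h Q f (mem_blockHas_of_le hb hmax hle).2, fun h Q f hQ x hx hreg => ?_⟩
  obtain ⟨z, -, hz⟩ := exists_conj_le hb hmax hQ
  refine mem_centralizer_cj (h _ _ hz _ ?_ (isPRegular_conj.2 hreg))
  rw [← stab_conj, mem_cj]
  simpa [mul_assoc] using hx

theorem isPGroup_autGroup_of_nilp (hb : IsBlock (⊤ : Subgroup G) b)
    (hmax : IsMaxPair p ⊤ b P e) (hn : Nilp p ⊤ b) (hle : Le p ⊤ Q f P e) :
    IsPGroup p ((blockSystem hmax.1.1).autGroup Q) := by
  rintro ⟨α, hα⟩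
  obtain ⟨x, hx, hxα⟩ := exists_stab_of_mem_autGroup hle hα
  obtain ⟨c, m, hm, hxn⟩ := Nat.exists_eq_pow_mul_and_not_dvd (orderOf_pos x).ne' p hp.out.ne_one
  refine ⟨c, Subtype.ext (MulEquiv.ext fun q => Subtype.ext ?_)⟩
  have hreg : Cfsg.IsPRegular p (x ^ p ^ c) := fun hdvd => hm <| hdvd.trans (by
    rw [orderOf_pow' x (pow_ne_zero _ hp.out.ne_zero), hxn,
      Nat.gcd_eq_right (Dvd.intro m rfl), Nat.mul_div_cancel_left _ (pow_pos hp.out.pos c)])
  have hc := hn Q f (mem_blockHas_of_le hb hmax hle).2 _ (pow_mem hx _) hreg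
  have key : ∀ n : ℕ, (((α ^ n : MulAut Q) q : Q) : G) = x ^ n * (q : G) * (x ^ n)⁻¹ := by
    intro n
    induction n with
    | zero => simp
    | succ n ih =>
      rw [pow_succ', MulAut.mul_apply, hxα, ih, pow_succ']
      group
  show (((α ^ p ^ c : MulAut Q) q : Q) : G) = q
  rw [key, ← Subgroup.mem_centralizer_iff.1 hc q q.2]
  group

theorem inner_le_blockSystem (hPe : IsPair p ⊤ P e) :
    Cfsg.innerFusionSystem P ≤ blockSystem hPe := by
  rintro R φ ⟨hR, g, hg, hφ⟩
  exact CfsgLib.Fusion.conj_mem' hR hg hφ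

/-- A block is nilpotent exactly when its fusion system is the inner one. -/
theorem nilp_iff_inner (hb : IsBlock (⊤ : Subgroup G) b) (hmax : IsMaxPair p ⊤ b P e) :
    Nilp p ⊤ b ↔
      ∀ Q : Subgroup G, (blockSystem hmax.1.1).Hom Q = (Cfsg.innerFusionSystem P).Hom Q := by
  have hS := hmax.1.1.2.1
  constructor
  · intro hn
    have hle : blockSystem hmax.1.1 ≤ Cfsg.innerFusionSystem P := by
      refine CfsgLib.Fusion.le_of_step hS (isSaturated_blockSystem hb hmax) fun Q hQ _ => ?_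
      obtain ⟨f, -, hle⟩ := exists_below hmax.1.1 hQ.1
      have hA := (CfsgLib.Fusion.automized_receptive hS (isSaturated_blockSystem hb hmax) hQ).1
      rw [CfsgLib.Fusion.eq_autInducedBy_of_le hA le_rfl
        (isPGroup_autGroup_of_nilp hb hmax hn hle) (CfsgLib.Fusion.autInducedBy_le_autGroup hQ.1)]
      exact CfsgLib.Fusion.autInducedBy_le_autGroup hQ.1
    exact fun Q => Set.Subset.antisymm (hle Q) (inner_le_blockSystem hmax.1.1 Q)
  · intro h
    refine (nilp_iff_below hb hmax).2 fun Q f hle x hx hreg => ?_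
    have hmor : Cfsg.conjHom Q x ∈ (Cfsg.innerFusionSystem P).Hom Q := by
      rw [← h Q]
      exact ⟨x, (mor_self_iff hle (stab_le_normalizer hx)).2 hx, fun u => rfl⟩
    obtain ⟨-, g, hg, hgx⟩ := hmor
    have hgxq : ∀ q ∈ Q, x * q * x⁻¹ = g * q * g⁻¹ := fun q hq => hgx ⟨q, hq⟩
    have hgN : g ∈ Subgroup.normalizer (Q : Set G) := by
      refine mem_normalizer_of_cj_eq ?_
      conv_rhs => rw [← cj_eq_self (stab_le_normalizer hx)]
      exact (range_eq_cj (φ := Cfsg.conjHom Q x) hgx).symm.trans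
        (range_eq_cj (φ := Cfsg.conjHom Q x) fun u => rfl)
    have hxN := stab_le_normalizer hx
    have hα : Q.normalizerMonoidHom ⟨x, hxN⟩ = Q.normalizerMonoidHom ⟨g, hgN⟩ :=
      MulEquiv.ext fun q => Subtype.ext (hgxq q q.2)
    obtain ⟨m, hm⟩ := hS ⟨g, hg⟩
    have h1 : g ^ (p ^ m) = 1 := congrArg Subtype.val hm
    have h2 : orderOf (Q.normalizerMonoidHom ⟨x, hxN⟩) ∣ Nat.gcd (p ^ m) (orderOf x) := by
      refine Nat.dvd_gcd ?_ ?_
      · rw [hα]
        refine orderOf_dvd_of_pow_eq_one ?_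
        rw [← map_pow, show (⟨g, hgN⟩ : Subgroup.normalizer (Q : Set G)) ^ p ^ m = 1 from
          Subtype.ext h1, map_one]
      · refine orderOf_dvd_of_pow_eq_one ?_
        rw [← map_pow, show (⟨x, hxN⟩ : Subgroup.normalizer (Q : Set G)) ^ orderOf x = 1 from
          Subtype.ext (pow_orderOf_eq_one x), map_one]
    rw [((hp.out.coprime_iff_not_dvd.2 hreg).pow_left m).gcd_eq_one, Nat.dvd_one,
      orderOf_eq_one_iff, ← MonoidHom.mem_ker, Subgroup.normalizerMonoidHom_ker] at h2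
    exact h2

theorem defect_centralizer_of_nilp (hb : IsBlock (⊤ : Subgroup G) b)
    (hmax : IsMaxPair p ⊤ b P e) (hn : Nilp p ⊤ b) (hle : Le p ⊤ Q f P e) :
    IsDefectGrp p (Subgroup.centralizer (Q : Set G)) f
      (P ⊓ Subgroup.centralizer (Q : Set G)) := by
  refine (isFullyCentralized_iff hb hmax hle).1 ⟨hle.subgroup_le, fun R hR => ?_⟩
  obtain ⟨φ, hφ, rfl⟩ := hR
  rw [(nilp_iff_inner hb hmax).1 hn Q] at hφ
  obtain ⟨-, g, hg, hgφ⟩ := hφ
  rw [range_eq_cj hgφ]
  have : Cfsg.FusionSystem.centralizerIn P (cj g Q) =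
      cj g (Cfsg.FusionSystem.centralizerIn P Q) := by
    rw [Cfsg.FusionSystem.centralizerIn, Cfsg.FusionSystem.centralizerIn, ← cj_centralizer_eq,
      show cj g (P ⊓ Subgroup.centralizer (Q : Set G)) =
        cj g P ⊓ cj g (Subgroup.centralizer (Q : Set G)) from
        Subgroup.map_inf _ _ _ (MulAut.conj g).injective, cj_eq_self (Subgroup.le_normalizer hg)]
  rw [this, card_cj]

/-- Local blocks of a nilpotent block are nilpotent. -/
theorem Nilp.local_block (hb : IsBlock (⊤ : Subgroup G) b) (hn : Nilp p ⊤ b)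
    (hQ : BlockHas p ⊤ b Q f) : Nilp p (Subgroup.centralizer (Q : Set G)) f := by
  intro R g hR x hx hreg
  set C := Subgroup.centralizer (Q : Set G) with hC
  have hQf := hQ.1
  have hRN : R ≤ Subgroup.normalizer (Q : Set G) :=
    hR.1.1.trans (Subgroup.centralizer_le_normalizer _)
  have hU : IsPGroup p (Q ⊔ R : Subgroup G) := hQf.2.1.to_sup_of_normal_left' hR.1.2.1 hRN
  have hpair : IsPair p ⊤ (Q ⊔ R) g := ⟨le_top, hU, by
    rw [cent, top_inf_eq, centralizer_sup]; exact hR.1.2.2⟩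
  have hbr : br (Q ⊔ R) f = br R f := by
    rw [br_sup, br_eq_self (hQf.2.2.supp.mono inf_le_right)]
  have hstep : Step p ⊤ (Q, f) (Q ⊔ R, g) :=
    ⟨hQf, hpair, le_sup_left, sup_le Subgroup.le_normalizer hRN, fun u hu =>
      (sup_le hQf.le_stab (hR.1.1.trans (centralizer_le_stab hQf)) hu).2,
      by show br (Q ⊔ R) f * g = g; rw [hbr, hR.2]⟩
  have hbh := (blockHas_iff_of_le hb (Le.of_step hstep) hQf).1 hQ
  obtain ⟨⟨hxC, hxN⟩, hxg⟩ := hx
  have hxQR : x ∈ Subgroup.normalizer ((Q ⊔ R : Subgroup G) : Set G) :=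
    mem_normalizer_of_cj_eq (by
      rw [cj, Subgroup.map_sup]
      exact congrArg₂ (· ⊔ ·) (cj_eq_of_centralizer hxC) (cj_eq_self hxN))
  exact Subgroup.centralizer_le (SetLike.coe_subset_coe.2 le_sup_right)
    (hn _ g hbh x ⟨⟨trivial, hxQR⟩, hxg⟩ hreg)

/-! ### Abelian defect groups -/

/-- Control of fusion by the stabilizer of the maximal pair. -/
theorem exists_mul_of_abelian (hb : IsBlock (⊤ : Subgroup G) b) (hmax : IsMaxPair p ⊤ b P e)
    (hab : P ≤ Subgroup.centralizer (P : Set G)) (hle : Le p ⊤ Q f P e) {x : G}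
    (hx : x ∈ stab ⊤ Q f) :
    ∃ y ∈ stab ⊤ P e, ∃ c ∈ Subgroup.centralizer (Q : Set G), x = y * c := by
  have hPe := hmax.1.1
  have hQf := le_pair hPe hle
  set C := Subgroup.centralizer (Q : Set G) with hC
  have hQP := hle.subgroup_le
  have hPC : P ≤ C := hab.trans (Subgroup.centralizer_le (SetLike.coe_subset_coe.2 hQP))
  have hblk : IsBlock C f := isBlock_centralizer hQf
  have hCN : C ≤ Subgroup.normalizer (Q : Set G) := Subgroup.centralizer_le_normalizer _
  obtain ⟨g, hs, hlg⟩ := step_of_le hle hPe hQP le_rfl (hPC.trans hCN)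
  obtain rfl := le_unique hlg Le.refl'
  have hd : IsDefectGrp p C f P := by
    refine isDefectGrp_of_card hblk hPC hPe.2.1 hs.br_ne_zero fun S hS hSp hne => ?_
    obtain ⟨z, -, hzS⟩ := exists_conj_into hb hmax hle hQf
      (hS.trans (centralizer_le_stab hQf)) hSp hne
    exact (card_cj z S).symm.le.trans (Subgroup.card_le_of_le hzS)
  have hCP : Subgroup.centralizer (P : Set G) ≤ C :=
    Subgroup.centralizer_le (SetLike.coe_subset_coe.2 hQP)
  have hmax1 : IsMaxPair p C f P g := isMaxPair_of_defect hd ⟨hPe.of_top hPC hCP, hs.2.2.2.2.2⟩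
  have hs' : Step p ⊤ (Q, f) (cj x P, conjA k x g) := by
    obtain ⟨g', hs', hl'⟩ := step_of_le (Q := Q) (R := cj x P) (P := cj x P)
      (f := f) (e := conjA k x g) (by
        have := hle.conjA (x := x) trivial
        rwa [cj_eq_self (stab_le_normalizer hx), hx.2] at this) (hPe.conjA trivial)
      (by rw [← cj_eq_self (stab_le_normalizer hx)]; exact cj_mono x hQP) le_rfl
      (by
        have := cj_normalizer_le (hPC.trans hCN) x
        rwa [cj_eq_self (stab_le_normalizer hx)] at this)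
    obtain rfl := le_unique hl' Le.refl'
    exact hs'
  have hxPC : cj x P ≤ C := by
    have := cj_mono x hPC
    rwa [hC, cj_centralizer_eq, cj_eq_self (stab_le_normalizer hx)] at this
  have hd2 : IsDefectGrp p C f (cj x P) := isDefectGrp_of_card hblk hxPC (isPGroup_cj x hPe.2.1)
    hs'.br_ne_zero fun S hS hSp hne => (hd.card_le hS hSp hne).trans (card_cj x P).symm.le
  have hCP' : Subgroup.centralizer ((cj x P : Subgroup G) : Set G) ≤ C :=
    Subgroup.centralizer_le (SetLike.coe_subset_coe.2 hs'.2.2.1)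
  have hmax2 : IsMaxPair p C f (cj x P) (conjA k x g) :=
    isMaxPair_of_defect hd2 ⟨hs'.2.1.of_top hxPC hCP', hs'.2.2.2.2.2⟩
  obtain ⟨c, hc, hcP, hce⟩ := maxPairs_conj hblk hmax1 hmax2
  rw [cj_cj] at hcP
  rw [conjA_conjA] at hce
  have hy : c * x ∈ stab ⊤ P g := ⟨⟨trivial, mem_normalizer_of_cj_eq hcP⟩, hce⟩
  refine ⟨c * x, hy, (c * x)⁻¹ * c⁻¹ * (c * x), ?_, by group⟩
  have hcxN : c * x ∈ Subgroup.normalizer (Q : Set G) := mul_mem (hCN hc) (stab_le_normalizer hx)
  have h1 := (Subgroup.mem_normalizer_iff.1 (inv_mem (le_normalizer_centralizer Q hcxN)) c⁻¹).1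
    (C.inv_mem hc)
  simpa using h1

theorem stab_inf_normalizer_le (hPe : IsPair p ⊤ P e) (hle : Le p ⊤ Q f P e) :
    stab ⊤ P e ⊓ Subgroup.normalizer (Q : Set G) ≤ stab ⊤ Q f := fun y hy => by
  refine ⟨⟨trivial, hy.2⟩, le_unique ?_ hle⟩
  have := hle.conjA (x := y) trivial
  rwa [cj_eq_self hy.2, cj_eq_self (stab_le_normalizer hy.1), hy.1.2] at this

theorem nilp_iff_of_abelian (hb : IsBlock (⊤ : Subgroup G) b) (hmax : IsMaxPair p ⊤ b P e)
    (hab : P ≤ Subgroup.centralizer (P : Set G)) :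
    Nilp p ⊤ b ↔ stab ⊤ P e ≤ Subgroup.centralizer (P : Set G) := by
  constructor
  · intro hn x hx
    have hA := isFullyAutomized_top hb hmax
    have hX := CfsgLib.Fusion.eq_autInducedBy_of_le hA le_rfl
      (isPGroup_autGroup_of_nilp hb hmax hn (Le.refl' (Q := P) (f := e)))
      (CfsgLib.Fusion.autInducedBy_le_autGroup le_rfl)
    have h1 := mem_autGroup_of_stab (hPe := hmax.1.1) Le.refl' hx
    rw [hX, mem_autInducedBy_iff] at h1
    obtain ⟨g, hg, -, hgα⟩ := h1
    refine Subgroup.mem_centralizer_iff.2 fun q hq => ?_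
    have h2 : x * q * x⁻¹ = g * q * g⁻¹ := hgα ⟨q, hq⟩
    rw [← Subgroup.mem_centralizer_iff.1 (hab hg) q hq, mul_inv_cancel_right,
      mul_inv_eq_iff_eq_mul] at h2
    exact h2.symm
  · intro h
    refine (nilp_iff_below hb hmax).2 fun Q f hle x hx _ => ?_
    obtain ⟨y, hy, c, hc, rfl⟩ := exists_mul_of_abelian hb hmax hab hle hx
    exact mul_mem (Subgroup.centralizer_le (SetLike.coe_subset_coe.2 hle.subgroup_le) (h hy)) hc

/-! ### Change of the ambient group -/

theorem nilp_map_iff {X : Type*} [Group X] [Finite X] {φ : X →* G} (hφ : Function.Injective φ)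
    {H : Subgroup X} {c : GA k X} : Nilp p (H.map φ) (emb φ c) ↔ Nilp p H c := by
  constructor
  · intro h Q g hQ x hx hreg
    exact (map_mem_centralizer_iff hφ).1
      (h _ _ ((blockHas_map_iff hφ).2 hQ) (φ x) ((map_mem_stab_iff hφ).2 hx)
        ((isPRegular_map hφ).2 hreg))
  · intro h Q g hQ x hx hreg
    obtain ⟨Q, rfl⟩ : ∃ Q' : Subgroup X, Q'.map φ = Q :=
      ⟨Q.comap φ, Subgroup.map_comap_eq_self (hQ.1.1.trans (Subgroup.map_le_range φ H))⟩
    obtain ⟨g, rfl⟩ := exists_emb_of_isSupp hφ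
      (hQ.1.2.2.supp.mono (inf_le_left.trans (Subgroup.map_le_range φ H)))
    obtain ⟨x, -, rfl⟩ := stab_le hx
    exact (map_mem_centralizer_iff hφ).2
      (h _ _ ((blockHas_map_iff hφ).1 hQ) x ((map_mem_stab_iff hφ).1 hx)
        ((isPRegular_map hφ).1 hreg))

section Bridge

open Cfsg
open CfsgLib.Blocks (Res)

universe u

variable {G : Type u} [Group G] [Finite G] {M : Ideal AlgInt} [M.IsPrime]
variable {p : ℕ} [hp : Fact p.Prime] [CharP (Res M) p] [IsAlgClosed (Res M)]

theorem isNilpotentBlock_gblk_iff {B : Set (IrrCharacter G)} (hB : Cfsg.IsPBlock M B) :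
    Cfsg.IsNilpotentBlock p M B ↔ Nilp p ⊤ (gblk M B) := by
  constructor
  · intro h Q g hQ x hx hreg
    obtain ⟨g, hg, rfl⟩ := exists_eq_sblk (M := M) (isBlock_centralizer hQ.1)
    exact h.2 Q g ((isBrauerPairOf_iff hB hg).2 hQ) x (stab_le_normalizer hx)
      ((stabilizesBlock_iff hg).2 ⟨le_normalizer_centralizer Q (stab_le_normalizer hx), hx.2⟩) hreg
  · refine fun h => ⟨hB, fun Q g hQ x hx hst hreg => ?_⟩
    exact h Q _ ((isBrauerPairOf_iff hB hQ.1.2).1 hQ) x
      ⟨⟨trivial, hx⟩, ((stabilizesBlock_iff hQ.1.2).1 hst).2⟩ hreg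

theorem isNilpotentBlock_sblk_iff {K : Subgroup G} {f : Set (IrrCharacter K)}
    (hf : Cfsg.IsPBlock M f) : Cfsg.IsNilpotentBlock p M f ↔ Nilp p K (sblk M K f) := by
  rw [isNilpotentBlock_gblk_iff hf, ← nilp_map_iff K.subtype_injective, ← MonoidHom.range_eq_map,
    K.range_subtype]
  have : sblk M K f = emb K.subtype (gblk M f) := by
    rw [sblk, gblk, blkE, blkE]
    congr 1
    exact ga_ext fun g =>
      (emb_coeff_apply (φ := MonoidHom.id K) Function.injective_id _ g).symm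
  rw [this]

end Bridge

end CfsgLib.BlockPairs
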