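import Cfsg.Agent.BlockPairs.Maximal

/-!
# Defect groups along a normal subgroup of p-power index

If an idempotent is a block both of `⊤` and of a normal subgroup `N` of p-power index, a defect
class splits off no conjugates, so some defect group `D` satisfies `N ⊔ D = ⊤` and `D ⊓ N` is a
defect group in `N` (`isDefectGrp_inf_of_index`).
-/

set_option autoImplicit false
set_option linter.unusedSectionVars false
set_option linter.style.haveILetI false

namespace CfsgLib.BlockPairs

variable {F G : Type*} [Field F] [Group G] [Finite G] [IsAlgClosed F] {p : ℕ} [hp : Fact p.Prime]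
  [CharP F p]

theorem isNilpotent_conjA {a : GA F G} (ha : IsNilpotent a) (x : G) :
    IsNilpotent (conjA F x a) := by
  obtain ⟨n, hn⟩ := ha
  refine ⟨n, ?_⟩
  have : ∀ k, (conjA F x a) ^ k = conjA F x (a ^ k) := fun k => by
    induction k with
    | zero => rw [pow_zero, pow_zero, conjA_one]
    | succ k ih => rw [pow_succ, pow_succ, ih, conjA_mul]
  rw [this, hn, conjA_zero]

open Classical in
theorem exists_class_inf_of_index {K N : Subgroup G} [hNn : N.Normal] (hNK : N ≤ K) {k : ℕ}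
    (hN : N.relIndex K = p ^ k) {b : GA F G} (hbN : IsBlock N b) (hbG : IsBlock K b)
    {g : G} (hg : g ∈ N) (hom : omega K b (classSum F K g) ≠ 0) :
    (∀ x ∈ K, ∃ c ∈ K ⊓ Subgroup.centralizer ({g} : Set G), c⁻¹ * x ∈ N) ∧
      omega N b (classSum F N g) ≠ 0 := by
  letI act : MulAction K (GA F G) :=
    { smul := fun x a => conjA F (x : G) a
      one_smul := fun a => conjA_one_left a
      mul_smul := fun x y a => (conjA_conjA (x : G) y a).symm }
  have hcj : ∀ x, cj x N = N := fun x =>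
    cj_eq_self (by rw [Subgroup.normalizer_eq_top (H := N)]; exact Subgroup.mem_top x)
  set a := classSum F N g with ha
  have haN : a ∈ sub N N := classSum_mem_sub hg
  set S := (Set.toFinite (Set.range fun x : K => conjA F (x : G) a)).toFinset with hS
  have hSmem : ∀ u ∈ S, u ∈ sub N N ∧ omega N b u = omega N b a := by
    intro u hu
    obtain ⟨x, rfl⟩ := (Set.Finite.mem_toFinset _).1 hu
    have hx : conjA F (x : G) a ∈ sub N N := by
      have := conjA_mem_sub haN (x : G)
      rwa [hcj] at this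
    refine ⟨hx, omega_unique hbN hx ?_⟩
    have h := isNilpotent_conjA (isNilpotent_omega hbN haN) (x : G)
    rwa [conjA_sub, conjA_mul, conjA_smul, hbG.fixed x x.2] at h
  -- the class is the sum of the orbit
  have hdisj : ∀ y u : G, (conjA F y a).coeff u ≠ 0 →
      ∃ n ∈ N, n * (y * g * y⁻¹) * n⁻¹ = u := by
    intro y u h
    rw [conjA_coeff, ha, classSum_coeff] at h
    obtain ⟨n, hn, he⟩ : ∃ n ∈ N, n * g * n⁻¹ = y⁻¹ * u * y := by
      by_contra hc
      exact h (if_neg hc)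
    refine ⟨y * n * y⁻¹, hNn.conj_mem n hn y, ?_⟩
    calc y * n * y⁻¹ * (y * g * y⁻¹) * (y * n * y⁻¹)⁻¹ = y * (n * g * n⁻¹) * y⁻¹ := by group
      _ = u := by rw [he]; group
  have hval : ∀ y u : G, (∃ n ∈ N, n * (y * g * y⁻¹) * n⁻¹ = u) →
      (conjA F y a).coeff u = 1 := by
    rintro y u ⟨n, hn, rfl⟩
    rw [conjA_coeff, ha, classSum_coeff, if_pos]
    refine ⟨y⁻¹ * n * y, by simpa using hNn.conj_mem n hn y⁻¹, ?_⟩
    group
  have hsum : classSum F K g = ∑ u ∈ S, u := by
    refine ga_ext fun u => ?_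
    rw [MonoidAlgebra.coeff_sum, Finsupp.finsetSum_apply, classSum_coeff]
    split_ifs with h
    · obtain ⟨x, hxK, rfl⟩ := h
      rw [Finset.sum_eq_single (conjA F x a)]
      · exact (hval x _ ⟨1, N.one_mem, by simp⟩).symm
      · intro v hv hne
        obtain ⟨⟨y, hyK⟩, rfl⟩ := (Set.Finite.mem_toFinset _).1 hv
        by_contra h0
        obtain ⟨n, hn, he⟩ := hdisj y _ h0
        refine hne (ga_ext fun w => ?_)
        have iff : (∃ m ∈ N, m * (y * g * y⁻¹) * m⁻¹ = w) ↔
            ∃ m ∈ N, m * (x * g * x⁻¹) * m⁻¹ = w := by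
          constructor
          · rintro ⟨m, hm, rfl⟩
            refine ⟨m * n⁻¹, N.mul_mem hm (N.inv_mem hn), ?_⟩
            rw [← he]
            group
          · rintro ⟨m, hm, rfl⟩
            refine ⟨m * n, N.mul_mem hm hn, ?_⟩
            rw [← he]
            group
        by_cases hw : ∃ m ∈ N, m * (y * g * y⁻¹) * m⁻¹ = w
        · rw [hval y w hw, hval x w (iff.1 hw)]
        · rw [not_not.1 fun h1 => hw (hdisj y w h1), not_not.1 fun h1 => hw (iff.2 (hdisj x w h1))]
      · intro h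
        exact absurd ((Set.Finite.mem_toFinset _).2
          (Set.mem_range_self (f := fun y : K => conjA F (y : G) a) ⟨x, hxK⟩)) h
    · refine (Finset.sum_eq_zero fun v hv => ?_).symm
      obtain ⟨⟨y, hyK⟩, rfl⟩ := (Set.Finite.mem_toFinset _).1 hv
      by_contra h0
      obtain ⟨n, hn, he⟩ := hdisj y u h0
      exact h ⟨n * y, K.mul_mem (hNK hn) hyK, by rw [← he]; group⟩
  have hz : classSum F K g ∈ sub N N := hsum ▸ Subalgebra.sum_mem _ fun u hu => (hSmem u hu).1
  have hzG : classSum F K g ∈ sub K K := classSum_mem_sub (hNK hg)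
  rw [omega_unique hbG hzG (isNilpotent_omega hbN hz)] at hom
  rw [hsum, omega_sum hbN _ _ (fun u hu => (hSmem u hu).1),
    Finset.sum_congr rfl fun u hu => (hSmem u hu).2, Finset.sum_const, nsmul_eq_mul] at hom
  obtain ⟨hcard, ha0⟩ := mul_ne_zero_iff.1 hom
  refine ⟨fun x hxK => ?_, ha0⟩
  -- the orbit has one element
  have horb : S.card = (MulAction.stabilizer K a).index := by
    haveI : Finite (MulAction.orbit K a) := (Set.finite_range _).to_subtype
    rw [MulAction.index_stabilizer, Set.ncard_eq_toFinset_card _ (Set.toFinite _)]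
    rfl
  have hNle : N.subgroupOf K ≤ MulAction.stabilizer K a := fun n hn => haN.2 n hn
  obtain ⟨j, -, hj⟩ := (Nat.dvd_prime_pow hp.out).1
    (hN ▸ Subgroup.index_dvd_of_le hNle : (MulAction.stabilizer K a).index ∣ p ^ k)
  have hj0 : j = 0 := by
    by_contra hne
    refine hcard ?_
    rw [horb, hj, Nat.cast_pow, CharP.cast_eq_zero, zero_pow hne]
  have hx : (⟨x, hxK⟩ : K) ∈ MulAction.stabilizer K a := by
    rw [Subgroup.index_eq_one.1 (by rw [hj, hj0, pow_zero] : (MulAction.stabilizer K a).index = 1)]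
    exact Subgroup.mem_top _
  have h1 : (conjA F x a).coeff (x * g * x⁻¹) = 1 := hval x _ ⟨1, N.one_mem, by simp⟩
  rw [show conjA F x a = a from hx, ha, classSum_coeff] at h1
  obtain ⟨n, hn, he⟩ : ∃ n ∈ N, n * g * n⁻¹ = x * g * x⁻¹ := by
    by_contra hc
    rw [if_neg hc] at h1
    exact zero_ne_one h1
  refine ⟨n⁻¹ * x, ⟨K.mul_mem (K.inv_mem (hNK hn)) hxK,
    Subgroup.mem_centralizer_singleton_iff.2 ?_⟩, by
    rw [mul_inv_rev, inv_inv, mul_assoc]
    simpa [mul_assoc] using hNn.conj_mem n hn x⁻¹⟩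
  calc n⁻¹ * x * g = n⁻¹ * (x * g * x⁻¹) * x := by group
    _ = g * (n⁻¹ * x) := by rw [← he]; group

/-- A defect group covers the quotient and meets `N` in a defect group. -/
theorem isDefectGrp_inf_of_index {N : Subgroup G} [hNn : N.Normal] {k : ℕ} (hN : N.index = p ^ k)
    {b : GA F G} (hbN : IsBlock N b) (hbG : IsBlock (⊤ : Subgroup G) b) {P : Subgroup G}
    (hP : IsDefectGrp p ⊤ b P) : N ⊔ P = ⊤ ∧ IsDefectGrp p N b (P ⊓ N) := by
  classical
  obtain ⟨g₀, -, hcoeff, hom⟩ := exists_class_omega_ne_zero hbG hbG.mem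
    (by rw [omega_self hbG]; exact one_ne_zero)
  obtain ⟨D₀, hD₀, hD₀p, hmax₀⟩ := exists_sylow_le (p := p)
    ((⊤ : Subgroup G) ⊓ Subgroup.centralizer ({g₀} : Set G))
  have hdef₀ : IsDefectGrp p ⊤ b D₀ := exists_defectGrp_of_class hbG (Subgroup.mem_top _) hcoeff
    hom hD₀ hD₀p fun R hR hRp => by
      obtain ⟨c, hc, hle⟩ := hmax₀ R hR hRp
      exact ⟨c, hc.1, hle⟩
  obtain ⟨x, -, hx⟩ := hP.conj_of hdef₀
  -- conjugate the class along with the defect group
  set g := x * g₀ * x⁻¹ with hgdef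
  have hg : g ∈ N := hNn.conj_mem g₀ (hbN.supp g₀ hcoeff) x
  have hK : classSum F ⊤ g = classSum F ⊤ g₀ := ga_ext fun u => by
    rw [classSum_coeff, classSum_coeff]
    refine if_congr ⟨?_, ?_⟩ rfl rfl
    · rintro ⟨h, -, rfl⟩
      exact ⟨h * x, Subgroup.mem_top _, by rw [hgdef]; group⟩
    · rintro ⟨h, -, rfl⟩
      exact ⟨h * x⁻¹, Subgroup.mem_top _, by rw [hgdef]; group⟩
  obtain ⟨hsplit, hom'⟩ := exists_class_inf_of_index le_top (by rwa [Subgroup.relIndex_top_right])
    hbN hbG hg (hK ▸ hom)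
  have hcoeff' : b.coeff g ≠ 0 := by
    rw [hgdef, hbG.fixed.coeff' (Subgroup.mem_top x)]
    exact hcoeff
  set C := Subgroup.centralizer ({g} : Set G) with hC
  have hD₀C : D₀ ≤ Subgroup.centralizer ({g₀} : Set G) := hD₀.trans inf_le_right
  have hPC : P ≤ C := by
    rw [← hx]
    intro u hu
    have h1 := Subgroup.mem_centralizer_singleton_iff.1 (hD₀C (mem_cj.1 hu))
    refine Subgroup.mem_centralizer_singleton_iff.2 ?_
    calc u * g = x * ((x⁻¹ * u * x) * g₀) * x⁻¹ := by rw [hgdef]; group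
      _ = g * u := by rw [h1, hgdef]; group
  have hPmax : ∀ R : Subgroup G, R ≤ C → IsPGroup p R → ∃ c ∈ C, cj c R ≤ P := by
    intro R hR hRp
    obtain ⟨c, hc, hle⟩ := hmax₀ (cj x⁻¹ R) (le_inf le_top fun u hu => by
      rw [mem_cj, inv_inv] at hu
      have h1 := Subgroup.mem_centralizer_singleton_iff.1 (hR hu)
      refine Subgroup.mem_centralizer_singleton_iff.2 ?_
      calc u * g₀ = x⁻¹ * ((x * u * x⁻¹) * g) * x := by rw [hgdef]; group
        _ = g₀ * u := by rw [h1, hgdef]; group) (isPGroup_cj _ hRp)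
    refine ⟨x * c * x⁻¹, ?_, ?_⟩
    · have h1 := Subgroup.mem_centralizer_singleton_iff.1 hc.2
      refine Subgroup.mem_centralizer_singleton_iff.2 ?_
      calc x * c * x⁻¹ * g = x * (c * g₀) * x⁻¹ := by rw [hgdef]; group
        _ = g * (x * c * x⁻¹) := by rw [h1, hgdef]; group
    · rw [← hx, ← cj_cj, ← cj_cj]
      exact cj_mono x hle
  -- `C = (C ⊓ N) P`
  have hCN : C ≤ (C ⊓ N) ⊔ P := by
    rw [← Subgroup.relIndex_eq_one, ← Nat.dvd_one]
    obtain ⟨Q, hQ⟩ := IsPGroup.exists_le_sylow (P := P.subgroupOf C)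
      (hP.2.1.of_equiv (Subgroup.subgroupOfEquivOfLe hPC).symm)
    have hPQ : (Q : Subgroup C) = P.subgroupOf C := by
      obtain ⟨c, hc, hle⟩ := hPmax ((Q : Subgroup C).map C.subtype) (Subgroup.map_subtype_le _)
        (Q.2.map _)
      refine (Subgroup.eq_of_le_of_card_ge hQ ?_).symm
      rw [Nat.card_congr (Subgroup.subgroupOfEquivOfLe hPC).toEquiv,
        ← Subgroup.card_subtype C Q, ← card_cj c]
      exact Subgroup.card_le_of_le hle
    have h1 : ((C ⊓ N) ⊔ P).relIndex C ∣ p ^ k :=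
      (Subgroup.relIndex_dvd_of_le_left C le_sup_left).trans
        (by rw [Subgroup.inf_relIndex_left]; exact hN ▸ Subgroup.relIndex_dvd_index_of_normal N C)
    have h2 : ((C ⊓ N) ⊔ P).relIndex C ∣ P.relIndex C :=
      Subgroup.relIndex_dvd_of_le_left C le_sup_right
    have h3 : ¬ p ∣ P.relIndex C := by
      rw [Subgroup.relIndex, ← hPQ]
      exact Q.not_dvd_index
    refine (Nat.dvd_gcd h1 h2).trans (dvd_of_eq ?_)
    exact (hp.out.coprime_iff_not_dvd.2 h3).pow_left k
  refine ⟨?_, exists_defectGrp_of_class hbN hg hcoeff' hom'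
    (le_inf inf_le_right (inf_le_left.trans hPC)) (hP.2.1.to_le inf_le_left) ?_⟩
  · refine eq_top_iff.2 fun u _ => ?_
    obtain ⟨c, ⟨-, hc⟩, hcu⟩ := hsplit u (Subgroup.mem_top u)
    have h1 : c ∈ N ⊔ P :=
      (sup_le (inf_le_right.trans le_sup_left) le_sup_right : (C ⊓ N) ⊔ P ≤ N ⊔ P) (hCN hc)
    have := mul_mem h1 (Subgroup.mem_sup_left hcu : c⁻¹ * u ∈ N ⊔ P)
    simpa using this
  · intro R hR hRp
    obtain ⟨c, hc, hle⟩ := hPmax R (hR.trans inf_le_right) hRp
    have hnorm : P ≤ Subgroup.normalizer ((C ⊓ N : Subgroup G) : Set G) := fun d hd =>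
      mem_normalizer_of_cj_eq (by
        rw [cj, Subgroup.map_inf _ _ _ (MulAut.conj d).injective]
        exact congrArg₂ (· ⊓ ·) (cj_eq_self (Subgroup.le_normalizer (hPC hd)))
          (cj_eq_self (by rw [Subgroup.normalizer_eq_top (H := N)]; exact Subgroup.mem_top d)))
    have hc' := hCN hc
    rw [← SetLike.mem_coe, sup_comm,
      Subgroup.coe_mul_of_left_le_normalizer_right P (C ⊓ N) hnorm] at hc'
    obtain ⟨d, hd, n, hn, rfl⟩ := Set.mem_mul.1 hc'
    refine ⟨n, hn.2, le_inf ?_ (cj_le_of_mem hn.2 (hR.trans inf_le_left))⟩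
    have h2 := cj_mono d⁻¹ hle
    rwa [← cj_cj d n, cj_inv_cj, cj_eq_self (Subgroup.le_normalizer (P.inv_mem hd))] at h2

end CfsgLib.BlockPairs
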