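import Cfsg.Agent.BlockPairs.Nilpotent
import Cfsg.Agent.Blocks.RegularSupport

/-!
# Blocks and normal subgroups of p-power index

Idempotents of centres are supported on p-regular elements (`coeff_eq_zero_of_singular`), so for a
normal subgroup `N` containing all p-regular elements the blocks of `K` are the orbit sums of the
blocks of `K ⊓ N` (`isBlock_orbitSum_of_index`).  A stable block is nilpotent in `N` exactly when
it is nilpotent in the whole group (`nilp_iff_of_index`).
-/

set_option autoImplicit false
set_option linter.unusedSectionVars false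
set_option linter.style.haveILetI false

namespace CfsgLib.BlockPairs

open Cfsg
open CfsgLib.Blocks (Res)

universe u

variable {G : Type u} [Group G] [Finite G] {M : Ideal AlgInt} [M.IsPrime]
variable {p : ℕ} [hp : Fact p.Prime]

theorem IsBlock.coeff_eq_zero_of_singular (hM : Cfsg.IsPModular p M) {K : Subgroup G}
    {e : GA (Res M) G} (he : IsBlock K e) {g : G} (hg : p ∣ orderOf g) : e.coeff g = 0 := by
  obtain ⟨f, hf, rfl⟩ := exists_eq_sblk (M := M) he
  haveI := Fintype.ofFinite K
  rw [sblk_coeff, Cfsg.subgroupBlockCoeff]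
  split_ifs with h
  · rw [CfsgLib.Blocks.blockCoeff_eq_zero_of_singular hM
      (CfsgLib.Blocks.isBlockUnion_of_isPBlock hf) (by rwa [Subgroup.orderOf_mk]), redC_zero]
  · exact redC_zero

/-- Central idempotents are supported on p-regular elements. -/
theorem isSupp_of_regular_mem (hM : Cfsg.IsPModular p M) {K N : Subgroup G}
    (hreg : ∀ x ∈ K, Cfsg.IsPRegular p x → x ∈ N) {u : GA (Res M) G} (hu : u ∈ sub K K)
    (huu : u * u = u) : IsSupp (K ⊓ N) u := by
  classical
  refine fun g hg => ⟨hu.1 g hg, by_contra fun hgN => hg ?_⟩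
  rw [← sum_blocks_below hu huu, MonoidAlgebra.coeff_sum, Finsupp.finsetSum_apply]
  exact Finset.sum_eq_zero fun e he => (mem_blocks.1 (Finset.mem_filter.1 he).1).coeff_eq_zero_of_singular
    hM (not_not.1 fun h => hgN (hreg g (hu.1 g hg) h))

theorem mem_of_index_pow (N : Subgroup G) [N.Normal] {n : ℕ} (hN : N.index = p ^ n) {x : G}
    (hx : Cfsg.IsPRegular p x) : x ∈ N := by
  rw [← QuotientGroup.eq_one_iff, ← orderOf_eq_one_iff, ← Nat.dvd_one]
  have h1 : orderOf (x : G ⧸ N) ∣ Nat.gcd (orderOf x) (p ^ n) :=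
    Nat.dvd_gcd (orderOf_map_dvd (QuotientGroup.mk' N) x)
      (hN ▸ N.index_eq_card ▸ orderOf_dvd_natCard _)
  rwa [((hp.out.coprime_iff_not_dvd.2 hx).pow_left n).symm.gcd_eq_one] at h1

section Orbit

variable [CharP (Res M) p] [IsAlgClosed (Res M)] {K N : Subgroup G}

theorem normalizes_inf (hNn : N.Normal) {x : G} (hx : x ∈ Subgroup.normalizer (K : Set G)) :
    cj x (K ⊓ N) = K ⊓ N := by
  rw [cj, Subgroup.map_inf _ _ _ (MulAut.conj x).injective]
  exact congrArg₂ (· ⊓ ·) (cj_eq_self hx)
    (cj_eq_self (by rw [Subgroup.normalizer_eq_top (H := N)]; exact Subgroup.mem_top x))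

theorem isBlock_conjA_inf (hNn : N.Normal) {g : GA (Res M) G} (hg : IsBlock (K ⊓ N) g) {x : G}
    (hx : x ∈ Subgroup.normalizer (K : Set G)) : IsBlock (K ⊓ N) (conjA (Res M) x g) := by
  have := hg.conjA x
  rwa [normalizes_inf hNn hx] at this

theorem orbitSum_mul_block (hNn : N.Normal) {g : GA (Res M) G} (hg : IsBlock (K ⊓ N) g)
    {e : GA (Res M) G} (he : IsBlock (K ⊓ N) e) :
    orbitSum K g * e = e ∧ (∃ y ∈ K, conjA (Res M) y g = e) ∨ orbitSum K g * e = 0 := by
  classical
  rw [orbitSum, mul_sum_blocks_eq ?_ he]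
  · split_ifs with h
    · obtain ⟨y, hy⟩ := (Set.Finite.mem_toFinset _).1 h
      exact .inl ⟨rfl, y, y.2, hy⟩
    · exact .inr rfl
  · intro a ha
    obtain ⟨y, rfl⟩ := (Set.Finite.mem_toFinset _).1 ha
    exact isBlock_conjA_inf hNn hg (Subgroup.le_normalizer y.2)

theorem orbitSum_mul_mem (hNn : N.Normal) {g : GA (Res M) G} (hg : IsBlock (K ⊓ N) g) {y : G}
    (hy : y ∈ K) : orbitSum K g * conjA (Res M) y g = conjA (Res M) y g := by
  classical
  rw [orbitSum, mul_sum_blocks_eq ?_ (isBlock_conjA_inf hNn hg (Subgroup.le_normalizer hy)), if_pos]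
  · exact (Set.Finite.mem_toFinset _).2 ⟨⟨y, hy⟩, rfl⟩
  · intro a ha
    obtain ⟨z, rfl⟩ := (Set.Finite.mem_toFinset _).1 ha
    exact isBlock_conjA_inf hNn hg (Subgroup.le_normalizer z.2)

theorem orbitSum_mul_self' (hNn : N.Normal) {g : GA (Res M) G} (hg : IsBlock (K ⊓ N) g) :
    orbitSum K g * g = g := by
  simpa [conjA_one_left] using orbitSum_mul_mem hNn hg K.one_mem

/-- The orbit sum of a block of `K ⊓ N` is a block of `K`. -/
theorem isBlock_orbitSum_of_index (hM : Cfsg.IsPModular p M) (hNn : N.Normal)
    (hreg : ∀ x ∈ K, Cfsg.IsPRegular p x → x ∈ N) {g : GA (Res M) G} (hg : IsBlock (K ⊓ N) g) :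
    IsBlock K (orbitSum K g) := by
  classical
  have hmem : ∀ a ∈ (Set.toFinite (Set.range fun y : K => conjA (Res M) (y : G) g)).toFinset,
      IsBlock (K ⊓ N) a := fun a ha => by
    obtain ⟨y, rfl⟩ := (Set.Finite.mem_toFinset _).1 ha
    exact isBlock_conjA_inf hNn hg (Subgroup.le_normalizer y.2)
  have hsupp : orbitSum K g ∈ sub (K ⊓ N) (K ⊓ N) :=
    Subalgebra.sum_mem _ fun a ha => (hmem a ha).mem
  refine ⟨⟨hsupp.1.mono inf_le_left, isFixed_orbitSum K g⟩, ?_, ?_, fun u hu huu => ?_⟩
  · conv_lhs => arg 2; rw [orbitSum]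
    rw [Finset.mul_sum, orbitSum]
    refine Finset.sum_congr rfl fun a ha => ?_
    rw [mul_sum_blocks_eq hmem (hmem a ha), if_pos ha]
  · intro h0
    apply hg.ne_zero
    rw [← orbitSum_mul_self' hNn hg, h0, zero_mul]
  · have huc : u ∈ sub (K ⊓ N) (K ⊓ N) :=
      ⟨isSupp_of_regular_mem hM hreg hu huu, hu.2.mono inf_le_left⟩
    rw [orbitSum, Finset.mul_sum]
    rcases hg.dichotomy huc huu with h1 | h1
    · left
      refine Finset.sum_eq_zero fun a ha => ?_
      obtain ⟨y, rfl⟩ := (Set.Finite.mem_toFinset _).1 ha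
      rw [← hu.2 y y.2, ← conjA_mul, h1, conjA_zero]
    · right
      refine Finset.sum_congr rfl fun a ha => ?_
      obtain ⟨y, rfl⟩ := (Set.Finite.mem_toFinset _).1 ha
      rw [← hu.2 y y.2, ← conjA_mul, h1]

end Orbit

variable [CharP (Res M) p] [IsAlgClosed (Res M)]

/-- Stable blocks along a normal subgroup of p-power index: nilpotency is the same. -/
theorem nilp_iff_of_index (hM : Cfsg.IsPModular p M) {N : Subgroup G} [hNn : N.Normal] {n : ℕ}
    (hN : N.index = p ^ n) {c : GA (Res M) G} (hcN : IsBlock N c)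
    (hcG : IsBlock (⊤ : Subgroup G) c) : Nilp p N c ↔ Nilp p ⊤ c := by
  classical
  have hreg : ∀ x, Cfsg.IsPRegular p x → x ∈ N := fun x hx => mem_of_index_pow N hN hx
  have hcent : ∀ R : Subgroup G, cent N R = Subgroup.centralizer (R : Set G) ⊓ N := fun R =>
    inf_comm _ _
  constructor
  · intro hn Q g hQ x hx hxreg
    have key : ∀ m : ℕ, ∀ y : G, orderOf y = m → y ∈ stab ⊤ Q g → ¬ p ∣ m →
        y ∈ Subgroup.centralizer (Q : Set G) := by
      intro m
      induction m using Nat.recOnPrimeCoprime with
      | zero =>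
        intro y hy
        exact absurd hy (orderOf_pos y).ne'
      | coprime a b ha hb hab iha ihb =>
        intro y hy hys hpm
        have hya : orderOf (y ^ a) = b := by
          rw [orderOf_pow, hy, Nat.gcd_eq_right (Dvd.intro b rfl), Nat.mul_div_cancel_left _ (by omega)]
        have hyb : orderOf (y ^ b) = a := by
          rw [orderOf_pow, hy, Nat.gcd_eq_right (Dvd.intro_left a rfl), Nat.mul_div_cancel _ (by omega)]
        have h1 := ihb _ hya (pow_mem hys _) fun h => hpm (h.mul_left a)
        have h2 := iha _ hyb (pow_mem hys _) fun h => hpm (h.mul_right b)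
        have hbez := Nat.gcd_eq_gcd_ab a b
        rw [hab.gcd_eq_one, Nat.cast_one] at hbez
        have : y = (y ^ a) ^ Nat.gcdA a b * (y ^ b) ^ Nat.gcdB a b := by
          rw [← zpow_natCast, ← zpow_natCast, ← zpow_mul, ← zpow_mul, ← zpow_add, ← hbez, zpow_one]
        rw [this]
        exact mul_mem (zpow_mem h1 _) (zpow_mem h2 _)
      | prime_pow q l hq =>
        intro y hy hys hpm
        rcases Nat.eq_zero_or_pos l with rfl | hl
        · rw [pow_zero, orderOf_eq_one_iff] at hy
          subst hy
          exact one_mem _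
        have hyreg : Cfsg.IsPRegular p y := fun h => hpm (hy ▸ h)
        haveI : Fact q.Prime := ⟨hq⟩
        have hyN : y ∈ N := hreg y hyreg
        set R := Q ⊓ N with hR
        obtain ⟨h, hh, hle⟩ := exists_below hQ.1 (inf_le_left : R ≤ Q)
        have hyR : y ∈ Subgroup.normalizer (R : Set G) :=
          mem_normalizer_of_cj_eq (normalizes_inf hNn hys.1.2)
        have hyh : conjA (Res M) y h = h := by
          refine le_unique ?_ hle
          have := hle.conjA (x := y) trivial
          rwa [cj_eq_self hyR, cj_eq_self hys.1.2, hys.2] at this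
        have hhR := (blockHas_iff_of_le hcG hle hh).2 hQ
        set K := Subgroup.centralizer (R : Set G) with hK
        have hhK : IsBlock K h := isBlock_centralizer hh
        have hhC : h ∈ sub (K ⊓ N) (K ⊓ N) :=
          ⟨isSupp_of_regular_mem hM (fun x _ => hreg x) hhK.mem hhK.idem, hhK.fixed.mono inf_le_left⟩
        obtain ⟨h1, hh1, hhh1⟩ := exists_isBlock_below hhC hhK.idem hhK.ne_zero
        have hsum : orbitSum K h1 = h := by
          refine (isBlock_orbitSum_of_index hM hNn (fun x _ => hreg x) hh1).eq_of_mul_ne_zero hhK fun h0 =>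
            hh1.ne_zero ?_
          have := congrArg (· * h1) h0
          simp only [mul_assoc, hhh1, orbitSum_mul_self' hNn hh1, zero_mul] at this
          exact this
        set S : Finset (GA (Res M) G) :=
          (Set.toFinite (Set.range fun z : K => conjA (Res M) (z : G) h1)).toFinset with hS
        have hyK : y ∈ Subgroup.normalizer (K : Set G) := le_normalizer_centralizer R hyR
        have hact : ∀ z : Subgroup.zpowers y, ∀ a ∈ S, conjA (Res M) (z : G) a ∈ S := by
          intro z a ha
          obtain ⟨w, hw⟩ := (Set.Finite.mem_toFinset _).1 ha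
          have hzy : (z : G) ∈ stab ⊤ R h :=
            Subgroup.zpowers_le.2 (show y ∈ stab ⊤ R h from ⟨⟨trivial, hyR⟩, hyh⟩) z.2
          have haB : IsBlock (K ⊓ N) a := hw ▸ isBlock_conjA_inf hNn hh1 (Subgroup.le_normalizer w.2)
          have hzK : (z : G) ∈ Subgroup.normalizer (K : Set G) :=
            le_normalizer_centralizer R hzy.1.2
          have h2 : h * conjA (Res M) (z : G) a = conjA (Res M) (z : G) a := by
            conv_lhs => rw [← hzy.2]
            rw [← conjA_mul, ← hw, ← hsum, orbitSum_mul_mem hNn hh1 w.2]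
          rcases orbitSum_mul_block hNn hh1 (isBlock_conjA_inf hNn haB hzK) with
            ⟨-, v, hv, hveq⟩ | h3
          · exact (Set.Finite.mem_toFinset _).2 ⟨⟨v, hv⟩, hveq⟩
          · rw [hsum, h2] at h3
            exact absurd h3 (isBlock_conjA_inf hNn haB hzK).ne_zero
        letI : MulAction (Subgroup.zpowers y) S :=
          { smul := fun z a => ⟨conjA (Res M) (z : G) a.1, hact z _ a.2⟩
            one_smul := fun a => Subtype.ext (conjA_one_left a.1)
            mul_smul := fun z w a => Subtype.ext (conjA_conjA (z : G) w a.1).symm }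
        have hcard : Nat.card S ∣ N.index := by
          letI : MulAction K (GA (Res M) G) :=
            { smul := fun z a => conjA (Res M) (z : G) a
              one_smul := fun a => conjA_one_left a
              mul_smul := fun z w a => (conjA_conjA (z : G) w a).symm }
          haveI : Finite (MulAction.orbit K h1) := (Set.finite_range _).to_subtype
          have h1' : Nat.card S = (MulAction.stabilizer K h1).index := by
            rw [MulAction.index_stabilizer, Set.ncard_eq_toFinset_card _ (Set.toFinite _),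
              Nat.card_eq_finsetCard]
            rfl
          rw [h1']
          refine dvd_trans (Subgroup.index_dvd_of_le (H := N.subgroupOf K) fun z hz => ?_)
            (Subgroup.relIndex_dvd_index_of_normal N K)
          exact hh1.fixed z ⟨z.2, hz⟩
        have hqS : ¬ q ∣ Nat.card S := by
          intro hdvd
          have h1' := hdvd.trans (hcard.trans (hN ▸ dvd_rfl : N.index ∣ p ^ n))
          have hqp := (Nat.prime_dvd_prime_iff_eq hq hp.out).1 (hq.dvd_of_dvd_pow h1')
          exact hpm (hqp ▸ dvd_pow_self q hl.ne')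
        obtain ⟨a, ha⟩ := (IsPGroup.of_card (G := Subgroup.zpowers y)
          (n := l) (by rw [Nat.card_zpowers, hy])).nonempty_fixed_point_of_prime_not_dvd_card S hqS
        obtain ⟨w, hw⟩ := (Set.Finite.mem_toFinset _).1 a.2
        have haB : IsBlock (cent N R) a.1 := by
          rw [hcent, ← hw]
          exact isBlock_conjA_inf hNn hh1 (Subgroup.le_normalizer w.2)
        have haR : BlockHas p N c R a.1 := by
          refine ⟨⟨inf_le_right, hQ.1.2.1.to_le inf_le_left, haB⟩, ?_⟩
          have h2 : h * a.1 = a.1 := by rw [← hsum, ← hw, orbitSum_mul_mem hNn hh1 w.2]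
          conv_lhs => rw [← h2]
          rw [← mul_assoc, hhR.2, h2]
        have hyc : y ∈ Subgroup.centralizer (R : Set G) :=
          hn R a.1 haR y ⟨⟨hyN, hyR⟩,
            congrArg Subtype.val (ha ⟨y, Subgroup.mem_zpowers y⟩)⟩ hyreg
        refine Subgroup.mem_centralizer_iff.2 fun u hu => ?_
        have hr : u⁻¹ * (y * u * y⁻¹) ∈ R := by
          refine ⟨Q.mul_mem (Q.inv_mem hu) ((Subgroup.mem_normalizer_iff.1 hys.1.2 u).1 hu), ?_⟩
          have := N.mul_mem (hNn.conj_mem y hyN u⁻¹) (N.inv_mem hyN)
          simpa [mul_assoc] using this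
        have h1' : u⁻¹ * (y * u * y⁻¹) = 1 := by
          refine isPGroup_centralizes hQ.1.2.1 hr.1 hyreg fun j hj => ?_
          have hit : ∀ i : ℕ, y ^ i * u * (y ^ i)⁻¹ = u * (u⁻¹ * (y * u * y⁻¹)) ^ i := by
            intro i
            induction i with
            | zero => simp
            | succ i ih =>
              calc y ^ (i + 1) * u * (y ^ (i + 1))⁻¹ = y * (y ^ i * u * (y ^ i)⁻¹) * y⁻¹ := by
                    rw [pow_succ']; group
                _ = (y * u * y⁻¹) * (y * (u⁻¹ * (y * u * y⁻¹)) ^ i * y⁻¹) := by rw [ih]; group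
                _ = (y * u * y⁻¹) * (u⁻¹ * (y * u * y⁻¹)) ^ i := by
                    congr 1
                    rw [← Subgroup.mem_centralizer_iff.1 hyc _ (R.pow_mem hr i)]
                    group
                _ = _ := by rw [pow_succ', ← mul_assoc u, mul_inv_cancel_left]
          have h3 := hit j
          rw [hj] at h3
          simpa using h3.symm
        rw [inv_mul_eq_one, eq_mul_inv_iff_mul_eq] at h1'
        exact h1'
    exact key _ x rfl hx hxreg
  · intro hn R g hR x hx hxreg
    set K := Subgroup.centralizer (R : Set G) with hK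
    have hg : IsBlock (K ⊓ N) g := hcent R ▸ hR.1.2.2
    have hh : IsBlock K (orbitSum K g) := isBlock_orbitSum_of_index hM hNn (fun x _ => hreg x) hg
    have hpair : IsPair p ⊤ R (orbitSum K g) :=
      ⟨le_top, hR.1.2.1, by rw [cent, top_inf_eq]; exact hh⟩
    have hbh : BlockHas p ⊤ c R (orbitSum K g) := by
      refine ⟨hpair, ((hpair.2.2).dichotomy (br_mem_cent_block hcG.mem)
        (br_idem hR.1.2.1 (hcG.fixed.mono le_top) hcG.idem)).resolve_left fun h0 => hg.ne_zero ?_⟩
      have := congrArg (· * g) h0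
      simp only [mul_assoc, orbitSum_mul_self' hNn hg, hR.2, zero_mul] at this
      exact this
    refine hn R _ hbh x ⟨⟨trivial, hx.1.2⟩, ?_⟩ hxreg
    have hx' : IsBlock K (conjA (Res M) x (orbitSum K g)) := by
      have := hh.conjA x
      rwa [cj_eq_self (le_normalizer_centralizer R hx.1.2)] at this
    refine hx'.eq_of_mul_ne_zero hh fun h0 => hg.ne_zero ?_
    have := congrArg (· * g) h0
    simp only [mul_assoc, orbitSum_mul_self' hNn hg, zero_mul] at this
    have h1 : conjA (Res M) x (orbitSum K g) * g = g := by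
      conv_lhs => arg 2; rw [← hx.2]
      rw [← conjA_mul, orbitSum_mul_self' hNn hg, hx.2]
    rwa [h1] at this

end CfsgLib.BlockPairs
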