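import Cfsg.Agent.BlockPairs.Defect
import Mathlib.GroupTheory.Nilpotent
import Mathlib.Logic.Relation

/-!
# Brauer pairs in the group algebra model

Pairs `(Q, f)` of the ambient subgroup `H`: `Q` a p-subgroup of `H`, `f` a block of
`cent H Q = H ⊓ C(Q)`.  `Le p H` is the chain closure of normal inclusion.  Main results:
`exists_unique_block_of_pair`, `exists_unique_step`, `le_unique` (Alperin–Broué uniqueness),
`exists_below`, `blockHas_iff_of_le`.
-/

set_option autoImplicit false
set_option linter.unusedSectionVars false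
set_option linter.style.haveILetI false

namespace CfsgLib.BlockPairs

variable {F : Type*} [Field F] {G : Type*} [Group G]

/-- The centralizer of `Q` in `H`. -/
abbrev cent (H Q : Subgroup G) : Subgroup G := H ⊓ Subgroup.centralizer (Q : Set G)

theorem mem_cj_centralizer {Q : Subgroup G} {x g : G} :
    g ∈ cj x (Subgroup.centralizer (Q : Set G)) ↔
      g ∈ Subgroup.centralizer ((cj x Q : Subgroup G) : Set G) := by
  rw [mem_cj]; exact (mem_centralizer_map_conj).symm

theorem cj_cent {H Q : Subgroup G} {x : G} (hx : x ∈ H) : cj x (cent H Q) = cent H (cj x Q) := by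
  ext g
  simp only [mem_cj, Subgroup.mem_inf]
  refine and_congr ⟨fun h => ?_, fun h => ?_⟩ mem_centralizer_map_conj.symm
  · have := H.mul_mem (H.mul_mem hx h) (H.inv_mem hx)
    simpa [mul_assoc] using this
  · exact H.mul_mem (H.mul_mem (H.inv_mem hx) h) hx

theorem cent_le_normalizer {H Q : Subgroup G} : cent H Q ≤ Subgroup.normalizer (Q : Set G) :=
  inf_le_right.trans (Subgroup.centralizer_le_normalizer _)

theorem cent_anti {H Q P : Subgroup G} (h : Q ≤ P) : cent H P ≤ cent H Q :=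
  inf_le_inf_left _ (Subgroup.centralizer_le (SetLike.coe_subset_coe.2 h))

theorem IsSupp.conjA {H : Subgroup G} {a : GA F G} (h : IsSupp H a) (x : G) :
    IsSupp (cj x H) (conjA F x a) := fun g hg => by
  rw [conjA_coeff] at hg
  exact mem_cj.2 (h _ hg)

theorem IsFixed.conjA {P : Subgroup G} {a : GA F G} (h : IsFixed P a) (x : G) :
    IsFixed (cj x P) (conjA F x a) := fun u hu => by
  have h1 := h _ (mem_cj.1 hu)
  conv_rhs => rw [← h1]
  rw [conjA_conjA, conjA_conjA]
  congr 1
  group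

theorem conjA_mem_sub {H P : Subgroup G} {a : GA F G} (h : a ∈ sub H P) (x : G) :
    conjA F x a ∈ sub (cj x H) (cj x P) := ⟨h.1.conjA x, h.2.conjA x⟩

theorem IsBlock.conjA {H : Subgroup G} {e : GA F G} (h : IsBlock H e) (x : G) :
    IsBlock (cj x H) (BlockPairs.conjA F x e) := by
  refine ⟨conjA_mem_sub h.mem x, by rw [← conjA_mul, h.idem], fun h0 => h.ne_zero
    (conjA_injective x (h0.trans (conjA_zero x).symm)), fun f hf hff => ?_⟩
  have hf' : BlockPairs.conjA F x⁻¹ f ∈ sub H H := by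
    have := conjA_mem_sub hf x⁻¹
    rwa [cj_inv_cj] at this
  rcases h.dichotomy hf' (by rw [← conjA_mul, hff]) with h1 | h1
  · left
    have := congrArg (BlockPairs.conjA F x) h1
    rwa [conjA_mul, conjA_inv', conjA_zero] at this
  · right
    have := congrArg (BlockPairs.conjA F x) h1
    rwa [conjA_mul, conjA_inv'] at this

/-- A Brauer pair of the group `H`. -/
def IsPair (p : ℕ) (H Q : Subgroup G) (f : GA F G) : Prop :=
  Q ≤ H ∧ IsPGroup p Q ∧ IsBlock (cent H Q) f

/-- The pair `(Q, f)` belongs to the block `b` of `H`. -/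
def BlockHas (p : ℕ) (H : Subgroup G) (b : GA F G) (Q : Subgroup G) (f : GA F G) : Prop :=
  IsPair p H Q f ∧ br Q b * f = f

/-- Normal inclusion of pairs. -/
def Step (p : ℕ) (H : Subgroup G) (a b : Subgroup G × GA F G) : Prop :=
  IsPair p H a.1 a.2 ∧ IsPair p H b.1 b.2 ∧ a.1 ≤ b.1 ∧
    b.1 ≤ Subgroup.normalizer (a.1 : Set G) ∧ IsFixed b.1 a.2 ∧ br b.1 a.2 * b.2 = b.2

/-- Inclusion of pairs. -/
def Le (p : ℕ) (H Q : Subgroup G) (f : GA F G) (P : Subgroup G) (e : GA F G) : Prop :=
  Relation.ReflTransGen (Step p H) (Q, f) (P, e)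

theorem Le.subgroup_le {p : ℕ} {H Q P : Subgroup G} {f e : GA F G} (h : Le p H Q f P e) :
    Q ≤ P := by
  suffices ∀ a b : Subgroup G × GA F G, Relation.ReflTransGen (Step p H) a b → a.1 ≤ b.1 from
    this _ _ h
  intro a b hab
  induction hab with
  | refl => exact le_rfl
  | tail _ hs ih => exact ih.trans hs.2.2.1

theorem Le.refl' {p : ℕ} {H Q : Subgroup G} {f : GA F G} : Le p H Q f Q f :=
  Relation.ReflTransGen.refl

theorem Le.trans' {p : ℕ} {H Q R P : Subgroup G} {f g e : GA F G} (h₁ : Le p H Q f R g)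
    (h₂ : Le p H R g P e) : Le p H Q f P e := Relation.ReflTransGen.trans h₁ h₂

theorem Le.of_step {p : ℕ} {H Q P : Subgroup G} {f e : GA F G}
    (h : Step p H (Q, f) (P, e)) : Le p H Q f P e := Relation.ReflTransGen.single h

theorem IsPair.conjA {p : ℕ} {H Q : Subgroup G} {f : GA F G} (h : IsPair p H Q f) {x : G}
    (hx : x ∈ H) : IsPair p H (cj x Q) (BlockPairs.conjA F x f) :=
  ⟨cj_le_of_mem hx h.1, isPGroup_cj x h.2.1, by rw [← cj_cent hx]; exact h.2.2.conjA x⟩

theorem BlockHas.conjA {p : ℕ} {H Q : Subgroup G} {b f : GA F G} (h : BlockHas p H b Q f)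
    (hb : IsFixed H b) {x : G} (hx : x ∈ H) :
    BlockHas p H b (cj x Q) (BlockPairs.conjA F x f) :=
  ⟨h.1.conjA hx, by rw [hb.br_cj hx, ← conjA_mul, h.2]⟩

theorem cj_normalizer_le {Q P : Subgroup G} (h : P ≤ Subgroup.normalizer (Q : Set G)) (x : G) :
    cj x P ≤ Subgroup.normalizer ((cj x Q : Subgroup G) : Set G) := fun u hu => by
  refine mem_normalizer_of_cj_eq ?_
  have h1 := cj_eq_self (h (mem_cj.1 hu))
  calc cj u (cj x Q) = cj x (cj (x⁻¹ * u * x) Q) := by
        rw [cj_cj, cj_cj]; congr 1; group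
    _ = cj x Q := by rw [h1]

theorem Le.conjA {p : ℕ} {H Q P : Subgroup G} {f e : GA F G} (h : Le p H Q f P e) {x : G}
    (hx : x ∈ H) :
    Le p H (cj x Q) (BlockPairs.conjA F x f) (cj x P) (BlockPairs.conjA F x e) := by
  refine Relation.ReflTransGen.lift (fun a : Subgroup G × GA F G =>
    (cj x a.1, BlockPairs.conjA F x a.2)) ?_ _ _ h
  rintro a b ⟨h1, h2, h3, h4, h5, h6⟩
  exact ⟨h1.conjA hx, h2.conjA hx, cj_mono x h3, cj_normalizer_le h4 x, h5.conjA x,
    by rw [← conjA_br, ← conjA_mul, h6]⟩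

section Finite

variable [Finite G] {p : ℕ} [hp : Fact p.Prime] [CharP F p]

theorem br_mem_cent {H Q P : Subgroup G} {f : GA F G} (hf : f ∈ sub (cent H Q) (cent H Q))
    (hQP : Q ≤ P) : br P f ∈ sub (cent H P) (cent H P) := by
  refine ⟨fun g hg => ?_, isFixed_br cent_le_normalizer (hf.2.mono (cent_anti hQP))⟩
  have := isSupp_br_of (P := P) hf.1 g hg
  exact ⟨this.1.1, this.2⟩

theorem br_mem_cent_block {H P : Subgroup G} {b : GA F G} (hb : b ∈ sub H H) :
    br P b ∈ sub (cent H P) (cent H P) :=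
  ⟨isSupp_br_of hb.1, isFixed_br cent_le_normalizer (hb.2.mono inf_le_left)⟩

theorem br_idem {P : Subgroup G} {f : GA F G} (hP : IsPGroup p P) (hfix : IsFixed P f)
    (hff : f * f = f) : br P f * br P f = br P f := by rw [← br_mul hP hfix hfix, hff]

/-- There is exactly one block of `H` whose Brauer image at `P` covers a given pair `(P, e)`. -/
theorem exists_unique_block_of_pair {H P : Subgroup G} {e : GA F G} (hp' : IsPair p H P e) :
    ∃! b : GA F G, IsBlock H b ∧ br P b * e = e := by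
  obtain ⟨hPH, hP, he⟩ := hp'
  have hone : ∑ b ∈ blocks F H, br P b * e = e := by
    rw [← Finset.sum_mul, ← br_sum, sum_blocks_eq_one, br_one, one_mul]
  have hdi : ∀ b ∈ blocks F H, br P b * e = 0 ∨ br P b * e = e := fun b hb =>
    he.dichotomy (br_mem_cent_block (mem_blocks.1 hb).mem)
      (br_idem hP ((mem_blocks.1 hb).fixed.mono hPH) (mem_blocks.1 hb).idem)
  obtain ⟨b, hb, hbe⟩ : ∃ b ∈ blocks F H, br P b * e = e := by
    by_contra hc
    simp only [not_exists, not_and] at hc
    rw [Finset.sum_eq_zero fun b hb => (hdi b hb).resolve_right (hc b hb)] at hone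
    exact he.ne_zero hone.symm
  refine ⟨b, ⟨mem_blocks.1 hb, hbe⟩, fun b' hb' => ?_⟩
  by_contra hne
  apply he.ne_zero
  have := (hb'.1.eq_or_mul_eq_zero (mem_blocks.1 hb)).resolve_left hne
  rw [← hb'.2, ← hbe, ← mul_assoc, ← br_mul hP (hb'.1.fixed.mono hPH)
    ((mem_blocks.1 hb).fixed.mono hPH), this, br_zero, zero_mul]

/-- There is exactly one normal step down from `(P, e)` to a subgroup `Q` normal in `P`. -/
theorem exists_unique_step {H Q P : Subgroup G} {e : GA F G} (hPe : IsPair p H P e) (hQP : Q ≤ P)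
    (hN : P ≤ Subgroup.normalizer (Q : Set G)) :
    ∃! f : GA F G, Step p H (Q, f) (P, e) := by
  classical
  obtain ⟨hPH, hP, he⟩ := hPe
  have hQ : IsPGroup p Q := hP.to_le hQP
  set s := blocks F (cent H Q) with hs
  have hmem : ∀ u : P, ∀ f ∈ s, conjA F (u : G) f ∈ s := fun u f hf => by
    have := (mem_blocks.1 hf).conjA (u : G)
    rw [cj_cent (hPH u.2), cj_eq_self (hN u.2)] at this
    exact mem_blocks.2 this
  letI : MulAction P s :=
    { smul := fun u f => ⟨conjA F (u : G) f.1, hmem u _ f.2⟩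
      one_smul := fun f => Subtype.ext (conjA_one_left f.1)
      mul_smul := fun u v f => Subtype.ext (conjA_conjA (u : G) v f.1).symm }
  have hinv : ∀ (u : P) (f : s), br P (u • f : s).1 = br P f.1 := fun u f => by
    show br P (conjA F (u : G) f.1) = _
    refine ga_ext fun g => ?_
    by_cases hg : g ∈ Subgroup.centralizer (P : Set G)
    · rw [br_coeff_mem P _ hg, br_coeff_mem P _ hg, conjA_coeff]
      congr 1
      rw [mul_assoc, ← Subgroup.mem_centralizer_iff.1 hg u u.2]
      group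
    · rw [br_coeff_not_mem P _ hg, br_coeff_not_mem P _ hg]
  have hone : ∑ f : s, br P f.1 * e = e := by
    rw [← Finset.sum_mul, ← br_sum, Finset.sum_coe_sort s (fun f => f), hs, sum_blocks_eq_one,
      br_one, one_mul]
  rw [sum_eq_sum_fixed hP (nsmul_eq_zero_ga (F := F) (G := G)) (fun f : s => br P f.1 * e)
    (fun u f => by rw [hinv])] at hone
  have hfix : ∀ f : s, (∀ u : P, u • f = f) → IsFixed P f.1 := fun f h u hu =>
    congrArg Subtype.val (h ⟨u, hu⟩)
  have hdi : ∀ f : s, (∀ u : P, u • f = f) → br P f.1 * e = 0 ∨ br P f.1 * e = e := fun f h =>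
    he.dichotomy (br_mem_cent (mem_blocks.1 f.2).mem hQP)
      (br_idem hP (hfix f h) (mem_blocks.1 f.2).idem)
  obtain ⟨f, hf, hfe⟩ : ∃ f : s, (∀ u : P, u • f = f) ∧ br P f.1 * e = e := by
    by_contra hc
    simp only [not_exists, not_and] at hc
    rw [Finset.sum_eq_zero fun f hf => (hdi f (Finset.mem_filter.1 hf).2).resolve_right
      (hc f (Finset.mem_filter.1 hf).2)] at hone
    exact he.ne_zero hone.symm
  refine ⟨f.1, ⟨⟨hQP.trans hPH, hQ, mem_blocks.1 f.2⟩, ⟨hPH, hP, he⟩, hQP, hN, hfix f hf, hfe⟩, ?_⟩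
  rintro f' ⟨⟨-, -, hf'⟩, -, -, -, hf'fix, hf'e⟩
  by_contra hne
  apply he.ne_zero
  have := (hf'.eq_or_mul_eq_zero (mem_blocks.1 f.2)).resolve_left hne
  rw [← show br P f' * e = e from hf'e, ← hfe, ← mul_assoc, ← br_mul hP hf'fix (hfix f hf),
    this, br_zero, zero_mul]

theorem Step.eq_of_eq {H P : Subgroup G} {f e : GA F G} (h : Step p H (P, f) (P, e)) :
    f = e := by
  obtain ⟨⟨-, -, hf⟩, ⟨-, -, he⟩, -, -, -, h6⟩ := h
  simp only at hf he h6
  rw [br_eq_self (hf.supp.mono inf_le_right)] at h6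
  exact hf.eq_of_mul_ne_zero he (by rw [h6]; exact he.ne_zero)

/-- A chain ending at `(P, e)` is trivial or ends with a proper normal step. -/
theorem Le.cases_last {H Q P : Subgroup G} {f e : GA F G} (h : Le p H Q f P e) :
    (Q = P ∧ f = e) ∨ ∃ R g, Le p H Q f R g ∧ Step p H (R, g) (P, e) ∧ R < P := by
  suffices ∀ a b : Subgroup G × GA F G, Relation.ReflTransGen (Step p H) a b → a = b ∨
      ∃ R g, Relation.ReflTransGen (Step p H) a (R, g) ∧ Step p H (R, g) b ∧ R < b.1 by
    rcases this _ _ h with h' | h'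
    · exact .inl (Prod.mk.injEq .. ▸ h')
    · exact .inr h'
  intro a b hab
  induction hab with
  | refl => exact .inl rfl
  | @tail b c hab hs ih =>
    rcases lt_or_eq_of_le hs.2.2.1 with hlt | heq
    · exact .inr ⟨b.1, b.2, hab, hs, hlt⟩
    · obtain ⟨b1, b2⟩ := b; obtain ⟨c1, c2⟩ := c
      simp only at heq; subst heq
      have := Step.eq_of_eq hs; subst this
      exact ih

theorem lt_normalizer_inf {Q P : Subgroup G} (hP : IsPGroup p P) (hQP : Q < P) :
    Q < Subgroup.normalizer (Q : Set G) ⊓ P := by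
  refine lt_of_le_of_ne (le_inf Subgroup.le_normalizer hQP.le) fun h => ?_
  haveI : Group.IsNilpotent P := hP.isNilpotent
  refine hQP.ne (le_antisymm hQP.le ?_)
  have hlt := Group.normalizerCondition_of_isNilpotent (G := P)
  have : Q.subgroupOf P = ⊤ := by
    by_contra hne
    obtain ⟨x, hx, hxQ⟩ := SetLike.exists_of_lt (hlt _ (lt_top_iff_ne_top.2 hne))
    refine hxQ (show (x : G) ∈ Q from h.ge ⟨?_, x.2⟩)
    show (x : G) ∈ Subgroup.normalizer (Q : Set G)
    rw [Subgroup.mem_normalizer_iff] at hx ⊢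
    intro g
    constructor
    · intro hg
      exact (hx ⟨g, hQP.le hg⟩).1 hg
    · intro hg
      have hgP : g ∈ P := by
        have := P.mul_mem (P.mul_mem (P.inv_mem x.2) (hQP.le hg)) x.2
        simpa [mul_assoc] using this
      exact (hx ⟨g, hgP⟩).2 hg
  exact Subgroup.subgroupOf_eq_top.1 this

/-- Below a pair there is a pair on each smaller subgroup. -/
theorem exists_below {H Q P : Subgroup G} {e : GA F G} (hPe : IsPair p H P e) (hQP : Q ≤ P) :
    ∃ f, IsPair p H Q f ∧ Le p H Q f P e := by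
  induction hn : Nat.card P - Nat.card Q using Nat.strong_induction_on generalizing Q with
  | _ n ih =>
    rcases eq_or_lt_of_le hQP with rfl | hlt
    · exact ⟨e, hPe, Le.refl'⟩
    set R := Subgroup.normalizer (Q : Set G) ⊓ P with hR
    have hQR : Q < R := lt_normalizer_inf hPe.2.1 hlt
    have h1 : Nat.card Q < Nat.card R := by
      refine lt_of_le_of_ne (Subgroup.card_le_of_le hQR.le) fun h => hQR.ne ?_
      exact Subgroup.eq_of_le_of_card_ge hQR.le h.ge
    obtain ⟨g, hg, hle⟩ := ih (Nat.card P - Nat.card R)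
      (by have h2 : Nat.card R ≤ Nat.card P := Subgroup.card_le_of_le (inf_le_right : R ≤ P)
          rw [← hn]; clear_value R; omega) inf_le_right rfl
    obtain ⟨f, hf, -⟩ := exists_unique_step hg hQR.le inf_le_left
    exact ⟨f, hf.1, (Le.of_step hf).trans' hle⟩

theorem IsBlock.fixed_of_unique {H R R1 P : Subgroup G} {h g : GA F G}
    (huniq : ∀ h', Le p H R h' R1 g → h' = h) (hh : Le p H R h R1 g) (hPH : P ≤ H)
    (hPR : P ≤ Subgroup.normalizer (R : Set G)) (hPR1 : P ≤ Subgroup.normalizer (R1 : Set G))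
    (hg : IsFixed P g) : IsFixed P h := fun u hu => by
  have := hh.conjA (hPH hu)
  rw [cj_eq_self (hPR hu), cj_eq_self (hPR1 hu), hg u hu] at this
  exact huniq _ this

/-- Uniqueness of subpairs (Alperin–Broué). -/
theorem le_unique {H Q P : Subgroup G} {f f' e : GA F G} (h : Le p H Q f P e)
    (h' : Le p H Q f' P e) : f = f' := by
  induction hn : Nat.card P using Nat.strong_induction_on generalizing Q P f f' e with
  | _ n ih =>
    rcases h.cases_last with ⟨rfl, rfl⟩ | ⟨R1, g1, hl1, hs1, hlt1⟩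
    · rcases h'.cases_last with ⟨-, rfl⟩ | ⟨R2, g2, hl2, -, hlt2⟩
      · rfl
      · exact absurd (hl2.subgroup_le) (not_le_of_gt hlt2)
    rcases h'.cases_last with ⟨rfl, -⟩ | ⟨R2, g2, hl2, hs2, hlt2⟩
    · exact absurd (hl1.subgroup_le) (not_le_of_gt hlt1)
    have hcard : ∀ {R : Subgroup G}, R < P → Nat.card R < n := fun {R} hR => by
      rw [← hn]
      refine lt_of_le_of_ne (Subgroup.card_le_of_le hR.le) fun hc => hR.ne ?_
      exact Subgroup.eq_of_le_of_card_ge hR.le hc.ge
    obtain ⟨hp1, hpP, -, hN1, hfix1, he1⟩ := hs1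
    obtain ⟨hp2, -, -, hN2, hfix2, he2⟩ := hs2
    simp only at hp1 hp2 hN1 hN2 hfix1 hfix2 he1 he2 hpP
    set R := R1 ⊓ R2 with hR
    have hNR : P ≤ Subgroup.normalizer (R : Set G) := fun u hu => by
      refine mem_normalizer_of_cj_eq ?_
      rw [hR, cj, Subgroup.map_inf _ _ _ (MulAut.conj u).injective]
      exact congrArg₂ (· ⊓ ·) (cj_eq_self (hN1 hu)) (cj_eq_self (hN2 hu))
    have key : ∀ (Ri : Subgroup G) (gi fi : GA F G), Ri < P → IsPair p H Ri gi →
        P ≤ Subgroup.normalizer (Ri : Set G) → IsFixed P gi → br P gi * e = e → R ≤ Ri →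
        Le p H Q fi Ri gi →
        ∃ hi, Step p H (R, hi) (P, e) ∧ Le p H Q fi R hi := by
      intro Ri gi fi hlt hpi hNi hfixi hei hRi hl
      obtain ⟨hi, hhi, hle⟩ := exists_below hpi hRi
      obtain ⟨fj, -, hlej⟩ := exists_below hhi (le_inf hl1.subgroup_le hl2.subgroup_le)
      have hfj : fj = fi := ih _ (hcard hlt) (hlej.trans' hle) hl rfl
      have huniq : ∀ h', Le p H R h' Ri gi → h' = hi := fun h' hh' => ih _ (hcard hlt) hh' hle rfl
      have hfixh : IsFixed P hi := IsBlock.fixed_of_unique huniq hle hpP.1 hNR hNi hfixi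
      obtain ⟨h', hs', -⟩ := exists_unique_step hpi hRi (hlt.le.trans hNR)
      have hh' : h' = hi := huniq h' (Le.of_step hs')
      subst hh'
      have hbr : br Ri h' * gi = gi := hs'.2.2.2.2.2
      have hbi : IsFixed P (br Ri h') := isFixed_br hNi hfixh
      have h6 : br P h' * e = e := by
        have := congrArg (br P) hbr
        rw [br_mul hpP.2.1 hbi hfixi, br_br_of_le hlt.le] at this
        rw [← hei, ← mul_assoc, this]
      exact ⟨h', ⟨hhi, hpP, hRi.trans hlt.le, hNR, hfixh, h6⟩, hfj ▸ hlej⟩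
    obtain ⟨x1, hx1, hq1⟩ := key R1 g1 f hlt1 hp1 hN1 hfix1 he1 inf_le_left hl1
    obtain ⟨x2, hx2, hq2⟩ := key R2 g2 f' hlt2 hp2 hN2 hfix2 he2 inf_le_right hl2
    have hx : x1 = x2 := (exists_unique_step hpP (inf_le_left.trans hlt1.le) hNR).unique hx1 hx2
    subst hx
    exact ih _ (hcard (lt_of_le_of_lt inf_le_left hlt1)) hq1 hq2 rfl

/-- Split a chain at an intermediate subgroup. -/
theorem Le.split {H Q R P : Subgroup G} {f e : GA F G} (h : Le p H Q f P e)
    (hPe : IsPair p H P e) (hQR : Q ≤ R) (hRP : R ≤ P) :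
    ∃ g, IsPair p H R g ∧ Le p H Q f R g ∧ Le p H R g P e := by
  obtain ⟨g, hg, hle⟩ := exists_below hPe hRP
  obtain ⟨f', -, hle'⟩ := exists_below hg hQR
  exact ⟨g, hg, le_unique (hle'.trans' hle) h ▸ hle', hle⟩

/-- Membership in a block is constant along inclusions. -/
theorem blockHas_iff_of_le {H Q P : Subgroup G} {b f e : GA F G} (hb : IsBlock H b)
    (h : Le p H Q f P e) (hQ : IsPair p H Q f) : BlockHas p H b Q f ↔ BlockHas p H b P e := by
  suffices ∀ a c : Subgroup G × GA F G, Relation.ReflTransGen (Step p H) a c → IsPair p H a.1 a.2 →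
      (BlockHas p H b a.1 a.2 ↔ BlockHas p H b c.1 c.2) from this _ _ h hQ
  intro a c hac ha
  induction hac with
  | refl => rfl
  | @tail x y hax hs ih =>
    refine ih.trans ?_
    obtain ⟨hx, hy, hle, hN, hfix, h6⟩ := hs
    have hP := hy.2.1
    have hm : IsFixed y.1 (br x.1 b) := isFixed_br hN (hb.fixed.mono hy.1)
    constructor
    · rintro ⟨-, hbx⟩
      refine ⟨hy, ?_⟩
      have := congrArg (br y.1) hbx
      rw [br_mul hP hm hfix, br_br_of_le hle] at this
      conv_lhs => rw [← h6]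
      rw [← mul_assoc, this, h6]
    · rintro ⟨-, hby⟩
      refine ⟨hx, (hx.2.2.dichotomy (br_mem_cent_block hb.mem)
        (br_idem hx.2.1 (hb.fixed.mono hx.1) hb.idem)).resolve_left fun h0 => ?_⟩
      apply hy.2.2.ne_zero
      have := congrArg (br y.1) h0
      rw [br_mul hP hm hfix, br_br_of_le hle, br_zero] at this
      rw [← hby, ← h6, ← mul_assoc, this, zero_mul]

/-- A block surviving the Brauer map at `Q` has a pair on `Q`. -/
theorem exists_blockHas {H Q : Subgroup G} {b : GA F G} (hb : IsBlock H b) (hQH : Q ≤ H)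
    (hQ : IsPGroup p Q) (h : br Q b ≠ 0) : ∃ f, BlockHas p H b Q f := by
  obtain ⟨f, hf, hff⟩ := exists_isBlock_below (br_mem_cent_block hb.mem)
    (br_idem hQ (hb.fixed.mono hQH) hb.idem) h
  exact ⟨f, ⟨hQH, hQ, hf⟩, hff⟩

theorem BlockHas.br_ne_zero {H Q : Subgroup G} {b f : GA F G} (h : BlockHas p H b Q f) :
    br Q b ≠ 0 := fun h0 => h.1.2.2.ne_zero (by rw [← h.2, h0, zero_mul])

end Finite

end CfsgLib.BlockPairs
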