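import Cfsg.Agent.Blocks.RegularForm
import Cfsg.Agent.BlocksCharsC.RegularSupport
import Cfsg.Agent.BlocksLocal.Covering
import Mathlib.GroupTheory.Transfer

/-!
# The principal block on a normal subgroup

Under the Brauer map at a Sylow subgroup `P` the principal block idempotent becomes the average of
the `p`-regular elements of `C(P)`.  So its restriction to a normal subgroup `N` has a unit value
at the principal block of `N`, and every character there lies under one of the principal block.
-/

set_option autoImplicit false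
set_option linter.style.haveILetI false
set_option linter.unusedSectionVars false

namespace CfsgLib.PrincipalNormal

open Cfsg CfsgLib.Blocks CfsgLib.BlocksCharsC
open scoped ComplexConjugate

universe u

theorem idem_eq_zero_of_nilpotent {R : Type*} [CommRing R] {e : R} (he : e * e = e)
    (hn : IsNilpotent e) : e = 0 := by
  obtain ⟨n, hn⟩ := hn
  have : ∀ m : ℕ, e ^ (m + 1) = e := fun m => by
    induction m with
    | zero => simp
    | succ m ih => rw [pow_succ, ih, he]
  cases n with
  | zero => rw [pow_zero] at hn; exact (mul_one e).symm.trans (by rw [hn, mul_zero])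
  | succ m => rwa [this m] at hn

/-- Two idempotents with scalar multiples differing by a nilpotent element are equal. -/
theorem idem_eq_of_sub_nilpotent {R : Type*} [CommRing R] {u v a b : R} (hu : u * u = u)
    (hv : v * v = v) (ha : IsUnit a) (hb : IsUnit b) (hn : IsNilpotent (a * u - b * v)) :
    u = v := by
  have h1 : u * (1 - v) = 0 := by
    refine idem_eq_zero_of_nilpotent (by linear_combination (1 - v) * (1 - v) * hu + u * hv) ?_
    obtain ⟨a', ha'⟩ := ha.exists_left_inv
    have : u * (1 - v) = (a' * (1 - v)) * (a * u - b * v) := by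
      linear_combination (-(u * (1 - v))) * ha' + (-(a' * b)) * hv
    rw [this]; exact (Commute.all _ _).isNilpotent_mul_left hn
  have h2 : v * (1 - u) = 0 := by
    refine idem_eq_zero_of_nilpotent (by linear_combination (1 - u) * (1 - u) * hv + v * hu) ?_
    obtain ⟨b', hb'⟩ := hb.exists_left_inv
    have : v * (1 - u) = (-(b' * (1 - u))) * (a * u - b * v) := by
      linear_combination (-(v * (1 - u))) * hb' + (-(b' * a)) * hu
    rw [this]; exact (Commute.all _ _).isNilpotent_mul_left hn
  linear_combination h1 - h2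

variable {G : Type u} [Group G] [Fintype G] {M : Ideal AlgInt} [M.IsPrime] {p : ℕ} [Fact p.Prime]

/-- The p-regular elements of the centralizer of a Sylow subgroup form a subgroup. -/
theorem exists_regular_subgroup (P : Sylow p G) :
    ∃ K : Subgroup (Subgroup.centralizer ((P : Subgroup G) : Set G)),
      (∀ c, c ∈ K ↔ ¬ p ∣ orderOf c) ∧ ¬ p ∣ Nat.card K := by
  obtain ⟨Q⟩ : Nonempty (Sylow p (Subgroup.centralizer ((P : Subgroup G) : Set G))) := inferInstance
  have hQP : ∀ q ∈ (Q : Subgroup (Subgroup.centralizer ((P : Subgroup G) : Set G))),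
      (q : G) ∈ (P : Subgroup G) := by
    intro q hq
    have hQn : (Q : Subgroup _).map (Subgroup.centralizer ((P : Subgroup G) : Set G)).subtype ≤
        Subgroup.normalizer ((P : Subgroup G) : Set G) := by
      rintro _ ⟨x, -, rfl⟩
      exact Subgroup.centralizer_le_normalizer _ x.2
    have h1 := (Q.2.map (Subgroup.centralizer ((P : Subgroup G) : Set G)).subtype).to_sup_of_normal_right'
      P.2 hQn
    have h2 : (Q : Subgroup _).map (Subgroup.centralizer ((P : Subgroup G) : Set G)).subtype ⊔
        (P : Subgroup G) = P := P.3 h1 le_sup_right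
    exact h2.le (Subgroup.mem_sup_left ⟨q, hq, rfl⟩)
  have hN : Subgroup.normalizer ((Q : Subgroup (Subgroup.centralizer ((P : Subgroup G) : Set G))) :
      Set (Subgroup.centralizer ((P : Subgroup G) : Set G))) ≤ Subgroup.centralizer Q := by
    intro c _
    refine Subgroup.mem_centralizer_iff.2 fun q hq => Subtype.ext ?_
    exact Subgroup.mem_centralizer_iff.1 c.2 q (hQP q hq)
  refine ⟨(MonoidHom.transferSylow Q hN).ker, fun c => ⟨fun hc hd => ?_, fun hc => ?_⟩,
    MonoidHom.not_dvd_card_ker_transferSylow Q hN⟩
  · exact MonoidHom.not_dvd_card_ker_transferSylow Q hN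
      (hd.trans (Subgroup.orderOf_dvd_natCard _ hc))
  · haveI := Fintype.ofFinite (Subgroup.centralizer ((P : Subgroup G) : Set G))
    haveI := Fintype.ofFinite (MonoidHom.transferSylow Q hN).ker
    refine BlocksLocal.mem_of_regular_of_pow_index _ ?_ hc
    obtain ⟨k, hk⟩ := IsPGroup.iff_card.1 Q.2
    exact ⟨k, (Subgroup.IsComplement'.symm
      (MonoidHom.ker_transferSylow_isComplement' Q hN)).index_eq_card.trans hk⟩

open Classical in
/-- The value of the principal block idempotent on a normal subgroup is a unit. -/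
theorem omegaBar_resCtr_ne_zero (hM : Cfsg.IsPModular p M) (N : Subgroup G) [hNn : N.Normal]
    [Fintype N] :
    omegaBar M (trivialIrr N) (resCtr N
      (idemBar M (Cfsg.principalBlock M G) (isBlockUnion_of_isPBlock isPBlock_principalBlock))) ≠
      0 := by
  haveI := charP_res hM
  obtain ⟨P⟩ : Nonempty (Sylow p G) := inferInstance
  haveI := Fintype.ofFinite (Subgroup.centralizer ((P : Subgroup G) : Set G))
  obtain ⟨K, hK, hKp⟩ := exists_regular_subgroup P
  have hBu := isBlockUnion_of_isPBlock (isPBlock_principalBlock (M := M) (G := G))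
  set f := idemBar M (Cfsg.principalBlock M G) hBu with hf
  let R : Ctr (Res M) G := redCtr M (regFun p M (trivialIrr G))
  have hR : ∀ g : G, (R : MonoidAlgebra (Res M) G).coeff g = if p ∣ orderOf g then 0 else 1 := by
    intro g
    show ((mapCtr (red M) (regFun p M (trivialIrr G))) : MonoidAlgebra (Res M) G).coeff g = _
    rw [coeff_mapCtr]
    simp only [regFun, coeff_ofFun]
    split_ifs
    · rw [map_zero]
    · rw [← map_one (red M)]
      exact congrArg _ (Subtype.ext rfl)
  set c := omegaBar M (trivialIrr G) R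
  have hc : c ≠ 0 := omegaBar_regFun_ne_zero hM (trivialIrr G)
    (by simp [Cfsg.blockHeight, Cfsg.charDegree, trivialIrr])
  have hnil : IsNilpotent (R - scalar c * f) := by
    refine isNilpotent_of_omegaBar_eq_zero _ fun χ => ?_
    rw [map_sub, map_mul, omegaBar_scalar, hf, omegaBar_idemBar]
    by_cases hχ : χ ∈ Cfsg.principalBlock M G
    · rw [if_pos hχ, mul_one, omegaBar_eq_trivial hχ, sub_self]
    · rw [if_neg hχ, mul_zero, sub_zero, omegaBar_redCtr, omegaO_regFun_eq_zero hM, map_zero]
      intro h
      exact hχ (mem_blockOf.2 h)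
  let br := brHom (F := Res M) (P : Subgroup G) (Subgroup.centralizer ((P : Subgroup G) : Set G))
    P.2 le_rfl (Subgroup.centralizer_le_normalizer _)
  have hbr : ∀ (a : Ctr (Res M) G) (x : Subgroup.centralizer ((P : Subgroup G) : Set G)),
      (br a : MonoidAlgebra (Res M) _).coeff x = (a : MonoidAlgebra (Res M) G).coeff (x : G) :=
    fun a x => by rw [brHom_apply]; exact coeff_brRes_of_mem _ a x.2
  have hscal : ∀ r : Res M, br (scalar r) = scalar r := fun r => ctr_ext fun x => by
    rw [hbr, coe_scalar, coe_scalar, MonoidAlgebra.coeff_single, MonoidAlgebra.coeff_single,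
      Finsupp.single_apply, Finsupp.single_apply]
    exact if_congr ⟨fun h => Subtype.ext h, fun h => congrArg Subtype.val h⟩ rfl rfl
  have hk : (Nat.card K : Res M) ≠ 0 := fun h => hKp ((red_natCast_eq_zero_iff hM _).1 h)
  set u := scalar (Nat.card K : Res M)⁻¹ * br R with hu
  have hRK : ∀ x, (br R : MonoidAlgebra (Res M) _).coeff x = if x ∈ K then 1 else 0 := by
    intro x
    rw [hbr, hR, Subgroup.orderOf_coe]
    by_cases h : x ∈ K
    · rw [if_pos h, if_neg ((hK x).1 h)]
    · rw [if_neg h, if_pos (not_not.1 fun h' => h ((hK x).2 h'))]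
  have huK : ∀ x, (u : MonoidAlgebra (Res M) _).coeff x =
      if x ∈ K then (Nat.card K : Res M)⁻¹ else 0 := by
    intro x
    rw [hu, Subring.coe_mul, coe_scalar, coeff_mul_eq_sum, Finset.sum_eq_single 1 (fun y _ hy => by
      simp [Finsupp.single_eq_of_ne, hy]) (by simp), inv_one, one_mul, hRK, MonoidAlgebra.coeff_single,
      Finsupp.single_eq_same]
    split_ifs <;> simp
  have huu : u * u = u := by
    refine ctr_ext fun x => ?_
    rw [Subring.coe_mul, coeff_mul_eq_sum]
    simp only [huK]
    by_cases hx : x ∈ K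
    · rw [if_pos hx, Finset.sum_congr rfl (g := fun y =>
        if y ∈ K then (Nat.card K : Res M)⁻¹ * (Nat.card K : Res M)⁻¹ else 0) (fun y _ => by
          by_cases hy : y ∈ K
          · rw [if_pos hy, if_pos hy, if_pos (mul_mem (inv_mem hy) hx)]
          · rw [if_neg hy, if_neg hy, zero_mul]), ← Finset.sum_filter, Finset.sum_const,
        nsmul_eq_mul, show (Finset.univ.filter (· ∈ K)).card = Nat.card K by
          rw [Nat.card_eq_fintype_card, Fintype.card_subtype]]
      field_simp
    · rw [if_neg hx, Finset.sum_eq_zero]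
      intro y _
      by_cases hy : y ∈ K
      · rw [if_pos hy, if_neg (show y⁻¹ * x ∉ K from fun h => hx (by
          have h' := mul_mem hy h
          rwa [mul_inv_cancel_left] at h')), mul_zero]
      · rw [if_neg hy, zero_mul]
  have hbf : br f * br f = br f := by rw [← map_mul, hf, idemBar_mul_self]
  have hscal_unit : ∀ r : Res M, r ≠ 0 →
      IsUnit (scalar r : Ctr (Res M) (Subgroup.centralizer ((P : Subgroup G) : Set G))) :=
    fun r hr => (IsUnit.mk0 r hr).map scalar
  have heq : u = br f := by
    refine idem_eq_of_sub_nilpotent huu hbf (hscal_unit _ hk) (hscal_unit _ hc) ?_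
    have h := hnil.map br
    rw [map_sub, map_mul, hscal] at h
    rwa [hu, ← mul_assoc, ← map_mul scalar, mul_inv_cancel₀ hk, map_one, one_mul]
  -- the sum over `N`
  have hval : omegaBar M (trivialIrr N) (resCtr N f) =
      ∑ g : G, if g ∈ N then (f : MonoidAlgebra (Res M) G).coeff g else 0 := by
    rw [hf, idemBar, redCtr, ← mapCtr_resCtr, ← redCtr, omegaBar_redCtr]
    have hco : ∀ g : G, ((redCtr M (setIdemO M (Cfsg.principalBlock M G)
        (memLocalRing_blockCoeff hBu))) : MonoidAlgebra (Res M) G).coeff g =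
        red M ⟨Cfsg.blockCoeff (Cfsg.principalBlock M G) g, memLocalRing_blockCoeff hBu g⟩ :=
      fun g => by
        show ((mapCtr (G := G) (red M) _ : Ctr (Res M) G) : MonoidAlgebra (Res M) G).coeff g = _
        rw [coeff_mapCtr]
        simp [setIdemO]
    simp only [← redCtr.eq_1, hco]
    rw [← Finset.sum_filter, Finset.sum_subtype (p := (· ∈ N)) _ (fun g => by simp), ← map_sum]
    congr 1
    refine Subtype.ext ?_
    rw [coe_omegaO, omega_apply, AddSubmonoidClass.coe_finset_sum]
    simp [toC, setIdemO, trivialIrr]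
    exact inferInstance
  rw [hval]
  letI : MulAction (P : Subgroup G) G :=
    { smul := fun w g => (w : G) * g * (w : G)⁻¹
      one_smul := fun g => show (1 : G) * g * (1 : G)⁻¹ = g by simp
      mul_smul := fun v w g => show ((v : G) * w) * g * ((v : G) * w)⁻¹ =
        (v : G) * ((w : G) * g * (w : G)⁻¹) * (v : G)⁻¹ by group }
  rw [BlockPairs.sum_eq_sum_fixed P.2
    (fun x : Res M => by simp [CharP.cast_eq_zero (Res M) p])
    _ (fun w g => ?_)]
  swap
  · show (if (w : G) * g * (w : G)⁻¹ ∈ N then _ else _) = _
    refine if_congr ⟨fun h => ?_, fun h => hNn.conj_mem g h _⟩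
      (coeff_conj_of_mem_ctr f.2 g (w : G)) rfl
    simpa [mul_assoc] using hNn.conj_mem _ h (w : G)⁻¹
  rw [Finset.sum_subtype (p := (· ∈ Subgroup.centralizer ((P : Subgroup G) : Set G))) _
    (fun g => by
      rw [Finset.mem_filter, Subgroup.mem_centralizer_iff]
      simp only [Finset.mem_univ, true_and]
      exact ⟨fun h w hw => mul_inv_eq_iff_eq_mul.1 (h ⟨w, hw⟩), fun h w =>
        (mul_inv_eq_iff_eq_mul.2 (h w w.2))⟩)]
  simp only [← hbr, ← heq, huK]
  simp only [← ite_and]
  rw [← Finset.sum_filter, Finset.sum_const, nsmul_eq_mul, mul_ne_zero_iff]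
  refine ⟨fun h => hKp (dvd_trans ((red_natCast_eq_zero_iff hM _).1 h) ?_), inv_ne_zero hk⟩
  rw [show (Finset.univ.filter fun x : Subgroup.centralizer ((P : Subgroup G) : Set G) =>
      (x : G) ∈ N ∧ x ∈ K).card = Nat.card ((N.subgroupOf _ ⊓ K : Subgroup _)) by
    rw [Nat.card_eq_fintype_card, Fintype.card_subtype]
    congr 1
    ext x
    simp [Subgroup.mem_inf, Subgroup.mem_subgroupOf]]
  exact Subgroup.card_dvd_of_le inf_le_right

open Classical in
/-- Every member of the principal block of a normal subgroup lies under one of the principal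
block. -/
theorem exists_over_principal (hM : Cfsg.IsPModular p M) (N : Subgroup G) [N.Normal] [Fintype N]
    {θ : IrrCharacter N} (hθ : θ ∈ Cfsg.principalBlock M N) :
    ∃ χ ∈ Cfsg.principalBlock M G,
      Cfsg.classInner (fun n : N => (χ : G → ℂ) n) (θ : N → ℂ) ≠ 0 := by
  by_contra hno
  push Not at hno
  have hBu := isBlockUnion_of_isPBlock (isPBlock_principalBlock (M := M) (G := G))
  refine omegaBar_resCtr_ne_zero hM N ?_
  rw [← omegaBar_eq_trivial hθ, idemBar, redCtr, ← mapCtr_resCtr, ← redCtr, omegaBar_redCtr]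
  refine (congrArg (red M) (Subtype.ext ?_)).trans (map_zero _)
  rw [coe_omegaO, omega_apply]
  show _ = (0 : ℂ)
  rw [div_eq_zero_iff]
  left
  have hcoef : ∀ n : N, ((toC M (resCtr N (setIdemO M (Cfsg.principalBlock M G)
      (memLocalRing_blockCoeff hBu)))) : MonoidAlgebra ℂ N).coeff n =
      Cfsg.blockCoeff (Cfsg.principalBlock M G) (n : G) := fun n => by simp [toC, setIdemO]
  simp only [hcoef, blockCoeff_eq_sum, Finset.mul_sum, Finset.sum_mul]
  rw [Finset.sum_comm]
  refine Finset.sum_eq_zero fun χ _ => ?_
  split_ifs with hχ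
  · have h := congrArg conj (hno χ hχ)
    rw [map_zero, Cfsg.classInner, map_mul, map_inv₀, map_natCast, map_sum, mul_eq_zero] at h
    have h2 := h.resolve_left (inv_ne_zero Characters.natCard_ne_zero)
    refine Eq.trans ?_ (mul_eq_zero_of_right ((Nat.card G : ℂ)⁻¹ * (χ : G → ℂ) 1) h2)
    rw [Finset.mul_sum]
    exact Finset.sum_congr rfl fun n _ => by rw [map_mul, Complex.conj_conj]; ring
  · simp

/-- The constituents of the principal block lie in the principal block. -/
theorem constituent_mem_principal (N : Subgroup G) [N.Normal] [Fintype N]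
    {χ : IrrCharacter G} (hχ : χ ∈ Cfsg.principalBlock M G) {θ : IrrCharacter N}
    (h : Cfsg.classInner (fun n : N => (χ : G → ℂ) n) (θ : N → ℂ) ≠ 0) :
    θ ∈ Cfsg.principalBlock M N := by
  have hcov : Cfsg.classInner (fun n : N => (trivialIrr G : G → ℂ) n) (trivialIrr N : N → ℂ) ≠ 0 := by
    have := Characters.classInner_isIrr_self (trivialIrr N).2
    show Cfsg.classInner (trivialIrr N : N → ℂ) _ ≠ 0
    rw [this]; exact one_ne_zero
  obtain ⟨g, φ, hφ, rfl⟩ := BlocksLocal.mem_coverSet_of_covers (M := M) N isPBlock_principalBlock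
    isPBlock_principalBlock (mem_blockOf_self (trivialIrr G)) (mem_blockOf_self (trivialIrr N))
    hcov hχ h
  exact BlocksLocal.sameBlock_conjIrr N (θ := trivialIrr N) hφ g

end CfsgLib.PrincipalNormal
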