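import Cfsg.Agent.BlockPairs.Contributions
import Cfsg.Prelude.Def_BlockRank

/-!
# The span of the restrictions of a block to the p-regular elements

`p ^ d` times the restriction of a member is the combination of the members with coefficients
`contrib`, and the rank of the span is the trace of the matrix `[χ, ψ]°`.
-/

set_option autoImplicit false
set_option linter.unusedSectionVars false
set_option linter.style.haveILetI false

namespace CfsgLib.Contributions

open Cfsg
open CfsgLib.Blocks CfsgLib.BlockPairing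
open scoped ComplexConjugate

universe u

variable {G : Type u} [Group G] [Fintype G] {p : ℕ}

theorem pRegularPart_eq_regPart (p : ℕ) (θ : G → ℂ) :
    Cfsg.pRegularPart p θ = BlocksLocal.regPart p θ := by
  funext g
  simp only [Cfsg.pRegularPart, BlocksLocal.regPart, Cfsg.IsPRegular]
  split_ifs <;> simp_all

theorem pRegularPart_sum {ι : Type*} (s : Finset ι) (c : ι → ℂ) (f : ι → G → ℂ) :
    Cfsg.pRegularPart p (∑ i ∈ s, c i • f i) = ∑ i ∈ s, c i • Cfsg.pRegularPart p (f i) := by
  funext g
  simp only [Cfsg.pRegularPart, Finset.sum_apply, Pi.smul_apply, smul_eq_mul]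
  split_ifs <;> simp

theorem pRegularPart_idem (p : ℕ) (θ : G → ℂ) :
    Cfsg.pRegularPart p (Cfsg.pRegularPart p θ) = Cfsg.pRegularPart p θ := by
  funext g
  simp only [Cfsg.pRegularPart]
  split_ifs <;> rfl

theorem classInner_pRegularPart (p : ℕ) (χ ψ : G → ℂ) :
    Cfsg.classInner (Cfsg.pRegularPart p χ) ψ = regInner p χ ψ := by
  rw [regInner_eq_classInner, pRegularPart_eq_regPart]

variable [hp : Fact p.Prime] {M : Ideal AlgInt} [M.IsPrime] (hM : Cfsg.IsPModular p M)
  {B : Set (IrrCharacter G)} (hB : Cfsg.IsPBlock M B)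
include hM hB

open Classical in
theorem pRegularPart_expansion {χ : IrrCharacter G} (hχ : χ ∈ B) :
    Cfsg.pRegularPart p (χ : G → ℂ) =
      ∑ ψ ∈ B.toFinset, regInner p (χ : G → ℂ) ψ • (ψ : G → ℂ) := by
  have hc : Cfsg.IsClassFunction G (Cfsg.pRegularPart p (χ : G → ℂ)) := by
    rw [pRegularPart_eq_regPart]
    exact BlocksLocal.isClassFunction_regPart (Characters.isClassFunction_of_isIrr χ.2)
  conv_lhs => rw [Characters.classFunction_expansion hc]
  simp only [classInner_pRegularPart]
  refine (Finset.sum_subset (Finset.subset_univ B.toFinset) fun ψ _ h => ?_).symm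
  rw [regInner_eq_zero hM hB hχ (fun hh => h (Set.mem_toFinset.2 hh)), zero_smul]

open Classical in
theorem pow_defect_pRegularPart {χ : IrrCharacter G} (hχ : χ ∈ B) :
    ((p ^ Cfsg.blockDefect p B : ℕ) : ℂ) • Cfsg.pRegularPart p (χ : G → ℂ) =
      ∑ ψ ∈ B.toFinset, (contrib p B χ ψ : ℂ) • (ψ : G → ℂ) := by
  rw [pRegularPart_expansion hM hB hχ, Finset.smul_sum]
  exact Finset.sum_congr rfl fun ψ _ => by rw [smul_smul, cast_contrib hχ]

open Classical in
/-- The rank of the span is the trace of the form. -/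
theorem blockRank_eq_sum :
    (Cfsg.blockRank p B : ℂ) = ∑ χ ∈ B.toFinset, regInner p (χ : G → ℂ) χ := by
  let φ : IrrCharacter G → ((G → ℂ) →ₗ[ℂ] ℂ) := fun χ =>
    { toFun := fun θ => Cfsg.classInner θ (χ : G → ℂ)
      map_add' := fun θ η => by
        simp only [Cfsg.classInner, Pi.add_apply, add_mul, Finset.sum_add_distrib, mul_add]
      map_smul' := fun c θ => by
        simp only [Cfsg.classInner, Pi.smul_apply, smul_eq_mul, RingHom.id_apply, Finset.mul_sum]
        exact Finset.sum_congr rfl fun g _ => by ring }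
  have hφ : ∀ χ θ, φ χ θ = Cfsg.classInner θ (χ : G → ℂ) := fun _ _ => rfl
  let P : (G → ℂ) →ₗ[ℂ] (G → ℂ) :=
    ∑ χ ∈ B.toFinset, (φ χ).smulRight (Cfsg.pRegularPart p (χ : G → ℂ))
  set W := Submodule.span ℂ ((fun χ : IrrCharacter G => Cfsg.pRegularPart p (χ : G → ℂ)) '' B)
  have hmem : ∀ θ, P θ ∈ W := fun θ => by
    simp only [P, LinearMap.sum_apply, LinearMap.smulRight_apply]
    exact Submodule.sum_mem _ fun χ hχ => Submodule.smul_mem _ _
      (Submodule.subset_span ⟨χ, Set.mem_toFinset.1 hχ, rfl⟩)
  have hfix : ∀ θ ∈ W, P θ = θ := by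
    intro θ hθ
    induction hθ using Submodule.span_induction with
    | mem x hx =>
      obtain ⟨χ, hχ, rfl⟩ := hx
      simp only [P, LinearMap.sum_apply, LinearMap.smulRight_apply, hφ, classInner_pRegularPart]
      rw [← pRegularPart_sum, ← pRegularPart_expansion hM hB hχ, pRegularPart_idem]
    | zero => exact map_zero P
    | add x y _ _ h1 h2 => rw [map_add, h1, h2]
    | smul c x _ h1 => rw [map_smul, h1]
  have h := LinearMap.IsProj.trace (p := W) (f := P) ⟨hmem, hfix⟩
  rw [Cfsg.blockRank, ← h]
  simp only [P, map_sum, LinearMap.trace_smulRight, hφ, classInner_pRegularPart]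

end CfsgLib.Contributions
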