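import Cfsg.Agent.BlockPairing.MajorSubsection
import Cfsg.Prelude.Def_BrauerPairs

/-!
# The norm of a subsection

For a block `e` of `C(u)` under the block `B`, the squared norms of the `e`-parts of the
translates by `u` of the members of `B`, on the regular elements, add up to the rank of `e`.
-/

set_option autoImplicit false
set_option linter.style.haveILetI false
set_option linter.unusedSectionVars false

namespace CfsgLib.SubsectionNorm

open CfsgLib.Blocks CfsgLib.BlockPairing CfsgLib.MajorSubsection Cfsg
open scoped ComplexConjugate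

universe u

variable {G : Type u} [Group G] [Fintype G] {M : Ideal AlgInt} [M.IsPrime] {p : ℕ}
  [Fact p.Prime]

/-- The condition on a Brauer pair of a block, through the reduced central character. -/
theorem omegaBar_resCtr_eq_one {H : Subgroup G} [Fintype H] {B : Set (IrrCharacter G)}
    (hB : IsBlockUnion M B) (ξ : IrrCharacter H)
    (h : Cfsg.MemLocalIdeal M
      ((∑ᶠ x : H, Cfsg.blockCoeff B (x : G) * (ξ : H → ℂ) x / (ξ : H → ℂ) 1) - 1)) :
    omegaBar M ξ (resCtr H (idemBar M B hB)) = 1 := by
  rw [idemBar, redCtr, ← mapCtr_resCtr, ← redCtr, omegaBar_redCtr, ← map_one (red M),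
    ← sub_eq_zero, ← map_sub, red_eq_zero_iff]
  convert h using 1
  push_cast
  rw [ coe_omegaO, omega_apply, finsum_eq_sum_of_fintype,
    Finset.sum_div]
  simp [toC, setIdemO]

/-- The `b`-part of `d ↦ f d` at a regular element, through the regular inner products. -/
theorem blockPart_regular_eq (hM : Cfsg.IsPModular p M) {H : Type u} [Group H] [Fintype H]
    {b : Set (IrrCharacter H)} [DecidablePred (· ∈ b)] (hb : IsBlockUnion M b) {f : H → ℂ}
    (hf : Cfsg.IsClassFunction H f) {s : H} (hs : ¬ p ∣ orderOf s) :
    Cfsg.blockPart b f s =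
      ∑ ξ : IrrCharacter H, if ξ ∈ b then regInner p f ξ * (ξ : H → ℂ) s else 0 := by
  classical
  rw [Cfsg.blockPart, finsum_irr_mem,
    show Fintype.ofFinite H = ‹Fintype H› from Subsingleton.elim _ _]
  refine Eq.trans ?_ (((sum_union_regInner_mul hM hb hf hs).symm).trans ?_)
  · exact Finset.sum_congr rfl fun ξ _ => by split_ifs <;> rfl
  · exact Finset.sum_congr rfl fun ξ _ => by split_ifs <;> rfl

/-- A class function with vanishing `b`-part on the regular elements pairs to zero with `b`. -/
theorem regInner_eq_zero_of_blockPart (hM : Cfsg.IsPModular p M) {H : Type u} [Group H]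
    [Fintype H] {b : Set (IrrCharacter H)} (hb : Cfsg.IsPBlock M b) {f : H → ℂ}
    (hf : Cfsg.IsClassFunction H f) (hvan : ∀ s : H, ¬ p ∣ orderOf s → Cfsg.blockPart b f s = 0)
    {φ : IrrCharacter H} (hφ : φ ∈ b) : regInner p f (φ : H → ℂ) = 0 := by
  classical
  have hexp : f = fun h => ∑ η : IrrCharacter H, Cfsg.classInner f η * (η : H → ℂ) h := by
    funext h
    have := congrFun (Characters.classFunction_expansion hf) h
    simpa [Finset.sum_apply] using this
  have h1 : regInner p f (φ : H → ℂ) = ∑ η : IrrCharacter H,
      (if η ∈ b then Cfsg.classInner f η * regInner p (η : H → ℂ) φ else 0) := by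
    conv_lhs => rw [hexp, regInner_sum_left]
    refine Finset.sum_congr rfl fun η _ => ?_
    split_ifs with h
    · rfl
    · rw [regInner_eq_zero_of_not_mem hM hb h hφ, mul_zero]
  have h2 : regInner p (Cfsg.blockPart b f) (φ : H → ℂ) = ∑ η : IrrCharacter H,
      (if η ∈ b then Cfsg.classInner f η * regInner p (η : H → ℂ) φ else 0) := by
    rw [show Cfsg.blockPart b f = fun h => ∑ η : IrrCharacter H,
      (if η ∈ b then Cfsg.classInner f η else 0) * (η : H → ℂ) h from funext fun h => by
        rw [Cfsg.blockPart, finsum_irr_mem,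
          show Fintype.ofFinite H = ‹Fintype H› from Subsingleton.elim _ _]
        exact Finset.sum_congr rfl fun η _ => by split_ifs <;> simp, regInner_sum_left]
    exact Finset.sum_congr rfl fun η _ => by split_ifs <;> simp
  rw [h1, ← h2, regInner, Finset.sum_eq_zero, mul_zero]
  intro g _
  split_ifs with hg
  · rfl
  · rw [hvan g hg, zero_mul]

open Classical in
/-- The regular inner products of a union of blocks form a projection. -/
theorem sum_regInner_mul_regInner (hM : Cfsg.IsPModular p M) {H : Type u} [Group H] [Fintype H]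
    {b : Set (IrrCharacter H)} (hb : IsBlockUnion M b) {ξ : IrrCharacter H} (hξ : ξ ∈ b) :
    ∑ η : IrrCharacter H, (if η ∈ b then regInner p (ξ : H → ℂ) η * regInner p (η : H → ℂ) ξ
      else 0) = regInner p (ξ : H → ℂ) ξ := by
  have h0 : ∀ s : H, ¬ p ∣ orderOf s →
      ∑ η : IrrCharacter H, (if η ∈ b then regInner p (ξ : H → ℂ) η * (η : H → ℂ) s else 0) =
        (ξ : H → ℂ) s := by
    intro s hs
    rw [sum_union_regInner_mul hM hb (Characters.isClassFunction_of_isIrr ξ.2) hs,
      Finset.sum_eq_single ξ (fun η _ hne => by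
        rw [Characters.classInner_irr, if_neg hne.symm]; simp) (by simp),
      if_pos hξ, Characters.classInner_irr, if_pos rfl, one_mul]
  conv_rhs => rw [regInner]
  calc ∑ η : IrrCharacter H, (if η ∈ b then regInner p (ξ : H → ℂ) η * regInner p (η : H → ℂ) ξ
        else 0)
      = ∑ η : IrrCharacter H, (if η ∈ b then regInner p (ξ : H → ℂ) η else 0) *
          regInner p (η : H → ℂ) ξ := Finset.sum_congr rfl fun η _ => by split_ifs <;> simp
    _ = regInner p (fun s => ∑ η : IrrCharacter H,
          (if η ∈ b then regInner p (ξ : H → ℂ) η else 0) * (η : H → ℂ) s) (ξ : H → ℂ) :=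
        (regInner_sum_left p _ _ _ _).symm
    _ = _ := by
        rw [regInner]
        congr 1
        refine Finset.sum_congr rfl fun s _ => ?_
        split_ifs with hs
        · rfl
        · rw [← h0 s hs]
          congr 1
          exact Finset.sum_congr rfl fun η _ => by split_ifs <;> simp

open Classical in
/-- The norms of a subsection add up to its rank. -/
theorem sum_norm (hM : Cfsg.IsPModular p M) {u : G} (hu : ∃ k, orderOf u = p ^ k)
    [Fintype ↥(Subgroup.centralizer ({u} : Set G))] {B : Set (IrrCharacter G)}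
    (hB : Cfsg.IsPBlock M B)
    {e : Set (IrrCharacter ↥(Subgroup.centralizer ({u} : Set G)))} (he : Cfsg.IsPBlock M e)
    (hone : ∀ ξ ∈ e, omegaBar M ξ
      (resCtr (Subgroup.centralizer ({u} : Set G)) (idemBar M B (isBlockUnion_of_isPBlock hB))) = 1) :
    ∑ χ : IrrCharacter G, (if χ ∈ B then
      ∑ s : ↥(Subgroup.centralizer ({u} : Set G)), (if p ∣ orderOf s then 0 else
        Cfsg.blockPart e (fun c : ↥(Subgroup.centralizer ({u} : Set G)) =>
            (χ : G → ℂ) (u * (c : G))) s *
          conj (Cfsg.blockPart e (fun c : ↥(Subgroup.centralizer ({u} : Set G)) =>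
            (χ : G → ℂ) (u * (c : G))) s)) else 0) =
      (Nat.card ↥(Subgroup.centralizer ({u} : Set G)) : ℂ) * (Cfsg.blockRank p e : ℂ) := by
  let f : IrrCharacter G → ↥(Subgroup.centralizer ({u} : Set G)) → ℂ := fun χ c =>
    (χ : G → ℂ) (u * (c : G))
  have hfc : ∀ χ, Cfsg.IsClassFunction _ (f χ) := fun χ =>
    isClassFunction_translate _ (Characters.isClassFunction_of_isIrr χ.2) u
  have heu := isBlockUnion_of_isPBlock he
  have hBu := isBlockUnion_of_isPBlock hB
  -- only the members of `B` meet `e` on the section
  have hvan : ∀ χ, χ ∉ B → ∀ s : ↥(Subgroup.centralizer ({u} : Set G)), ¬ p ∣ orderOf s →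
      Cfsg.blockPart e (f χ) s = 0 := by
    intro χ hχ s hs
    show Cfsg.blockPart e (fun c : ↥(Subgroup.centralizer ({u} : Set G)) =>
      (χ : G → ℂ) (u * (c : G))) s = 0
    rw [blockPart_translate _ (Characters.isClassFunction_of_isIrr χ.2)]
    refine second_main hM (h := ⟨u, Subgroup.mem_centralizer_singleton_iff.2 rfl⟩ * s)
      (fun w hw => hC_of_mul hu hs le_rfl w hw) heu (isBlockUnion_compl hBu) (fun ξ hξ => ?_) hχ
    have h1 : omegaBar M ξ (resCtr _ (idemBar M B hBu)) +
        omegaBar M ξ (resCtr _ (idemBar M Bᶜ (isBlockUnion_compl hBu))) = 1 := by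
      rw [← map_add, ← map_add, idemBar_add_compl, resCtr_one, map_one]
    rw [hone ξ hξ] at h1
    linear_combination h1
  -- expand
  calc _ = ∑ χ : IrrCharacter G, ∑ s : ↥(Subgroup.centralizer ({u} : Set G)),
        (if p ∣ orderOf s then 0 else
          ∑ ξ : IrrCharacter ↥(Subgroup.centralizer ({u} : Set G)),
          ∑ η : IrrCharacter ↥(Subgroup.centralizer ({u} : Set G)),
            if ξ ∈ e ∧ η ∈ e then regInner p (f χ) ξ * conj (regInner p (f χ) η) *
              ((ξ : ↥(Subgroup.centralizer ({u} : Set G)) → ℂ) s * conj ((η : ↥(Subgroup.centralizer ({u} : Set G)) → ℂ) s)) else 0) := by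
        refine Finset.sum_congr rfl fun χ _ => ?_
        by_cases hχ : χ ∈ B
        · rw [if_pos hχ]
          refine Finset.sum_congr rfl fun s _ => ?_
          split_ifs with hs
          · rfl
          · rw [blockPart_regular_eq hM heu (hfc χ) hs, map_sum, Finset.sum_mul_sum]
            refine Finset.sum_congr rfl fun ξ _ => Finset.sum_congr rfl fun η _ => ?_
            by_cases h1 : ξ ∈ e <;> by_cases h2 : η ∈ e <;> simp [h1, h2, f] <;> ring
        · rw [if_neg hχ, eq_comm]
          refine Finset.sum_eq_zero fun s _ => ?_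
          split_ifs with hs
          · rfl
          · refine Finset.sum_eq_zero fun ξ _ => Finset.sum_eq_zero fun η _ => ?_
            split_ifs with h
            · rw [regInner_eq_zero_of_blockPart hM he (hfc χ) (hvan χ hχ) h.1]
              simp
            · rfl
    _ = ∑ ξ : IrrCharacter ↥(Subgroup.centralizer ({u} : Set G)),
        ∑ η : IrrCharacter ↥(Subgroup.centralizer ({u} : Set G)),
          if ξ ∈ e ∧ η ∈ e then
            (∑ χ : IrrCharacter G, regInner p (f χ) ξ * conj (regInner p (f χ) η)) *
              ((Nat.card ↥(Subgroup.centralizer ({u} : Set G)) : ℂ) *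
                regInner p (ξ : ↥(Subgroup.centralizer ({u} : Set G)) → ℂ) η) else 0 := by
        have hpull : ∀ (χ : IrrCharacter G) (s : ↥(Subgroup.centralizer ({u} : Set G))),
            (if p ∣ orderOf s then (0 : ℂ) else
              ∑ ξ : IrrCharacter ↥(Subgroup.centralizer ({u} : Set G)),
              ∑ η : IrrCharacter ↥(Subgroup.centralizer ({u} : Set G)),
                if ξ ∈ e ∧ η ∈ e then regInner p (f χ) ξ * conj (regInner p (f χ) η) *
                  ((ξ : ↥(Subgroup.centralizer ({u} : Set G)) → ℂ) s * conj ((η : ↥(Subgroup.centralizer ({u} : Set G)) → ℂ) s)) else 0) =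
              ∑ ξ : IrrCharacter ↥(Subgroup.centralizer ({u} : Set G)),
              ∑ η : IrrCharacter ↥(Subgroup.centralizer ({u} : Set G)),
                if ξ ∈ e ∧ η ∈ e then regInner p (f χ) ξ * conj (regInner p (f χ) η) *
                  (if p ∣ orderOf s then 0 else (ξ : ↥(Subgroup.centralizer ({u} : Set G)) → ℂ) s * conj ((η : ↥(Subgroup.centralizer ({u} : Set G)) → ℂ) s)) else 0 := by
          intro χ s
          split_ifs with hs
          · simp
          · rfl
        simp only [hpull]
        rw [Finset.sum_congr rfl fun χ _ => Finset.sum_comm, Finset.sum_comm]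
        refine Finset.sum_congr rfl fun ξ _ => ?_
        rw [Finset.sum_congr rfl fun χ _ => Finset.sum_comm, Finset.sum_comm]
        refine Finset.sum_congr rfl fun η _ => ?_
        split_ifs with h
        · rw [Finset.sum_mul]
          refine Finset.sum_congr rfl fun χ _ => ?_
          rw [← Finset.mul_sum]
          congr 1
          rw [regInner, ← mul_assoc, mul_inv_cancel₀ (Nat.cast_ne_zero.2 Nat.card_pos.ne'),
            one_mul]
        · simp
    _ = ∑ ξ : IrrCharacter ↥(Subgroup.centralizer ({u} : Set G)),
        if ξ ∈ e then (Nat.card ↥(Subgroup.centralizer ({u} : Set G)) : ℂ) *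
          regInner p (ξ : ↥(Subgroup.centralizer ({u} : Set G)) → ℂ) ξ else 0 := by
        refine Finset.sum_congr rfl fun ξ _ => ?_
        by_cases hξ : ξ ∈ e
        · rw [if_pos hξ, ← sum_regInner_mul_regInner hM heu hξ, Finset.mul_sum]
          refine Finset.sum_congr rfl fun η _ => ?_
          by_cases hη : η ∈ e
          · rw [if_pos ⟨hξ, hη⟩, if_pos hη, sum_regInner_translate hu ξ η]
            ring
          · rw [if_neg (fun h => hη h.2), if_neg hη, mul_zero]
        · simp [hξ]
    _ = _ := by
        rw [blockRank_eq_sum hM heu, Finset.mul_sum]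
        exact Finset.sum_congr rfl fun ξ _ => by split_ifs <;> simp

end CfsgLib.SubsectionNorm
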