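import Cfsg.Agent.BlockPairs.Nilpotent
import Cfsg.Agent.Characters.Linear

/-!
# The third main theorem in the model

`aug` is the augmentation of the group algebra; the principal block of a subgroup is its block
with augmentation one.  Since maximal pairs are conjugate, `(Q, f)` is a pair of the principal
block exactly when `aug f = 1` (`blockHas_iff_aug`).
-/

set_option autoImplicit false
set_option linter.unusedSectionVars false
set_option linter.style.haveILetI false

namespace CfsgLib.BlockPairs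

section Model

variable {k : Type*} [Field k] {G : Type*} [Group G]

/-- The augmentation of the group algebra. -/
noncomputable def aug : GA k G →ₐ[k] k := MonoidAlgebra.lift k k G 1

theorem aug_eq_sum [Fintype G] (a : GA k G) : aug a = ∑ g, a.coeff g := by
  rw [aug, MonoidAlgebra.lift_apply, Finsupp.sum_fintype _ _ (by simp)]
  simp

variable [Finite G]

theorem aug_conjA (x : G) (a : GA k G) : aug (conjA k x a) = aug a := by
  haveI := Fintype.ofFinite G
  rw [aug_eq_sum, aug_eq_sum]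
  refine Fintype.sum_equiv (MulAut.conj x⁻¹).toEquiv _ _ fun g => ?_
  rw [conjA_coeff]
  simp [mul_assoc]

variable {p : ℕ} [hp : Fact p.Prime] [CharP k p]

theorem aug_br {Q : Subgroup G} (hQ : IsPGroup p Q) {a : GA k G} (ha : IsFixed Q a) :
    aug (br Q a) = aug a := by
  classical
  haveI := Fintype.ofFinite G
  letI : MulAction Q G :=
    { smul := fun u g => (u : G) * g * (u : G)⁻¹
      one_smul := fun g => show (1 : G) * g * (1 : G)⁻¹ = g by simp
      mul_smul := fun u v g => show ((u : G) * v) * g * ((u : G) * v)⁻¹ =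
        (u : G) * ((v : G) * g * (v : G)⁻¹) * (u : G)⁻¹ by group }
  rw [aug_eq_sum, aug_eq_sum, sum_eq_sum_fixed hQ (fun x : k => by simp [CharP.cast_eq_zero k p])
    (fun g => a.coeff g) (fun u g => ha.coeff' u.2 g), Finset.sum_filter]
  refine Finset.sum_congr rfl fun g _ => ?_
  by_cases hg : g ∈ Subgroup.centralizer (Q : Set G)
  · rw [br_coeff_mem Q a hg, if_pos fun u => ?_]
    show (u : G) * g * (u : G)⁻¹ = g
    rw [Subgroup.mem_centralizer_iff.1 hg u u.2, mul_inv_cancel_right]
  · rw [br_coeff_not_mem Q a hg, if_neg fun h => hg ?_]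
    refine Subgroup.mem_centralizer_iff.2 fun u hu => ?_
    have h1 : u * g * u⁻¹ = g := h ⟨u, hu⟩
    rwa [mul_inv_eq_iff_eq_mul] at h1

theorem IsBlock.aug_cases {H : Subgroup G} {e : GA k G} (he : IsBlock H e) :
    aug e = 0 ∨ aug e = 1 := by
  have h : aug e * aug e = aug e := by rw [← map_mul, he.idem]
  rcases mul_eq_zero.1 (show aug e * (aug e - 1) = 0 by rw [mul_sub, h, mul_one, sub_self]) with
    h | h
  · exact .inl h
  · exact .inr (sub_eq_zero.1 h)

theorem exists_aug_one (H : Subgroup G) : ∃ e : GA k G, IsBlock H e ∧ aug e = 1 := by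
  by_contra h
  simp only [not_exists, not_and] at h
  have h1 : aug (∑ e ∈ blocks k H, e) = (1 : k) := by rw [sum_blocks_eq_one, map_one]
  rw [map_sum, Finset.sum_eq_zero fun e he =>
    ((mem_blocks.1 he).aug_cases).resolve_right (h e (mem_blocks.1 he))] at h1
  exact zero_ne_one h1

theorem aug_one_unique {H : Subgroup G} {e e' : GA k G} (he : IsBlock H e) (he' : IsBlock H e')
    (h : aug e = 1) (h' : aug e' = 1) : e = e' :=
  he.eq_of_mul_ne_zero he' fun h0 => by
    have := congrArg aug h0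
    rw [map_mul, h, h', map_zero, one_mul] at this
    exact one_ne_zero this

theorem IsPair.blockHas_of_aug {H Q : Subgroup G} {b f : GA k G} (hb : IsBlock H b)
    (h : IsPair p H Q f) (hb1 : aug b = 1) (hf1 : aug f = 1) : BlockHas p H b Q f := by
  refine ⟨h, (h.2.2.dichotomy (br_mem_cent_block hb.mem)
    (br_idem h.2.1 (hb.fixed.mono h.1) hb.idem)).resolve_left fun h0 => ?_⟩
  have := congrArg aug h0
  rw [map_mul, aug_br h.2.1 (hb.fixed.mono h.1), hb1, hf1, map_zero, one_mul] at this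
  exact one_ne_zero this

theorem Step.aug_eq {H Q R : Subgroup G} {f g : GA k G} (h : Step p H (Q, f) (R, g))
    (hg : aug g = 1) : aug f = 1 := by
  obtain ⟨-, h2, -, -, hfix, h6⟩ := h
  have := congrArg aug h6
  rwa [map_mul, hg, mul_one, aug_br h2.2.1 hfix] at this

theorem Le.aug_eq {H Q R : Subgroup G} {f g : GA k G} (h : Le p H Q f R g) (hg : aug g = 1) :
    aug f = 1 := by
  suffices ∀ a c : Subgroup G × GA k G, Relation.ReflTransGen (Step p H) a c →
      aug c.2 = 1 → aug a.2 = 1 from this _ _ h hg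
  intro a c hac
  induction hac with
  | refl => exact id
  | tail _ hs ih => exact fun hc => ih (Step.aug_eq hs hc)

theorem BlockHas.aug_eq_of_aug {H Q : Subgroup G} {b f : GA k G} (hb : IsBlock H b)
    (h : BlockHas p H b Q f) (hf : aug f = 1) : aug b = 1 := by
  have := congrArg aug h.2
  rwa [map_mul, hf, mul_one, aug_br h.1.2.1 (hb.fixed.mono h.1.1)] at this

variable [IsAlgClosed k] {b : GA k G}

theorem isMaxPair_sylow (hb : IsBlock (⊤ : Subgroup G) b) (hb1 : aug b = 1) (S : Sylow p G)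
    {e : GA k G} (he : IsBlock (Subgroup.centralizer ((S : Subgroup G) : Set G)) e)
    (he1 : aug e = 1) : IsMaxPair p ⊤ b (S : Subgroup G) e := by
  have hpair : IsPair p ⊤ (S : Subgroup G) e := ⟨le_top, S.2, by rw [cent, top_inf_eq]; exact he⟩
  exact ⟨hpair.blockHas_of_aug hb hb1 he1, fun R g hR hle => S.3 hR.1.2.1 hle.subgroup_le⟩

/-- Brauer's third main theorem. -/
theorem blockHas_iff_aug (hb : IsBlock (⊤ : Subgroup G) b) (hb1 : aug b = 1) {Q : Subgroup G}
    {f : GA k G} (h : IsPair p ⊤ Q f) : BlockHas p ⊤ b Q f ↔ aug f = 1 := by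
  refine ⟨fun hQ => ?_, h.blockHas_of_aug hb hb1⟩
  obtain ⟨e, he, he1⟩ :=
    exists_aug_one (k := k) (Subgroup.centralizer ((default : Sylow p G) : Set G))
  obtain ⟨x, -, hx⟩ := exists_conj_le hb (isMaxPair_sylow hb hb1 default he he1) hQ
  rw [← aug_conjA x]
  exact hx.aug_eq he1

theorem conjA_eq_of_aug {Q : Subgroup G} {f : GA k G} (h : IsPair p ⊤ Q f) (hf : aug f = 1)
    {x : G} (hx : x ∈ Subgroup.normalizer (Q : Set G)) : conjA k x f = f := by
  have h' := h.conjA (x := x) trivial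
  rw [cj_eq_self hx] at h'
  exact aug_one_unique h'.2.2 h.2.2 (by rw [aug_conjA, hf]) hf

/-- Nilpotency of the principal block. -/
theorem nilp_principal_iff (hb : IsBlock (⊤ : Subgroup G) b) (hb1 : aug b = 1) :
    Nilp p ⊤ b ↔ ∀ Q : Subgroup G, IsPGroup p Q → ∀ x ∈ Subgroup.normalizer (Q : Set G),
      Cfsg.IsPRegular p x → x ∈ Subgroup.centralizer (Q : Set G) := by
  refine ⟨fun h Q hQ x hx hreg => ?_, fun h Q f hQ x hx => h Q hQ.1.2.1 x (stab_le_normalizer hx)⟩
  obtain ⟨f, hf, hf1⟩ := exists_aug_one (k := k) (Subgroup.centralizer (Q : Set G))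
  have hpair : IsPair p ⊤ Q f := ⟨le_top, hQ, by rw [cent, top_inf_eq]; exact hf⟩
  exact h Q f (hpair.blockHas_of_aug hb hb1 hf1) x
    ⟨⟨trivial, hx⟩, conjA_eq_of_aug hpair hf1 hx⟩ hreg

theorem mor_iff_of_aug {P Q : Subgroup G} {e : GA k G} (hPe : IsPair p ⊤ P e) (he1 : aug e = 1)
    {g : G} : Mor p P e Q g ↔ Q ≤ P ∧ cj g Q ≤ P := by
  refine ⟨fun h => ⟨h.source_le, h.target_le⟩, fun ⟨hQ, hgQ⟩ => ?_⟩
  obtain ⟨f, hf, hle⟩ := exists_below hPe hQ
  obtain ⟨f', hf', hle'⟩ := exists_below hPe hgQ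
  refine ⟨f, hle, ?_⟩
  rwa [aug_one_unique (hf.conjA trivial).2.2 hf'.2.2
    ((aug_conjA g f).trans (hle.aug_eq he1)) (hle'.aug_eq he1)]

end Model

section Bridge

open Cfsg
open CfsgLib.Blocks (Res Ctr red redCtr omegaBar idemBar)

universe u

variable {M : Ideal AlgInt} [M.IsPrime]

theorem aug_emb {k : Type*} [Field k] {X G : Type*} [Group X] [Group G] (φ : X →* G)
    (a : GA k X) : aug (emb φ a) = aug a := by
  rw [aug, aug, emb, MonoidAlgebra.lift_apply, MonoidAlgebra.lift_apply]
  show (Finsupp.mapDomain φ a.coeff).sum _ = _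
  rw [Finsupp.sum_mapDomain_index (by simp) (by intros; simp [add_smul])]
  simp

theorem omegaBar_one {X : Type u} [Group X] [Fintype X] (χ : IrrCharacter X)
    (hχ : ∀ x : X, (χ : X → ℂ) x = 1) (z : Ctr (Res M) X) :
    omegaBar M χ z = ∑ x, (z : GA (Res M) X).coeff x := by
  obtain ⟨a, rfl⟩ := CfsgLib.Blocks.redCtr_surjective z
  rw [CfsgLib.Blocks.omegaBar_redCtr]
  have h : CfsgLib.Blocks.omegaO M χ a = ∑ x, (a : MonoidAlgebra (CfsgLib.Blocks.localRing M) X).coeff x := by
    refine Subtype.ext ?_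
    rw [CfsgLib.Blocks.coe_omegaO, CfsgLib.Blocks.omega_apply, AddSubmonoidClass.coe_finsetSum]
    simp [hχ, CfsgLib.Blocks.toC]
  rw [h, map_sum]
  simp [redCtr]

theorem isPBlock_principal (X : Type u) [Group X] [Finite X] :
    Cfsg.IsPBlock M (Cfsg.principalBlock M X) :=
  haveI := Fintype.ofFinite X
  CfsgLib.Blocks.isPBlock_blockOf (M := M)
    (⟨fun _ : X => 1, CfsgLib.Characters.isIrr_one⟩ : IrrCharacter X)

theorem aug_blkE_eq_one_iff {X : Type u} [Group X] [Finite X] {G : Type*} [Group G] (φ : X →* G)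
    {B : Set (IrrCharacter X)} (hB : Cfsg.IsPBlock M B) :
    aug (blkE M φ B) = 1 ↔ B = Cfsg.principalBlock M X := by
  classical
  haveI := Fintype.ofFinite X
  have hU := CfsgLib.Blocks.isBlockUnion_of_isPBlock hB
  let one : IrrCharacter X := ⟨fun _ => 1, CfsgLib.Characters.isIrr_one⟩
  rw [blkE_eq φ hU, aug_emb, aug_eq_sum, ← omegaBar_one one (fun _ => rfl),
    CfsgLib.Blocks.omegaBar_idemBar]
  have hmem : one ∈ Cfsg.principalBlock M X := CfsgLib.Blocks.mem_blockOf_self one
  constructor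
  · intro h
    split_ifs at h with h1
    · exact CfsgLib.Blocks.isPBlock_eq_of_mem hB (isPBlock_principal X) h1 hmem
    · exact absurd h zero_ne_one
  · rintro rfl
    rw [if_pos hmem]

variable {G : Type u} [Group G] [Finite G]

theorem aug_sblk_eq_one_iff {K : Subgroup G} {f : Set (IrrCharacter K)}
    (hf : Cfsg.IsPBlock M f) :
    aug (sblk M K f) = 1 ↔ f = Cfsg.principalBlock M K := aug_blkE_eq_one_iff K.subtype hf

theorem aug_gblk_eq_one_iff {B : Set (IrrCharacter G)} (hB : Cfsg.IsPBlock M B) :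
    aug (gblk M B) = 1 ↔ B = Cfsg.principalBlock M G :=
  aug_blkE_eq_one_iff (MonoidHom.id G) hB

variable {p : ℕ} [hp : Fact p.Prime] [CharP (Res M) p] [IsAlgClosed (Res M)]

theorem isBrauerPairOf_principal_iff {Q : Subgroup G} (hQ : IsPGroup p Q)
    {e : Set (IrrCharacter (Subgroup.centralizer (Q : Set G)))} (he : Cfsg.IsPBlock M e) :
    Cfsg.IsBrauerPairOf p M (Cfsg.principalBlock M G) Q e ↔
      e = Cfsg.principalBlock M (Subgroup.centralizer (Q : Set G)) := by
  have hB := isPBlock_principal (M := M) G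
  rw [isBrauerPairOf_iff hB he, blockHas_iff_aug (isBlock_gblk hB)
    ((aug_gblk_eq_one_iff hB).2 rfl) ((isBrauerPair_iff he).1 ⟨hQ, he⟩), aug_sblk_eq_one_iff he]

end Bridge

end CfsgLib.BlockPairs
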