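import Cfsg.Agent.BlockPairs.Bridge
import Cfsg.Prelude.Def_BrauerPairs

/-!
# Transport of blocks along isomorphisms
-/

set_option autoImplicit false
set_option linter.unusedSectionVars false
set_option linter.style.haveILetI false

namespace CfsgLib.BlockPairs

open Cfsg
open scoped ComplexConjugate

universe u v

variable {X : Type u} [Group X] {Y : Type v} [Group Y]

/-- Composition of an irreducible character with an isomorphism. -/
noncomputable def irrComp (e : X ≃* Y) (ξ : IrrCharacter Y) : IrrCharacter X :=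
  ⟨fun x => (ξ : Y → ℂ) (e x),
    CfsgLib.Characters.isIrr_comp e.toMonoidHom e.surjective ξ.2⟩

theorem irrComp_apply (e : X ≃* Y) (ξ : IrrCharacter Y) (x : X) :
    (irrComp e ξ : X → ℂ) x = (ξ : Y → ℂ) (e x) := rfl

theorem irrComp_symm (e : X ≃* Y) (ξ : IrrCharacter X) : irrComp e (irrComp e.symm ξ) = ξ :=
  Subtype.ext (funext fun x => by simp [irrComp_apply])

/-- The image of a set of irreducible characters under an isomorphism. -/
def imageSet (e : X ≃* Y) (f : Set (IrrCharacter X)) : Set (IrrCharacter Y) :=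
  {ξ | irrComp e ξ ∈ f}

theorem imageSet_symm_imageSet (e : X ≃* Y) (f : Set (IrrCharacter X)) :
    imageSet e.symm (imageSet e f) = f := Set.ext fun ξ => by
  show irrComp e (irrComp e.symm ξ) ∈ f ↔ ξ ∈ f
  rw [irrComp_symm]

theorem irrComp_injective (e : X ≃* Y) : Function.Injective (irrComp e) := fun ξ η h =>
  Subtype.ext (funext fun y => by
    have := congrArg (fun t : IrrCharacter X => (t : X → ℂ) (e.symm y)) h
    simpa [irrComp_apply] using this)

theorem blockCoeff_imageSet [Finite X] [Finite Y] (e : X ≃* Y) (f : Set (IrrCharacter X)) (y : Y) :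
    Cfsg.blockCoeff (imageSet e f) y = Cfsg.blockCoeff f (e.symm y) := by
  rw [Cfsg.blockCoeff, Cfsg.blockCoeff, Nat.card_congr e.toEquiv]
  congr 1
  refine finsum_mem_eq_of_bijOn (irrComp e) ⟨fun ξ hξ => hξ, (irrComp_injective e).injOn,
    fun ξ hξ => ⟨irrComp e.symm ξ, by show irrComp e (irrComp e.symm ξ) ∈ f; rwa [irrComp_symm],
      irrComp_symm e ξ⟩⟩ fun ξ _ => ?_
  simp [irrComp_apply]

theorem isPBlock_imageSet {M : Ideal AlgInt} [M.IsPrime] [Finite X] [Finite Y] (e : X ≃* Y)
    {f : Set (IrrCharacter X)} (hf : Cfsg.IsPBlock M f) : Cfsg.IsPBlock M (imageSet e f) := by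
  haveI := Fintype.ofFinite X
  haveI := Fintype.ofFinite Y
  have hU : CfsgLib.Blocks.IsBlockUnion M (imageSet e f) :=
    CfsgLib.Blocks.isBlockUnion_of_memLocalRing fun y => by
      rw [blockCoeff_imageSet]
      exact CfsgLib.Blocks.memLocalRing_blockCoeff (CfsgLib.Blocks.isBlockUnion_of_isPBlock hf) _
  obtain ⟨χ, hχ⟩ := CfsgLib.Blocks.isPBlock_nonempty hf
  set χ' := irrComp e.symm χ
  have hχ' : χ' ∈ imageSet e f := by
    show irrComp e (irrComp e.symm χ) ∈ f
    rwa [irrComp_symm]
  refine ⟨χ', Set.Subset.antisymm ?_ (hU χ' hχ')⟩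
  have hU' : CfsgLib.Blocks.IsBlockUnion M (imageSet e.symm (Cfsg.blockOf M (χ' : Y → ℂ))) :=
    CfsgLib.Blocks.isBlockUnion_of_memLocalRing fun x => by
      rw [blockCoeff_imageSet]
      exact CfsgLib.Blocks.memLocalRing_blockCoeff (CfsgLib.Blocks.isBlockUnion_of_isPBlock
        (CfsgLib.Blocks.isPBlock_blockOf χ')) _
  intro ξ hξ
  have h1 := hU' χ (CfsgLib.Blocks.mem_blockOf_self χ')
  rw [← CfsgLib.Blocks.eq_blockOf_of_mem hf hχ] at h1
  have h2 : irrComp e.symm (irrComp e ξ) ∈ Cfsg.blockOf M (χ' : Y → ℂ) := h1 hξ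
  have h3 : irrComp e.symm (irrComp e ξ) = ξ :=
    Subtype.ext (funext fun y => by simp [irrComp_apply])
  rwa [h3] at h2

variable {G : Type*} [Group G]

/-- Conjugation as an isomorphism between a subgroup and its conjugate. -/
def conjIso (K K' : Subgroup G) (x : G) (h : cj x K = K') : K ≃* K' :=
  ((MulAut.conj x).subgroupMap K).trans (MulEquiv.subgroupCongr h)

theorem conjIso_apply (K K' : Subgroup G) (x : G) (h : cj x K = K') (k : K) :
    ((conjIso K K' x h k : K') : G) = x * (k : G) * x⁻¹ := rfl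

theorem conjIso_symm_apply (K K' : Subgroup G) (x : G) (h : cj x K = K') (k : K') :
    (((conjIso K K' x h).symm k : K) : G) = x⁻¹ * (k : G) * x := by
  conv_rhs => rw [← (conjIso K K' x h).apply_symm_apply k, conjIso_apply]
  group

end CfsgLib.BlockPairs
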