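import Cfsg.Agent.S0887
import Cfsg.Agent.BlocksLocal.Covering
import Cfsg.Agent.Blocks.Height

/-!
# Degrees of constituents below a character of defect zero

`factorization_le_add_index` bounds the p-part of a degree by that of a constituent on a normal
subgroup and the index; hence a group with a character of defect zero has no non-trivial normal
p-subgroup (`eq_bot_of_defect_zero`).
-/

set_option autoImplicit false
set_option linter.unusedSectionVars false
set_option linter.style.haveILetI false

namespace CfsgLib.Weight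

open Cfsg

universe u

variable {G : Type u} [Group G] [Fintype G] {p : ℕ} [hp : Fact p.Prime]

theorem factorization_le_add_index (N : Subgroup G) [N.Normal] [Fintype N] (χ : IrrCharacter G)
    (η : IrrCharacter N)
    (hcon : Cfsg.classInner (fun n : N => (χ : G → ℂ) n) (η : N → ℂ) ≠ 0) :
    (Cfsg.charDegree (χ : G → ℂ)).factorization p ≤
      (Cfsg.charDegree (η : N → ℂ)).factorization p + N.index.factorization p := by
  obtain ⟨hdvd, hidx⟩ := Cfsg.Agent.S0887.result N χ χ.2 η η.2 hcon _ _
    (Blocks.charDegree_cast χ).symm (Blocks.charDegree_cast η).symm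
  have h : Cfsg.charDegree (χ : G → ℂ) ∣ Cfsg.charDegree (η : N → ℂ) * N.index := by
    conv_lhs => rw [← Nat.mul_div_cancel' hdvd]
    exact mul_dvd_mul_left _ hidx
  have := (Nat.factorization_le_iff_dvd (Blocks.charDegree_ne_zero χ)
    (mul_ne_zero (Blocks.charDegree_ne_zero η) Subgroup.index_ne_zero_of_finite)).2 h p
  rwa [Nat.factorization_mul (Blocks.charDegree_ne_zero η) Subgroup.index_ne_zero_of_finite,
    Finsupp.add_apply] at this

theorem eq_bot_of_defect_zero (R : Subgroup G) [R.Normal] (hR : IsPGroup p R) (χ : IrrCharacter G)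
    (hdeg : (Nat.card G).factorization p ≤ (Cfsg.charDegree (χ : G → ℂ)).factorization p) :
    R = ⊥ := by
  classical
  haveI := Fintype.ofFinite R
  obtain ⟨η, hη⟩ := BlocksLocal.exists_constituent R χ
  obtain ⟨r, hr⟩ := IsPGroup.iff_card.1 hR
  have h := factorization_le_add_index (p := p) R χ η hη
  have hle := hdeg.trans h
  rw [← R.card_mul_index, Nat.factorization_mul Nat.card_pos.ne' Subgroup.index_ne_zero_of_finite,
    Finsupp.add_apply, hr, hp.out.factorization_pow, Finsupp.single_eq_same] at hle
  obtain ⟨a, har, ha⟩ := (Nat.dvd_prime_pow hp.out).1 (hr ▸ Blocks.charDegree_dvd_card η)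
  rw [ha, hp.out.factorization_pow, Finsupp.single_eq_same] at hle
  have hsq : (p ^ a) ^ 2 ≤ p ^ r := by
    rw [← ha, ← hr]
    have hs : ∑ ψ : IrrCharacter R, Cfsg.charDegree (ψ : R → ℂ) ^ 2 = Nat.card R := by
      apply Nat.cast_injective (R := ℂ)
      rw [Nat.cast_sum, ← Characters.sum_degree_sq]
      exact Finset.sum_congr rfl fun ψ _ => by rw [Nat.cast_pow, Blocks.charDegree_cast]
    rw [← hs]
    exact Finset.single_le_sum (f := fun ψ : IrrCharacter R => Cfsg.charDegree (ψ : R → ℂ) ^ 2)
      (fun _ _ => Nat.zero_le _) (Finset.mem_univ η)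
  rw [← pow_mul, Nat.pow_le_pow_iff_right hp.out.one_lt] at hsq
  exact Subgroup.eq_bot_of_card_eq R (by rw [hr, show r = 0 by omega, pow_zero])

end CfsgLib.Weight
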